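import Cfsg.Agent.Lib.Classical.UnionTwo.SpEven
import Cfsg.Agent.Lib.Classical.G2Quaternion

/-!
# `G₂` in characteristic two: the stabilisers of the two classes of trace one pairs
-/

set_option autoImplicit false
set_option linter.unusedSectionVars false

namespace CfsgLib.Classical.UnionTwo.G2Cover

open Matrix Cfsg.Lie CfsgLib.Classical.G2Quat

variable {F : Type*} [Field F] [CharP F 2]

local notation "O" => Fin 8 → F

theorem two0 : (2 : F) = 0 := CharTwo.two_eq_zero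

/-- The unit. -/
def uu : Fin 8 → F := ![1, 0, 0, 0, 0, 0, 0, 1]

/-- The trace. -/
def tt (x : Fin 8 → F) : F := x 0 + x 7

/-- The norm. -/
def nn (x : Fin 8 → F) : F := x 0 * x 7 + (x 1 * x 4 + x 2 * x 5 + x 3 * x 6)

theorem mul_uu (x : O) : zornMul x uu = x := by
  funext i; fin_cases i <;> simp [zornMul, uu, dot3, cross3]

theorem uu_mul (x : O) : zornMul uu x = x := by
  funext i; fin_cases i <;> simp [zornMul, uu, dot3, cross3]

theorem sq_eq (x : O) : zornMul x x = tt x • x + nn x • uu := by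
  funext i
  fin_cases i <;> simp [zornMul, uu, dot3, cross3, tt, nn] <;>
    first
      | ring1
      | linear_combination -(x 0 * x 7) * (two0 : (2 : F) = 0)

theorem map_uu (g : G2 F) : g.1.1 *ᵥ uu = uu := by
  have h := mem_G2.1 g.2 uu ((g.1⁻¹).1 *ᵥ uu)
  rw [uu_mul, Matrix.mulVec_mulVec, Units.mul_inv, Matrix.one_mulVec, mul_uu] at h
  exact h.symm

theorem g_inj (g : G2 F) : Function.Injective (fun x : O => g.1.1 *ᵥ x) :=
  Matrix.mulVec_injective_iff_isUnit.2 g.1.isUnit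

theorem g_inv (g : G2 F) (x : O) : (g⁻¹).1.1 *ᵥ (g.1.1 *ᵥ x) = x := by
  show (g.1⁻¹).1 *ᵥ _ = x
  rw [Matrix.mulVec_mulVec, Units.inv_mul, Matrix.one_mulVec]

theorem g_mul (g h : G2 F) (x : O) : (g * h).1.1 *ᵥ x = g.1.1 *ᵥ (h.1.1 *ᵥ x) := by
  rw [Matrix.mulVec_mulVec]; rfl

theorem tt_nn (g : G2 F) (x : O) : tt (g.1.1 *ᵥ x) = tt x ∧ nn (g.1.1 *ᵥ x) = nn x := by
  by_cases hx : ∃ c : F, x = c • uu
  · obtain ⟨c, rfl⟩ := hx
    rw [Matrix.mulVec_smul, map_uu]
    exact ⟨rfl, rfl⟩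
  have h := mem_G2.1 g.2 x x
  rw [sq_eq, sq_eq, Matrix.mulVec_add, Matrix.mulVec_smul, Matrix.mulVec_smul, map_uu] at h
  set y := g.1.1 *ᵥ x
  have h2 : (tt x - tt y) • y = (nn y - nn x) • uu := by
    rw [sub_smul, sub_smul]
    linear_combination (norm := module) h
  by_cases ht : tt x - tt y = 0
  · refine ⟨(sub_eq_zero.1 ht).symm, ?_⟩
    rw [ht, zero_smul, eq_comm, smul_eq_zero] at h2
    refine sub_eq_zero.1 (h2.resolve_right fun h0 => ?_)
    exact one_ne_zero (congrFun h0 0)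
  · exfalso
    refine hx ⟨(tt x - tt y)⁻¹ * (nn y - nn x), g_inj g ?_⟩
    show y = g.1.1 *ᵥ _
    rw [Matrix.mulVec_smul, map_uu, ← smul_smul, ← h2, smul_smul, inv_mul_cancel₀ ht, one_smul]

theorem nn_shift (x : O) (c : F) : nn (x + c • uu) = nn x + c * tt x + c ^ 2 := by
  simp [nn, tt, uu]; ring

theorem tt_shift (x : O) (c : F) : tt (x + c • uu) = tt x := by
  simp [tt, uu]
  linear_combination c * (two0 : (2 : F) = 0)

/-- The polar of the norm against a fixed vector. -/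
def pol (x y : Fin 8 → F) : F :=
  x 0 * y 7 + x 7 * y 0 + (x 1 * y 4 + x 4 * y 1 + (x 2 * y 5 + x 5 * y 2) + (x 3 * y 6 + x 6 * y 3))

theorem pol_inv (g : G2 F) (x y : O) : pol (g.1.1 *ᵥ x) (g.1.1 *ᵥ y) = pol x y := by
  have e : ∀ a b : O, pol a b = nn (a + b) - nn a - nn b := fun a b => by simp [pol, nn]; ring
  rw [e, e, ← Matrix.mulVec_add, (tt_nn g _).2, (tt_nn g _).2, (tt_nn g _).2]

/-- A trace one vector fixed up to the unit. -/
theorem exists_pair (g : G2 F) : ∃ e : O, tt e = 1 ∧ (g.1.1 *ᵥ e = e ∨ g.1.1 *ᵥ e = e + uu) := by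
  classical
  by_contra hcon
  push Not at hcon
  have key : ∀ (x : O) (c : F), g.1.1 *ᵥ x = x + c • uu → tt x = 0 := by
    intro x c hx
    by_contra ht
    have hn := (tt_nn g x).2
    rw [hx, nn_shift] at hn
    have hc : c = 0 ∨ c = tt x := by
      have h : c * (tt x + c) = 0 := by linear_combination hn
      exact (mul_eq_zero.1 h).imp id fun h' => (CharTwo.add_eq_zero.1 h').symm
    have he : tt ((tt x)⁻¹ • x) = 1 := by
      simp only [tt, Pi.smul_apply, smul_eq_mul, ← mul_add]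
      exact inv_mul_cancel₀ ht
    obtain ⟨h1, h2⟩ := hcon _ he
    rcases hc with rfl | rfl
    · exact h1 (by rw [Matrix.mulVec_smul, hx, zero_smul, add_zero])
    · exact h2 (by rw [Matrix.mulVec_smul, hx, smul_add, smul_smul, inv_mul_cancel₀ ht, one_smul])
  let tl : (Fin 8 → F) →ₗ[F] F :=
    { toFun := tt
      map_add' := fun a b => by simp [tt]; ring
      map_smul' := fun c a => by simp [tt]; ring }
  have hker : LinearMap.ker (Matrix.toLin' (g.1.1 - 1)) ≤ LinearMap.ker tl := by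
    intro x hx
    rw [LinearMap.mem_ker, Matrix.toLin'_apply, Matrix.sub_mulVec, Matrix.one_mulVec, sub_eq_zero] at hx
    exact key x 0 (by rw [hx, zero_smul, add_zero])
  obtain ⟨φ, hφ⟩ : tl ∈ LinearMap.range (Matrix.toLin' (g.1.1 - 1)).dualMap := by
    rw [LinearMap.range_dualMap_eq_dualAnnihilator_ker, Submodule.mem_dualAnnihilator]
    exact fun v hv => hker hv
  let b : Fin 8 → F := fun i => φ (Pi.single i 1)
  let y : O := ![b 7, b 4, b 5, b 6, b 1, b 2, b 3, b 0]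
  have hy : ∀ x, φ x = pol x y := fun x => by
    conv_lhs => rw [pi_eq_sum_univ' x, map_sum]
    simp [pol, y, b, Fin.sum_univ_eight]
    ring
  set w := (g⁻¹).1.1 *ᵥ y with hw
  have hgw : g.1.1 *ᵥ w = y := by
    rw [hw, ← g_mul, mul_inv_cancel]; exact Matrix.one_mulVec y
  have hlin : ∀ x : O, pol x w - pol x y = tt x := fun x => by
    have h1 := LinearMap.congr_fun hφ x
    rw [LinearMap.dualMap_apply, Matrix.toLin'_apply, Matrix.sub_mulVec, Matrix.one_mulVec, map_sub, hy, hy] at h1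
    rw [← pol_inv g x w, hgw]
    exact h1
  have hwy : w = y + (1 : F) • uu := by
    funext i
    have h := fun k : Fin 8 => hlin (Pi.single k 1)
    fin_cases i
    · have := h 7; simp [pol, tt] at this; simp [uu]; linear_combination this
    · have := h 4; simp [pol, tt] at this; simp [uu]; linear_combination this
    · have := h 5; simp [pol, tt] at this; simp [uu]; linear_combination this
    · have := h 6; simp [pol, tt] at this; simp [uu]; linear_combination this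
    · have := h 1; simp [pol, tt] at this; simp [uu]; linear_combination this
    · have := h 2; simp [pol, tt] at this; simp [uu]; linear_combination this
    · have := h 3; simp [pol, tt] at this; simp [uu]; linear_combination this
    · have := h 0; simp [pol, tt] at this; simp [uu]; linear_combination this
  have hgw' : g.1.1 *ᵥ w = w + (1 : F) • uu := by
    rw [hgw, hwy, add_assoc, ← add_smul, CharTwo.add_self_eq_zero, zero_smul, add_zero]
  have ht := key w 1 hgw'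
  have hn := (tt_nn g w).2
  rw [hgw', nn_shift, ht, mul_zero, add_zero, one_pow, add_eq_left] at hn
  exact one_ne_zero hn

/-! ### Automorphisms from three by three matrices -/

/-- The map on the algebra attached to a matrix of size three. -/
def actT (T : Matrix (Fin 3) (Fin 3) F) : (Fin 8 → F) →ₗ[F] (Fin 8 → F) where
  toFun x := ![x 0, (T *ᵥ zA F x) 0, (T *ᵥ zA F x) 1, (T *ᵥ zA F x) 2,
    (T.adjugateᵀ *ᵥ zB F x) 0, (T.adjugateᵀ *ᵥ zB F x) 1, (T.adjugateᵀ *ᵥ zB F x) 2, x 7]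
  map_add' x y := by funext i; fin_cases i <;> simp [Matrix.mulVec, dotProduct, Fin.sum_univ_three] <;> ring
  map_smul' c x := by funext i; fin_cases i <;> simp [Matrix.mulVec, dotProduct, Fin.sum_univ_three] <;> ring

theorem actT_apply (T : Matrix (Fin 3) (Fin 3) F) (x : O) :
    actT T x = ![x 0, (T *ᵥ zA F x) 0, (T *ᵥ zA F x) 1, (T *ᵥ zA F x) 2,
      (T.adjugateᵀ *ᵥ zB F x) 0, (T.adjugateᵀ *ᵥ zB F x) 1, (T.adjugateᵀ *ᵥ zB F x) 2, x 7] := rfl

theorem dot_act {T : Matrix (Fin 3) (Fin 3) F} (hT : T.det = 1) (u v : Fin 3 → F) :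
    dot3 (T *ᵥ u) (T.adjugateᵀ *ᵥ v) = dot3 u v := by
  have h : (T *ᵥ u) ⬝ᵥ (T.adjugateᵀ *ᵥ v) = u ⬝ᵥ v := by
    rw [Matrix.dotProduct_mulVec, Matrix.vecMul_transpose, Matrix.mulVec_mulVec, Matrix.adjugate_mul, hT,
      one_smul, Matrix.one_mulVec]
  simpa [dot3, dotProduct, Fin.sum_univ_three] using h

theorem cross_act (T : Matrix (Fin 3) (Fin 3) F) (u v : Fin 3 → F) :
    cross3 (T *ᵥ u) (T *ᵥ v) = T.adjugateᵀ *ᵥ cross3 u v := by
  funext i
  fin_cases i <;>
    simp [cross3, Matrix.mulVec, dotProduct, Fin.sum_univ_three, Matrix.adjugate_fin_three] <;> ring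

theorem cross_adj {T : Matrix (Fin 3) (Fin 3) F} (hT : T.det = 1) (u v : Fin 3 → F) :
    cross3 (T.adjugateᵀ *ᵥ u) (T.adjugateᵀ *ᵥ v) = T *ᵥ cross3 u v := by
  rw [cross_act, Matrix.adjugate_transpose, Matrix.transpose_transpose, Matrix.adjugate_adjugate T (by simp)]
  simp [hT]

theorem actT_mul {T : Matrix (Fin 3) (Fin 3) F} (hT : T.det = 1) (x y : O) :
    actT T (zornMul x y) = zornMul (actT T x) (actT T y) := by
  have eA : ∀ z : O, zA F (actT T z) = T *ᵥ zA F z := fun z => by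
    funext i; fin_cases i <;> rfl
  have eB : ∀ z : O, zB F (actT T z) = T.adjugateᵀ *ᵥ zB F z := fun z => by
    funext i; fin_cases i <;> rfl
  have e0 : ∀ z : O, actT T z 0 = z 0 := fun z => rfl
  have e7 : ∀ z : O, actT T z 7 = z 7 := fun z => rfl
  have mA : zA F (zornMul x y) = x 0 • zA F y + y 7 • zA F x - cross3 (zB F x) (zB F y) := by
    funext i; fin_cases i <;> rfl
  have mB : zB F (zornMul x y) = y 0 • zB F x + x 7 • zB F y + cross3 (zA F x) (zA F y) := by
    funext i; fin_cases i <;> rfl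
  rw [actT_apply, mA, mB, Matrix.mulVec_sub, Matrix.mulVec_add, Matrix.mulVec_add, Matrix.mulVec_add,
    Matrix.mulVec_smul, Matrix.mulVec_smul, Matrix.mulVec_smul, Matrix.mulVec_smul,
    ← cross_adj hT, ← cross_act]
  funext i
  show _ = zornMul (actT T x) (actT T y) i
  unfold zornMul
  simp only [eA, eB, e0, e7, dot_act hT]
  fin_cases i <;> simp [dot3]
  · have := dot_act hT (zA F y) (zB F x)
    simp [dot3] at this
    linear_combination -this

theorem exists_G2_T {T : Matrix (Fin 3) (Fin 3) F} (hT : T.det = 1) :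
    ∃ g : G2 F, ∀ x, g.1.1 *ᵥ x = actT T x := by
  have hinj : Function.Injective (actT T) := by
    refine (injective_iff_map_eq_zero _).2 fun x hx => ?_
    have hu : ∀ S : Matrix (Fin 3) (Fin 3) F, S.det = 1 → ∀ v, S *ᵥ v = 0 → v = 0 := fun S hS v hv =>
      Matrix.eq_zero_of_mulVec_eq_zero (by rw [hS]; exact one_ne_zero) hv
    have ha : zA F x = 0 := hu T hT _ (by funext i; fin_cases i; exacts [congrFun hx 1, congrFun hx 2, congrFun hx 3])
    have hb : zB F x = 0 := hu T.adjugateᵀ (by rw [Matrix.det_transpose, Matrix.det_adjugate, hT, one_pow]) _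
      (by funext i; fin_cases i; exacts [congrFun hx 4, congrFun hx 5, congrFun hx 6])
    funext i
    fin_cases i
    exacts [congrFun hx 0, congrFun ha 0, congrFun ha 1, congrFun ha 2, congrFun hb 0, congrFun hb 1, congrFun hb 2,
      congrFun hx 7]
  let Tm : GL (Fin 8) F := Matrix.GeneralLinearGroup.toLin.symm
    (LinearMap.GeneralLinearGroup.ofLinearEquiv (LinearEquiv.ofInjectiveEndo (actT T) hinj))
  have hTm : ∀ x, Tm.1 *ᵥ x = actT T x := fun x => by
    have h := (Matrix.GeneralLinearGroup.toLin (n := Fin 8) (R := F)).apply_symm_apply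
      (LinearMap.GeneralLinearGroup.ofLinearEquiv (LinearEquiv.ofInjectiveEndo (actT T) hinj))
    exact congrArg (fun L : LinearMap.GeneralLinearGroup F (Fin 8 → F) => L.val x) h
  exact ⟨⟨Tm, mem_G2.2 fun x y => by rw [hTm, hTm, hTm, actT_mul hT]⟩, hTm⟩

/-- A matrix with prescribed first two rows. -/
theorem exists_T {a r0 r1 : Fin 3 → F} (h0 : dot3 r0 a = 1) (h1 : dot3 r1 a = 0) (hr : r1 ≠ 0) :
    ∃ T : Matrix (Fin 3) (Fin 3) F, T.det = 1 ∧ T *ᵥ a = ![1, 0, 0] ∧
      T.adjugateᵀ *ᵥ r0 = ![1, 0, 0] ∧ T.adjugateᵀ *ᵥ r1 = ![0, 1, 0] := by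
  obtain ⟨i, hi⟩ := Function.ne_iff.1 hr
  simp only [Pi.zero_apply] at hi
  let u : Fin 3 → F := Pi.single i (r1 i)⁻¹
  have hu : dot3 r1 u = 1 := by fin_cases i <;> simp at hi <;> simp [dot3, u, hi]
  let r2 := cross3 a u
  let T : Matrix (Fin 3) (Fin 3) F := Matrix.of ![r0, r1, r2]
  have hd : T.det = 1 := by
    simp only [dot3] at h0 h1 hu
    simp [T, r2, Matrix.det_fin_three, cross3]
    linear_combination (r1 0 * u 0 + r1 1 * u 1 + r1 2 * u 2) * h0 -
      (r0 0 * u 0 + r0 1 * u 1 + r0 2 * u 2) * h1 + hu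
  have key : ∀ w : Fin 3 → F, T.adjugateᵀ *ᵥ (Tᵀ *ᵥ w) = w := fun w => by
    rw [Matrix.mulVec_mulVec, ← Matrix.transpose_mul, Matrix.mul_adjugate, hd, one_smul, Matrix.transpose_one,
      Matrix.one_mulVec]
  refine ⟨T, hd, ?_, ?_, ?_⟩
  · simp only [dot3] at h0 h1
    funext j
    fin_cases j <;> simp [T, r2, cross3, Matrix.mulVec, dotProduct, Fin.sum_univ_three] <;>
      first | linear_combination h0 | linear_combination h1 | ring1
  · rw [← key ![1, 0, 0]]
    congr 1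
    funext j
    fin_cases j <;> simp [T, Matrix.mulVec, dotProduct, Fin.sum_univ_three]
  · rw [← key ![0, 1, 0]]
    congr 1
    funext j
    fin_cases j <;> simp [T, Matrix.mulVec, dotProduct, Fin.sum_univ_three]

theorem exists_perp {a : Fin 3 → F} (ha : a ≠ 0) : ∃ r : Fin 3 → F, r ≠ 0 ∧ dot3 r a = 0 := by
  by_cases h : a 0 = 0
  · exact ⟨![1, 0, 0], fun h' => one_ne_zero (congrFun h' 0), by simp [dot3, h]⟩
  · exact ⟨![-a 1, a 0, 0], fun h' => h (congrFun h' 1), by simp [dot3]; ring⟩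

theorem exists_dual {a : Fin 3 → F} (ha : a ≠ 0) : ∃ r : Fin 3 → F, dot3 r a = 1 := by
  obtain ⟨i, hi⟩ := Function.ne_iff.1 ha
  exact ⟨Pi.single i (a i)⁻¹, by fin_cases i <;> simp at hi <;> simp [dot3, hi]⟩

/-- The standard pair representative. -/
def ee (z : F) : Fin 8 → F := ![0, 1, 0, 0, z, 0, 0, 1]

/-- In the quaternion block. -/
theorem move_block {e : O} (h2 : e 2 = 0) (h3 : e 3 = 0) (h5 : e 5 = 0) (h6 : e 6 = 0) (ht : tt e = 1) :
    ∃ g : G2 F, g.1.1 *ᵥ e = ee (nn e) := by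
  let M : Matrix (Fin 2) (Fin 2) F := !![e 0, e 4; e 1, e 7]
  let Cm : Matrix (Fin 2) (Fin 2) F := !![0, nn e; 1, 1]
  have hn : nn e = e 0 * e 7 + e 1 * e 4 := by simp [nn, h2, h3, h5, h6]
  have ht' : e 0 + e 7 = 1 := ht
  obtain ⟨v0, v1, hP⟩ : ∃ v0 v1 : F, v0 * (e 1 * v0 + e 7 * v1) - (e 0 * v0 + e 4 * v1) * v1 ≠ 0 := by
    by_cases a : e 1 = 0
    · by_cases b : e 4 = 0
      · exact ⟨1, 1, by simp [a, b]; intro h; exact one_ne_zero (by linear_combination h - ht' + e 0 * (two0 : (2 : F) = 0))⟩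
      · exact ⟨0, 1, by simpa using b⟩
    · exact ⟨1, 0, by simpa using a⟩
  let P : GL (Fin 2) F := Matrix.GeneralLinearGroup.mkOfDetNeZero
    !![v0, e 0 * v0 + e 4 * v1; v1, e 1 * v0 + e 7 * v1] (by rw [Matrix.det_fin_two_of]; exact hP)
  have hMP : M * P.1 = P.1 * Cm := by
    ext i j
    fin_cases i <;> fin_cases j <;> simp [M, Cm, P, Matrix.mul_apply, Fin.sum_univ_two, hn] <;>
      first
        | ring1
        | linear_combination (e 0 * v0 + e 4 * v1) * ht' - (e 0 * e 7 * v0) * (two0 : (2 : F) = 0)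
        | linear_combination (e 1 * v0 + e 7 * v1) * ht' - (e 0 * e 7 * v1) * (two0 : (2 : F) = 0)
  refine ⟨Phi ⟨(P⁻¹, P⁻¹), mem_Pairs.2 rfl⟩, L.injective ?_⟩
  rw [Phi_mulVec]
  have hL : L e = (M, 0) := by
    refine Prod.ext rfl ?_
    ext i j; fin_cases i <;> fin_cases j <;> simp [L, h2, h3, h5, h6]
  have hR : L (ee (nn e)) = (Cm, 0) := by
    refine Prod.ext ?_ ?_ <;> ext i j <;> fin_cases i <;> fin_cases j <;> simp [L, ee, Cm]
  rw [hL, hR]
  refine Prod.ext ?_ (by simp [actL])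
  show (P⁻¹).1 * M * ((P⁻¹)⁻¹).1 = Cm
  rw [inv_inv, Matrix.mul_assoc, hMP, ← Matrix.mul_assoc, Units.inv_mul, Matrix.one_mul]

/-- With the vectors in position for the block, after a matrix. -/
theorem move_dot {e : O} (ht : tt e = 1) (hd : dot3 (zA F e) (zB F e) ≠ 0 ∨ zA F e = 0 ∨ zB F e = 0) :
    ∃ g : G2 F, g.1.1 *ᵥ e = ee (nn e) := by
  by_cases hboth : zA F e = 0 ∧ zB F e = 0
  · exact move_block (congrFun hboth.1 1) (congrFun hboth.1 2) (congrFun hboth.2 1) (congrFun hboth.2 2) ht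
  obtain ⟨T, hT, c, d, hA, hB⟩ : ∃ (T : Matrix (Fin 3) (Fin 3) F), T.det = 1 ∧ ∃ c d : F,
      T *ᵥ zA F e = ![c, 0, 0] ∧ T.adjugateᵀ *ᵥ zB F e = ![d, 0, 0] := by
    by_cases ha : zA F e = 0
    · have hb : zB F e ≠ 0 := fun h => hboth ⟨ha, h⟩
      obtain ⟨a', ha'⟩ := exists_dual hb
      have hd' : dot3 (zB F e) a' = 1 := by rw [← ha']; simp [dot3]; ring
      obtain ⟨r1, hr1, hr1'⟩ := exists_perp (a := a') (fun h => by simp [dot3, h] at hd')
      obtain ⟨T, hT, -, h0, -⟩ := exists_T hd' hr1' hr1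
      exact ⟨T, hT, 0, 1, by rw [ha, Matrix.mulVec_zero]; funext j; fin_cases j <;> rfl, h0⟩
    obtain ⟨r1, hr1, hr1'⟩ := exists_perp ha
    by_cases hb : zB F e = 0
    · obtain ⟨r0, hr0⟩ := exists_dual ha
      obtain ⟨T, hT, h, -, -⟩ := exists_T hr0 hr1' hr1
      exact ⟨T, hT, 1, 0, h, by rw [hb, Matrix.mulVec_zero]; funext j; fin_cases j <;> rfl⟩
    have hd0 := (hd.resolve_right (fun h => h.elim ha hb))
    set d := dot3 (zA F e) (zB F e) with hdd
    obtain ⟨T, hT, h, h0, -⟩ := exists_T (r0 := d⁻¹ • zB F e) (a := zA F e) (by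
      rw [← inv_mul_cancel₀ hd0]; simp [dot3, hdd]; ring) hr1' hr1
    refine ⟨T, hT, 1, d, h, ?_⟩
    rw [Matrix.mulVec_smul, inv_smul_eq_iff₀ hd0] at h0
    rw [h0]
    funext j; fin_cases j <;> simp
  obtain ⟨g, hg⟩ := exists_G2_T hT
  obtain ⟨g', hg'⟩ := move_block (e := g.1.1 *ᵥ e)
    (by rw [hg, actT_apply]; exact congrFun hA 1) (by rw [hg, actT_apply]; exact congrFun hA 2)
    (by rw [hg, actT_apply]; exact congrFun hB 1) (by rw [hg, actT_apply]; exact congrFun hB 2)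
    (by rw [(tt_nn g e).1, ht])
  exact ⟨g' * g, by rw [g_mul, hg', (tt_nn g e).2]⟩

theorem move {e : O} (ht : tt e = 1) {t : F} (ht0 : t ≠ 0) (ht1 : t ≠ 1) : ∃ g : G2 F, g.1.1 *ᵥ e = ee (nn e) := by
  by_cases hd : dot3 (zA F e) (zB F e) ≠ 0 ∨ zA F e = 0 ∨ zB F e = 0
  · exact move_dot ht hd
  push Not at hd
  obtain ⟨hd0, ha, hb⟩ := hd
  obtain ⟨r0, hr0⟩ := exists_dual ha
  obtain ⟨T, hT, hA, -, hB⟩ := exists_T (a := zA F e) hr0 (r1 := zB F e) (by rw [← hd0]; simp [dot3]; ring) hb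
  obtain ⟨g, hg⟩ := exists_G2_T hT
  let Q : GL (Fin 2) F := Matrix.GeneralLinearGroup.mkOfDetNeZero !![1, t; 0, 1]
    (by rw [Matrix.det_fin_two_of]; simp)
  have hQi : (Q⁻¹).1 = !![1, -t; 0, 1] := by
    refine left_inv_eq_right_inv (a := Q.1) (Units.inv_mul Q) ?_
    ext i j; fin_cases i <;> fin_cases j <;> simp [Q, Matrix.mul_apply, Fin.sum_univ_two]
  set f := Phi ⟨(Q, Q), mem_Pairs.2 rfl⟩ with hf
  have hfe : f.1.1 *ᵥ (g.1.1 *ᵥ e) =
      ![e 0 + t, 1, 0, t, t * e 7 - t * (e 0 + t), 1, 0, -t + e 7] := by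
    refine L.injective ?_
    have hge : g.1.1 *ᵥ e = ![e 0, 1, 0, 0, 0, 1, 0, e 7] := by
      rw [hg, actT_apply, hA, hB]
      simp
    rw [hf, Phi_mulVec, hge]
    refine Prod.ext ?_ ?_
    · show Q.1 * (L ![e 0, 1, 0, 0, 0, 1, 0, e 7]).1 * (Q⁻¹).1 = _
      rw [hQi]
      ext i j; fin_cases i <;> fin_cases j <;> simp [L, Q, Matrix.mul_apply, Fin.sum_univ_two] <;> ring
    · show Q.1 * (L ![e 0, 1, 0, 0, 0, 1, 0, e 7]).2 * (Q⁻¹).1 = _
      rw [hQi]
      ext i j; fin_cases i <;> fin_cases j <;> simp [L, Q, Matrix.mul_apply, Fin.sum_univ_two, CharTwo.neg_eq]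
  obtain ⟨h, hh⟩ := move_dot (e := f.1.1 *ᵥ (g.1.1 *ᵥ e)) (by rw [(tt_nn f _).1, (tt_nn g _).1, ht]) (Or.inl (by
    rw [hfe]
    simp [dot3]
    intro h0
    have ht' : e 0 + e 7 = 1 := ht
    have : t * (1 + t) = 0 := by
      linear_combination h0 - t * ht' + (t * e 0 + t * t) * (two0 : (2 : F) = 0)
    exact ht1 (CharTwo.add_eq_zero.1 ((mul_eq_zero.1 this).resolve_left ht0)).symm))
  exact ⟨h * f * g, by rw [g_mul, g_mul, hh, (tt_nn f _).2, (tt_nn g _).2]⟩

/-- The stabiliser of a pair. -/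
def pairStab (z : F) : Subgroup (G2 F) where
  carrier := {g | g.1.1 *ᵥ ee z = ee z ∨ g.1.1 *ᵥ ee z = ee z + uu}
  mul_mem' := by
    intro a b ha hb
    simp only [Set.mem_setOf_eq] at ha hb ⊢
    have huu : (uu : Fin 8 → F) + uu = 0 := funext fun i => CharTwo.add_self_eq_zero _
    rw [g_mul]
    rcases hb with hb | hb
    · rw [hb]; exact ha
    · rw [hb, Matrix.mulVec_add, map_uu]
      rcases ha with ha | ha
      · exact Or.inr (by rw [ha])
      · exact Or.inl (by rw [ha, add_assoc, huu, add_zero])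
  one_mem' := Or.inl (Matrix.one_mulVec _)
  inv_mem' := by
    intro a ha
    simp only [Set.mem_setOf_eq] at ha ⊢
    have huu : (uu : Fin 8 → F) + uu = 0 := funext fun i => CharTwo.add_self_eq_zero _
    rcases ha with ha | ha
    · left; conv_lhs => rw [← ha, g_inv]
    · right
      apply g_inj a
      show a.1.1 *ᵥ _ = a.1.1 *ᵥ _
      rw [← g_mul, mul_inv_cancel, Matrix.mulVec_add, map_uu, ha, add_assoc, huu, add_zero]
      exact Matrix.one_mulVec _

/-- `G₂` is covered in characteristic two. -/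
theorem covers_g2 {F : Type} [Field F] [Fintype F] [CharP F 2] (hq : 3 ≤ Fintype.card F) :
    Covers (G2 F) := by
  classical
  obtain ⟨t, ht0, ht1⟩ : ∃ t : F, t ≠ 0 ∧ t ≠ 1 := by
    by_contra h
    push Not at h
    have : Finset.univ ⊆ ({0, 1} : Finset F) := fun x _ => by
      by_cases hx : x = 0
      · simp [hx]
      · simp [h x hx]
    have := (Finset.card_le_card this).trans Finset.card_le_two
    rw [Finset.card_univ] at this
    omega
  have hI := SpEven.artin_index (F := F)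
  obtain ⟨z, hz⟩ : ∃ z : F, z ∉ (SpEven.artin (F := F)).range := by
    by_contra h
    push Not at h
    rw [AddSubgroup.index_eq_one.2 ((AddSubgroup.eq_top_iff' _).2 h)] at hI
    exact absurd hI (by norm_num)
  have proper : ∀ w : F, pairStab w ≠ ⊤ := by
    intro w h
    let T : Matrix (Fin 3) (Fin 3) F := Matrix.diagonal ![t, t⁻¹, 1]
    obtain ⟨g, hg⟩ := exists_G2_T (T := T) (by
      rw [Matrix.det_diagonal, Fin.prod_univ_three]; simp [mul_inv_cancel₀ ht0])
    have hm : g ∈ pairStab w := by rw [h]; trivial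
    have h1 : (g.1.1 *ᵥ ee w) 1 = t := by
      rw [hg, actT_apply]; simp [T, ee, Matrix.mulVec_diagonal]
    rcases hm with hm | hm <;> rw [hm] at h1 <;> simp [ee, uu] at h1 <;> exact ht1 h1.symm
  refine ⟨pairStab 0, pairStab z, proper 0, proper z, fun g => ?_⟩
  obtain ⟨e, hte, hge⟩ := exists_pair g
  have go : ∀ c : F, ∃ h : G2 F, h * g * h⁻¹ ∈ pairStab (nn (e + c • uu)) := by
    intro c
    obtain ⟨h, hh⟩ := move (e := e + c • uu) (by rw [tt_shift, hte]) ht0 ht1
    refine ⟨h, ?_⟩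
    have e1 : (h * g * h⁻¹).1.1 *ᵥ ee (nn (e + c • uu)) = h.1.1 *ᵥ (g.1.1 *ᵥ (e + c • uu)) := by
      rw [← hh, g_mul, g_mul, g_inv]
    rcases hge with hge | hge
    · left; rw [e1, Matrix.mulVec_add, Matrix.mulVec_smul, map_uu, hge, hh]
    · right
      rw [e1, Matrix.mulVec_add g.1.1, Matrix.mulVec_smul, map_uu, hge, add_right_comm, Matrix.mulVec_add,
        hh, map_uu]
  by_cases hin : nn e ∈ (SpEven.artin (F := F)).range
  · obtain ⟨c, hc⟩ := hin
    obtain ⟨h, hh⟩ := go c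
    rw [SpEven.artin_apply] at hc
    rw [nn_shift, hte, show nn e + c * 1 + c ^ 2 = 0 by linear_combination -hc + (c + c ^ 2) * (two0 : (2 : F) = 0)]
      at hh
    exact ⟨h, Or.inl hh⟩
  · obtain ⟨c, hc⟩ := (AddSubgroup.add_mem_iff_of_index_two hI).2 (iff_of_false hin hz)
    obtain ⟨h, hh⟩ := go c
    rw [SpEven.artin_apply] at hc
    rw [nn_shift, hte, show nn e + c * 1 + c ^ 2 = z by linear_combination hc + (nn e) * (two0 : (2 : F) = 0)] at hh
    exact ⟨h, Or.inr hh⟩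

end CfsgLib.Classical.UnionTwo.G2Cover
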