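import Cfsg.Agent.Lib.Classical.UnionTwo.Quotient

/-!
# `PSL` in dimensions two, three and four: a point stabiliser and a field centralizer
-/

set_option autoImplicit false

namespace CfsgLib.Classical.UnionTwo.Linear

open Matrix Module Polynomial

variable {F : Type*} [Field F] [Finite F] {n : ℕ}

local notation "M" => Matrix (Fin n) (Fin n) F
local notation "V" => (Fin n → F)

omit [Finite F] in
theorem sl_val_mul (a b : SpecialLinearGroup (Fin n) F) : (a * b).1 = a.1 * b.1 := rfl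

omit [Finite F] in
theorem sl_val_one : (1 : SpecialLinearGroup (Fin n) F).1 = 1 := rfl

omit [Finite F] in
/-- A basis matrix with prescribed first column and determinant one. -/
theorem exists_sl_first (i₀ : Fin n) {v : V} (hv : v ≠ 0) :
    ∃ (A : SpecialLinearGroup (Fin n) F) (c : F), c ≠ 0 ∧ A.1 *ᵥ Pi.single i₀ 1 = c • v := by
  obtain ⟨i, hi⟩ := Function.ne_iff.1 hv
  simp only [Pi.zero_apply] at hi
  let N : M := ((1 : M).updateCol i v) * (Equiv.swap i₀ i).permMatrix F
  have hN : N *ᵥ Pi.single i₀ 1 = v := by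
    rw [← Matrix.mulVec_mulVec, Matrix.permMatrix_mulVec]
    have e : (Pi.single i₀ 1 : V) ∘ ⇑(Equiv.swap i₀ i) = Pi.single i 1 := by
      funext j
      simp only [Function.comp_apply, Pi.single_apply, Equiv.swap_apply_eq_iff, Equiv.swap_apply_left]
    rw [e]
    funext j
    simp [Matrix.mulVec_single, Matrix.updateCol_apply]
  have hd : N.det ≠ 0 := by
    rw [Matrix.det_mul, ← Matrix.cramer_apply, Matrix.cramer_one, Matrix.det_permutation]
    rcases eq_or_ne i₀ i with h | h <;> simp [hi, h]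
  refine ⟨⟨N.updateCol i₀ (N.det⁻¹ • v), ?_⟩, N.det⁻¹, inv_ne_zero hd, ?_⟩
  · have h0 : (fun j => N j i₀) = v := by
      funext j
      simpa [Matrix.mulVec, dotProduct, Pi.single_apply] using congrFun hN j
    rw [Matrix.det_updateCol_smul, ← h0]
    simp [inv_mul_cancel₀ hd]
  · funext j
    simp [Matrix.mulVec, dotProduct, Pi.single_apply, Matrix.updateCol_apply]

/-- The stabiliser of a line. -/
def lineStab (i₀ : Fin n) : Subgroup (SpecialLinearGroup (Fin n) F) where
  carrier := {g | ∃ c : F, c ≠ 0 ∧ g.1 *ᵥ Pi.single i₀ 1 = c • Pi.single i₀ 1}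
  mul_mem' := by
    rintro a b ⟨c, hc, ha⟩ ⟨d, hd, hb⟩
    refine ⟨d * c, mul_ne_zero hd hc, ?_⟩
    rw [sl_val_mul, ← Matrix.mulVec_mulVec, hb, Matrix.mulVec_smul, ha, smul_smul]
  one_mem' := ⟨1, one_ne_zero, by rw [sl_val_one, Matrix.one_mulVec, one_smul]⟩
  inv_mem' := by
    rintro a ⟨c, hc, ha⟩
    refine ⟨c⁻¹, inv_ne_zero hc, ?_⟩
    have h := congrArg ((a⁻¹).1 *ᵥ ·) ha
    rw [Matrix.mulVec_mulVec, ← sl_val_mul, inv_mul_cancel,
      sl_val_one, Matrix.one_mulVec, Matrix.mulVec_smul] at h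
    rw [eq_inv_smul_iff₀ hc]
    exact h.symm

omit [Finite F] in
theorem lineStab_ne_top (hn : 2 ≤ n) (i₀ : Fin n) : lineStab (F := F) i₀ ≠ ⊤ := by
  intro h
  haveI : Nontrivial (Fin n) := Fin.nontrivial_iff_two_le.2 hn
  obtain ⟨j, hj⟩ := exists_ne i₀
  obtain ⟨c, -, hc⟩ : (⟨Matrix.transvection j i₀ 1, Matrix.det_transvection_of_ne j i₀ hj 1⟩ :
      SpecialLinearGroup (Fin n) F) ∈ lineStab (F := F) i₀ := by rw [h]; trivial
  have := congrFun hc j
  simp [Matrix.transvection, Matrix.add_mulVec, hj, Matrix.single_apply] at this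

omit [Finite F] in
theorem conj_mem_lineStab (i₀ : Fin n) {g : SpecialLinearGroup (Fin n) F} {v : V} (hv : v ≠ 0) {μ : F}
    (h : g.1 *ᵥ v = μ • v) : ∃ x, x * g * x⁻¹ ∈ lineStab i₀ := by
  obtain ⟨A, c, hc, hA⟩ := exists_sl_first i₀ hv
  refine ⟨A⁻¹, μ, ?_, ?_⟩
  · rintro rfl
    refine hv ?_
    have h' := congrArg ((g⁻¹).1 *ᵥ ·) h
    simpa [Matrix.mulVec_mulVec, ← sl_val_mul, Matrix.adjugate_mul] using h'
  · rw [inv_inv, sl_val_mul, sl_val_mul, ← Matrix.mulVec_mulVec,
      ← Matrix.mulVec_mulVec, hA, Matrix.mulVec_smul, h, ← smul_comm μ c v, ← hA,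
      Matrix.mulVec_smul, Matrix.mulVec_mulVec, ← sl_val_mul, inv_mul_cancel,
      sl_val_one, Matrix.one_mulVec]

section Field

variable {E : Type*} [Field E] [Finite E] [Algebra F E]

/-- The centralizer of an embedded field. -/
def fieldStab (φ : E →ₐ[F] M) : Subgroup (SpecialLinearGroup (Fin n) F) where
  carrier := {g | ∀ e, Commute g.1 (φ e)}
  mul_mem' {a b} ha hb e := by rw [sl_val_mul]; exact (ha e).mul_left (hb e)
  one_mem' e := by rw [sl_val_one]; exact Commute.one_left _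
  inv_mem' {a} ha e := by
    show (a⁻¹).1 * φ e = φ e * (a⁻¹).1
    calc (a⁻¹).1 * φ e = (a⁻¹).1 * (φ e * a.1) * (a⁻¹).1 := by
          rw [Matrix.mul_assoc, Matrix.mul_assoc, ← sl_val_mul, mul_inv_cancel,
            sl_val_one, Matrix.mul_one]
      _ = (a⁻¹ * a).1 * φ e * (a⁻¹).1 := by
          rw [← (ha e).eq, sl_val_mul]
          simp only [Matrix.mul_assoc]
      _ = _ := by rw [inv_mul_cancel, sl_val_one, Matrix.one_mul]

omit [Finite F] [Finite E] in
theorem fieldStab_ne_top (hn : 2 ≤ n) (hk : 2 ≤ finrank F E) (φ : E →ₐ[F] M) : fieldStab φ ≠ ⊤ := by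
  intro h
  haveI : Nonempty (Fin n) := ⟨⟨0, by omega⟩⟩
  have hscal : ∀ e, φ e ∈ Set.range (Matrix.scalar (Fin n)) := by
    intro e
    refine Matrix.mem_range_scalar_iff_commute_single.2 fun i j hij => ?_
    have h1 : (⟨Matrix.transvection i j 1, Matrix.det_transvection_of_ne i j hij 1⟩ :
      SpecialLinearGroup (Fin n) F) ∈ fieldStab φ := by rw [h]; trivial
    have h2 := (h1 e).eq
    simp only [Matrix.transvection, Matrix.add_mul, Matrix.mul_add, Matrix.one_mul, Matrix.mul_one,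
      add_right_inj] at h2
    exact h2
  haveI : FiniteDimensional F E := Module.Finite.of_injective φ.toLinearMap φ.toRingHom.injective
  have hsurj : Function.Surjective (algebraMap F E) := fun e => by
    obtain ⟨c, hc⟩ := hscal e
    refine ⟨c, φ.toRingHom.injective ?_⟩
    show φ (algebraMap F E c) = φ e
    rw [AlgHom.commutes, ← hc]
    rfl
  have := LinearMap.finrank_le_finrank_of_injective (f := (Algebra.linearMap F E))
    (algebraMap F E).injective
  have h3 : finrank F E ≤ finrank F F := by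
    have h4 := LinearMap.finrank_range_le (Algebra.linearMap F E)
    rw [LinearMap.range_eq_top.2 hsurj, finrank_top] at h4
    exact h4
  rw [finrank_self] at h3
  omega

/-- Any two embeddings are conjugate by a determinant one matrix. -/
theorem exists_conj (hn : 1 ≤ n) (φ φ' : E →ₐ[F] M) :
    ∃ A : SpecialLinearGroup (Fin n) F, ∀ e, A.1 * φ e = φ' e * A.1 := by
  classical
  haveI : FiniteDimensional F E := Module.Finite.of_finite
  have hV : finrank F V = n := Module.finrank_fin_fun F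
  -- coordinates for an embedding
  have coords : ∀ ψ : E →ₐ[F] M, ∃ (d : ℕ) (Θ : (Fin d → E) ≃ₗ[F] V),
      finrank F E * d = n ∧ ∀ e x, Θ (e • x) = ψ e *ᵥ Θ x := by
    intro ψ
    letI : Module E V := Module.compHom V ((Matrix.toLinAlgEquiv').toAlgHom.comp ψ).toRingHom
    have hsm : ∀ (e : E) (x : V), e • x = ψ e *ᵥ x := fun e x => Matrix.toLinAlgEquiv'_apply _ _
    haveI : IsScalarTower F E V := ⟨fun c e x => by
      rw [hsm, hsm, map_smul, Matrix.smul_mulVec]⟩
    haveI : Module.Finite E V := Module.Finite.right F E V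
    refine ⟨finrank E V, ((LinearEquiv.ofFinrankEq (R := E) (Fin (finrank E V) → E) V
      (by simp)).restrictScalars F), by rw [finrank_mul_finrank, hV], fun e x => ?_⟩
    simp only [LinearEquiv.restrictScalars_apply, map_smul, hsm]
  obtain ⟨d, Θ, hd, hΘ⟩ := coords φ
  obtain ⟨d', Θ', hd', hΘ'⟩ := coords φ'
  obtain rfl : d = d' := mul_left_cancel₀ (Module.finrank_pos : 0 < finrank F E).ne' (hd.trans hd'.symm)
  have hd0 : 1 ≤ d := Nat.one_le_iff_ne_zero.2 fun h0 => by rw [h0, mul_zero] at hd; omega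
  let T : V ≃ₗ[F] V := Θ.symm.trans Θ'
  have hT : (LinearMap.det (T : V →ₗ[F] V)) ≠ 0 := (LinearEquiv.isUnit_det' T).ne_zero
  obtain ⟨e₁, he₁⟩ := FiniteField.norm_surjective F E (LinearMap.det (T : V →ₗ[F] V))⁻¹
  let D : (Fin d → E) →ₗ[E] (Fin d → E) :=
    Matrix.toLin' (Matrix.diagonal (Function.update 1 ⟨0, hd0⟩ e₁))
  let S : V →ₗ[F] V := (Θ' : (Fin d → E) →ₗ[F] V) ∘ₗ D.restrictScalars F ∘ₗ (Θ.symm : V →ₗ[F] (Fin d → E))
  have hS : S = (T : V →ₗ[F] V) ∘ₗ ((Θ : (Fin d → E) →ₗ[F] V) ∘ₗ D.restrictScalars F ∘ₗ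
      (Θ.symm : V →ₗ[F] (Fin d → E))) := by
    ext x
    simp [S, T]
  have hdet : LinearMap.det S = 1 := by
    rw [hS, LinearMap.det_comp, LinearMap.det_conj, LinearMap.det_restrictScalars]
    simp only [D, LinearMap.det_toLin', Matrix.det_diagonal]
    rw [Finset.prod_update_of_mem (Finset.mem_univ _)]
    simp [he₁, mul_inv_cancel₀ hT]
  refine ⟨⟨LinearMap.toMatrix' S, by rw [LinearMap.det_toMatrix', hdet]⟩, fun e => ?_⟩
  refine Matrix.ext_iff_mulVec.2 fun x => ?_
  obtain ⟨y, rfl⟩ := Θ.surjective x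
  show (LinearMap.toMatrix' S * φ e) *ᵥ _ = (φ' e * LinearMap.toMatrix' S) *ᵥ _
  rw [← Matrix.mulVec_mulVec, ← Matrix.mulVec_mulVec, ← hΘ, LinearMap.toMatrix'_mulVec,
    LinearMap.toMatrix'_mulVec]
  simp only [S, LinearMap.comp_apply, LinearEquiv.coe_coe, LinearEquiv.symm_apply_apply,
    LinearMap.coe_restrictScalars, map_smul, hΘ']

/-- An embedding commuting with a given matrix. -/
theorem exists_embedding (g : M) (h : ∀ f : F[X], Irreducible f → f.Monic → f ∣ g.charpoly → finrank F E ∣ f.natDegree) :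
    ∃ φ : E →ₐ[F] M, ∀ e, Commute g (φ e) := by
  classical
  have := Fintype.ofFinite F
  set χ := g.charpoly with hχ
  have hmon : χ.Monic := Matrix.charpoly_monic g
  let A := AdjoinRoot χ
  haveI hfin : Module.Finite F A := hmon.finite_adjoinRoot
  haveI : Finite A := Module.finite_of_finite F
  let I : Ideal A := nilradical A
  haveI : IsReduced (A ⧸ I) := (Ideal.isRadical_iff_quotient_reduced I).1 (Ideal.radical_isRadical _)
  haveI : Finite (A ⧸ I) := Finite.of_surjective _ Ideal.Quotient.mk_surjective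
  haveI : IsArtinianRing (A ⧸ I) := isArtinian_of_finite
  -- into each residue field
  have hres : ∀ P : MaximalSpectrum (A ⧸ I), Nonempty (E →ₐ[F] (A ⧸ I) ⧸ P.asIdeal) := by
    intro P
    letI := Ideal.Quotient.field P.asIdeal
    let r : (A ⧸ I) ⧸ P.asIdeal := Ideal.Quotient.mkₐ F P.asIdeal (Ideal.Quotient.mkₐ F I (AdjoinRoot.root χ))
    haveI : Finite ((A ⧸ I) ⧸ P.asIdeal) := Finite.of_surjective _ Ideal.Quotient.mk_surjective
    have hr : IsIntegral F r := Algebra.IsIntegral.isIntegral r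
    have hdvd : minpoly F r ∣ χ := minpoly.dvd _ _ (by
      rw [Polynomial.aeval_algHom_apply, Polynomial.aeval_algHom_apply, AdjoinRoot.aeval_eq,
        AdjoinRoot.mk_self, map_zero, map_zero])
    have htop : IntermediateField.adjoin F {r} = ⊤ := by
      refine eq_top_iff.2 fun x _ => ?_
      obtain ⟨y, rfl⟩ := Ideal.Quotient.mk_surjective x
      obtain ⟨z, rfl⟩ := Ideal.Quotient.mk_surjective y
      obtain ⟨w, rfl⟩ := AdjoinRoot.mk_surjective z
      refine IntermediateField.algebra_adjoin_le_adjoin _ _ ?_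
      rw [← AdjoinRoot.aeval_eq]
      refine Algebra.adjoin_singleton_eq_range_aeval F r ▸ ⟨w, ?_⟩
      show aeval r w = Ideal.Quotient.mkₐ F P.asIdeal (Ideal.Quotient.mkₐ F I (aeval (AdjoinRoot.root χ) w))
      rw [← Polynomial.aeval_algHom_apply, ← Polynomial.aeval_algHom_apply]
    have hrank : finrank F ((A ⧸ I) ⧸ P.asIdeal) = (minpoly F r).natDegree := by
      rw [← IntermediateField.adjoin.finrank hr, htop, IntermediateField.finrank_top']
    refine FiniteField.nonempty_algHom_of_finrank_dvd ?_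
    rw [hrank]
    exact h _ (minpoly.irreducible hr) (minpoly.monic hr) hdvd
  let ψ : E →ₐ[F] A ⧸ I := (((IsArtinianRing.equivPi (A ⧸ I)).restrictScalars F).symm.toAlgHom).comp
    (AlgHom.pi fun P => (hres P).some)
  -- back by a power of the Frobenius map
  let N := Nat.card A
  let Fr : A →ₐ[F] A := (FiniteField.frobeniusAlgHom F A) ^ N
  have hFr : ∀ a : A, Fr a = a ^ Fintype.card F ^ N := by
    have h' : ∀ (j : ℕ) (a : A), (FiniteField.frobeniusAlgHom F A ^ j) a = a ^ Fintype.card F ^ j := by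
      intro j
      induction j with
      | zero => intro a; simp
      | succ j ih =>
        intro a
        rw [pow_succ', AlgHom.mul_apply, ih, FiniteField.frobeniusAlgHom_apply, ← pow_mul, pow_succ]
    exact h' N
  have hI : ∀ a ∈ I, Fr a = 0 := by
    intro a ha
    obtain ⟨m, hm⟩ := mem_nilradical.1 ha
    haveI := Fintype.ofFinite A
    rw [hFr]
    -- a nilpotent element of a finite ring dies at the cardinality
    have hle : ∃ m ≤ N, a ^ m = 0 := by
      obtain ⟨i, j, hij, he⟩ : ∃ i j : Fin (N + 1), i < j ∧ a ^ (i : ℕ) = a ^ (j : ℕ) := by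
        obtain ⟨i, j, hne, he⟩ := Fintype.exists_ne_map_eq_of_card_lt (fun i : Fin (N + 1) => a ^ (i : ℕ))
          (by simp [N, Nat.card_eq_fintype_card])
        rcases lt_or_gt_of_ne hne with h' | h'
        · exact ⟨i, j, h', he⟩
        · exact ⟨j, i, h', he.symm⟩
      refine ⟨i, Nat.le_of_lt_succ i.2, ?_⟩
      have hu : IsUnit (1 - a ^ ((j : ℕ) - i)) := (IsNilpotent.pow_of_pos ⟨m, hm⟩
        (Nat.sub_ne_zero_of_lt hij)).isUnit_one_sub
      refine hu.mul_left_eq_zero.1 ?_
      rw [mul_sub, mul_one, ← pow_add, Nat.add_sub_cancel' (le_of_lt hij), ← he, sub_self]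
    obtain ⟨m', hm', hz⟩ := hle
    exact pow_eq_zero_of_le (hm'.trans (Nat.lt_pow_self Fintype.one_lt_card).le) hz
  let back : A ⧸ I →ₐ[F] A := Ideal.Quotient.liftₐ I Fr hI
  let toM : A →ₐ[F] M := Ideal.Quotient.liftₐ (Ideal.span {χ}) (Polynomial.aeval g) fun a ha => by
    obtain ⟨b, rfl⟩ := Ideal.mem_span_singleton'.1 ha
    rw [map_mul, hχ, Matrix.aeval_self_charpoly, mul_zero]
  refine ⟨(toM.comp back).comp ψ, fun e => ?_⟩
  have hg : g = toM (AdjoinRoot.root χ) := by
    show g = Polynomial.aeval g X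
    rw [Polynomial.aeval_X]
  rw [hg]
  exact (Commute.all _ _).map toM

end Field

theorem covers_psl {F : Type} [Field F] [Fintype F] {n k : ℕ} (hn : 2 ≤ n) (hn4 : n ≤ 4) (hk : 2 ≤ k) (hkn : k ∣ n)
    (hkd : ∀ d, 2 ≤ d → d ≤ n → d + 1 ≠ n → k ∣ d) :
    Covers (Matrix.ProjectiveSpecialLinearGroup (Fin n) F) := by
  classical
  obtain ⟨p, hp⟩ := CharP.exists F
  haveI := Fact.mk (CharP.char_is_prime F p)
  haveI : NeZero k := ⟨by omega⟩
  let E := FiniteField.Extension F p k
  have hE : finrank F E = k := FiniteField.finrank_extension F p k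
  haveI : Nonempty (Fin n) := ⟨⟨0, by omega⟩⟩
  -- an embedding exists
  obtain ⟨φ⟩ : Nonempty (E →ₐ[F] Matrix (Fin n) (Fin n) F) := by
    obtain ⟨d, hd⟩ := hkn
    have hf : finrank F (Fin d → E) = n := by
      rw [Module.finrank_pi_fintype]; simp [hE, hd, mul_comm]
    let Θ := LinearEquiv.ofFinrankEq (R := F) (Fin d → E) (Fin n → F) (by rw [hf]; simp)
    exact ⟨(LinearMap.toMatrixAlgEquiv'.toAlgHom.comp (Θ.conjAlgEquiv F).toAlgHom).comp
      (Algebra.lsmul F F (Fin d → E))⟩
  let i₀ : Fin n := ⟨0, by omega⟩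
  refine covers_quot (lineStab i₀) (fieldStab φ) (lineStab_ne_top hn i₀) (fieldStab_ne_top hn (by omega) φ)
    (fun g hg => ?_) (fun g hg => ?_) fun g => ?_
  · obtain ⟨c, hc, hcg⟩ := (Matrix.SpecialLinearGroup.mem_center_iff).1 hg
    refine ⟨c, ?_, ?_⟩
    · rintro rfl
      rw [zero_pow (by simp; omega)] at hc
      exact zero_ne_one hc
    · rw [← hcg, Matrix.scalar_apply, Matrix.mulVec_single]
      funext j
      simp [Matrix.diagonal_apply, Pi.single_apply]
  · obtain ⟨c, -, hcg⟩ := (Matrix.SpecialLinearGroup.mem_center_iff).1 hg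
    intro e
    rw [← hcg]
    exact Matrix.scalar_commute c (fun r => Commute.all _ _) _
  · by_cases hev : ∃ μ, g.1.charpoly.IsRoot μ
    · obtain ⟨μ, hμ⟩ := hev
      rw [Polynomial.IsRoot, Matrix.eval_charpoly] at hμ
      obtain ⟨v, hv, hgv⟩ := Matrix.exists_mulVec_eq_zero_iff.2 hμ
      obtain ⟨x, hx⟩ := conj_mem_lineStab i₀ (g := g) hv (μ := μ) (by
        rw [Matrix.sub_mulVec, Matrix.scalar_apply, sub_eq_zero] at hgv
        rw [← hgv]
        funext j
        simp [Matrix.mulVec_diagonal])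
      exact ⟨x, Or.inl hx⟩
    · push Not at hev
      have hdeg : g.1.charpoly.natDegree = n := by
        rw [Matrix.charpoly_natDegree_eq_dim, Fintype.card_fin]
      obtain ⟨ψ, hψ⟩ := exists_embedding (E := E) g.1 fun f hf hfm hdvd => by
        rw [hE]
        have hne : g.1.charpoly ≠ 0 := (Matrix.charpoly_monic _).ne_zero
        have hle : f.natDegree ≤ n := hdeg ▸ Polynomial.natDegree_le_of_dvd hdvd hne
        have hroot : ∀ q : F[X], q.natDegree = 1 → ¬ q ∣ g.1.charpoly := by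
          intro q hq hqd
          obtain ⟨r, hr⟩ := Polynomial.exists_root_of_degree_eq_one
            ((Polynomial.degree_eq_iff_natDegree_eq_of_pos one_pos).2 hq)
          exact hev r (hr.dvd hqd)
        refine hkd _ ?_ hle fun h1 => ?_
        · have := hf.natDegree_pos
          by_contra hc
          exact hroot f (by omega) hdvd
        · obtain ⟨q, hq⟩ := hdvd
          refine hroot q ?_ ⟨f, hq.trans (mul_comm _ _)⟩
          have := congrArg Polynomial.natDegree hq
          rw [hdeg, Polynomial.natDegree_mul hf.ne_zero (right_ne_zero_of_mul (hq ▸ hne))] at this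
          omega
      obtain ⟨A, hA⟩ := exists_conj (by omega) φ ψ
      refine ⟨A⁻¹, Or.inr fun e => ?_⟩
      rw [inv_inv, sl_val_mul, sl_val_mul]
      have hinv : ∀ B : SpecialLinearGroup (Fin n) F, (B⁻¹).1 * B.1 = 1 := fun B => by
        rw [← sl_val_mul, inv_mul_cancel, sl_val_one]
      have hA' : φ e = (A⁻¹).1 * ψ e * A.1 := by
        rw [Matrix.mul_assoc, ← hA, ← Matrix.mul_assoc, hinv, Matrix.one_mul]
      have hinv' : A.1 * (A⁻¹).1 = 1 := by rw [← sl_val_mul, mul_inv_cancel, sl_val_one]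
      show _ = _
      calc (A⁻¹).1 * g.1 * A.1 * φ e = (A⁻¹).1 * g.1 * (A.1 * φ e) := by rw [Matrix.mul_assoc]
        _ = (A⁻¹).1 * (g.1 * ψ e) * A.1 := by rw [hA e]; simp only [Matrix.mul_assoc]
        _ = (A⁻¹).1 * (ψ e * (A.1 * (A⁻¹).1) * g.1) * A.1 := by
            rw [hinv', Matrix.mul_one, (hψ e).eq]
        _ = φ e * ((A⁻¹).1 * g.1 * A.1) := by rw [hA']; simp only [Matrix.mul_assoc]

end CfsgLib.Classical.UnionTwo.Linear
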