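import Mathlib

/-!
# Groups covered by the conjugates of two proper subgroups
-/

set_option autoImplicit false

namespace CfsgLib.Classical.UnionTwo

/-- `G` is the union of the conjugates of two proper subgroups. -/
def Covers (G : Type*) [Group G] : Prop :=
  ∃ H K : Subgroup G, H ≠ ⊤ ∧ K ≠ ⊤ ∧ ∀ g : G, ∃ x : G, x * g * x⁻¹ ∈ H ∨ x * g * x⁻¹ ∈ K

variable {G : Type*} [Group G]

theorem map_ne_top {N H : Subgroup G} [N.Normal] (hN : N ≤ H) (hH : H ≠ ⊤) :
    H.map (QuotientGroup.mk' N) ≠ ⊤ := fun h => hH <| by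
  have h2 := congrArg (Subgroup.comap (QuotientGroup.mk' N)) h
  rw [QuotientGroup.comap_map_mk', Subgroup.comap_top, sup_eq_right.2 hN] at h2
  exact h2

/-- Covers descend to a quotient by a subgroup contained in both. -/
theorem covers_quot {N : Subgroup G} [N.Normal] (H K : Subgroup G) (hH : H ≠ ⊤) (hK : K ≠ ⊤)
    (hNH : N ≤ H) (hNK : N ≤ K) (h : ∀ g : G, ∃ x : G, x * g * x⁻¹ ∈ H ∨ x * g * x⁻¹ ∈ K) :
    Covers (G ⧸ N) := by
  refine ⟨H.map (QuotientGroup.mk' N), K.map (QuotientGroup.mk' N), map_ne_top hNH hH,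
    map_ne_top hNK hK, fun g => ?_⟩
  obtain ⟨g, rfl⟩ := QuotientGroup.mk'_surjective N g
  obtain ⟨x, hx⟩ := h g
  refine ⟨QuotientGroup.mk' N x, ?_⟩
  rw [← map_mul, ← map_inv, ← map_mul]
  exact hx.imp (Subgroup.mem_map_of_mem _) (Subgroup.mem_map_of_mem _)

end CfsgLib.Classical.UnionTwo
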