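import Cfsg.Agent.Lib.Classical.UnionTwo.Quotient
import Cfsg.Agent.Lib.Classical.SpQuadInvariant

/-!
# Symplectic groups in characteristic two: the two classes of quadratic forms
-/

set_option autoImplicit false

namespace CfsgLib.Classical.UnionTwo.SpEven

open Matrix CfsgLib.Sp CfsgLib.Classical.SpQuadInvariant

variable {F : Type*} [Field F] [CharP F 2] {m : ℕ}

local notation "V" => Fin m ⊕ Fin m → F

/-- The standard form. -/
def Q0 (x : Fin m ⊕ Fin m → F) : F := ∑ i, x (.inl i) * x (.inr i)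

/-- The standard form changed by a vector. -/
def Qw (w x : Fin m ⊕ Fin m → F) : F := Q0 x + sf x w ^ 2

theorem two0 : (2 : F) = 0 := CharTwo.two_eq_zero

theorem Q0_add (u v : V) : Q0 (u + v) = Q0 u + Q0 v + sf u v := by
  rw [Q0, Q0, Q0, sf_eq]
  simp only [Pi.add_apply, ← Finset.sum_add_distrib]
  refine Finset.sum_congr rfl fun i _ => ?_
  linear_combination (u (.inl i) * v (.inr i)) * (two0 : (2 : F) = 0)

omit [CharP F 2] in
theorem Q0_smul (c : F) (u : V) : Q0 (c • u) = c ^ 2 * Q0 u := by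
  rw [Q0, Q0, Finset.mul_sum]
  exact Finset.sum_congr rfl fun i _ => by simp only [Pi.smul_apply, smul_eq_mul]; ring

theorem Qw_add (w u v : V) : Qw w (u + v) = Qw w u + Qw w v + sf u v := by
  rw [Qw, Qw, Qw, Q0_add, sf_add_left]
  linear_combination (sf u w * sf v w) * (two0 : (2 : F) = 0)

omit [CharP F 2] in
theorem Qw_smul (w : V) (c : F) (u : V) : Qw w (c • u) = c ^ 2 * Qw w u := by
  rw [Qw, Qw, Q0_smul, sf_smul_left]; ring

/-- Effect of a transvection. -/
theorem Qw_tv (w u x : V) (c : F) :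
    Qw w ((tv u c).1 *ᵥ x) = Qw w x + (c ^ 2 * Qw w u + c) * sf x u ^ 2 := by
  rw [tv_mulVec, Qw_add, Qw_smul, sf_smul_right]
  ring

/-- The stabiliser of a form. -/
def formStab (w : Fin m ⊕ Fin m → F) : Subgroup (Matrix.symplecticGroup (Fin m) F) where
  carrier := {A | ∀ x, Qw w (A.1 *ᵥ x) = Qw w x}
  mul_mem' {A B} ha hb x := by rw [sp_mul_mulVec, ha, hb]
  one_mem' x := by rw [sp_one_mulVec]
  inv_mem' {A} ha x := by rw [← ha ((A⁻¹).1 *ᵥ x), sp_mulVec_inv]

theorem formStab_ne_top (hm : 2 ≤ m) (w : V) : formStab w ≠ ⊤ := by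
  classical
  intro h
  obtain ⟨u, hu, hQ⟩ : ∃ u : V, u ≠ 0 ∧ Qw w u ≠ 1 := by
    by_contra hcon
    push Not at hcon
    set a : V := Pi.single (.inl ⟨0, by omega⟩) 1 with ha
    set b : V := Pi.single (.inl ⟨1, by omega⟩) 1 with hb
    have hab : sf a b = 0 := by rw [hb, sf_single_inl, ha]; simp
    have h1 := hcon a (by simp [ha])
    have h2 := hcon b (by simp [hb])
    have h3 := hcon (a + b) (fun h0 => by simpa [ha, hb, Fin.ext_iff] using congrFun h0 (.inl ⟨0, by omega⟩))
    rw [Qw_add, h1, h2, hab, add_zero, CharTwo.add_self_eq_zero] at h3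
    exact zero_ne_one h3
  obtain ⟨v, hv⟩ := exists_sf_eq_one hu
  have hmem : tv u 1 ∈ formStab w := by rw [h]; trivial
  have := hmem v
  rw [Qw_tv, hv] at this
  simp only [one_pow, one_mul, mul_one, add_eq_left] at this
  exact hQ (CharTwo.add_eq_zero.1 this)

theorem exists_vector (l : V →ₗ[F] F) : ∃ w : V, ∀ x, sf x w = l x := by
  classical
  refine ⟨Sum.elim (fun i => l (Pi.single (.inr i) 1)) (fun i => l (Pi.single (.inl i) 1)), fun x => ?_⟩
  conv_rhs => rw [pi_eq_sum_univ' x, map_sum]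
  simp only [map_smul, smul_eq_mul, Fintype.sum_sum_type, sf_eq, Sum.elim_inl, Sum.elim_inr,
    CharTwo.sub_eq_add, Finset.sum_add_distrib]
  exact add_comm _ _

/-- The map `y ↦ y² + y`. -/
def artin : F →+ F where
  toFun y := y ^ 2 + y
  map_zero' := by simp
  map_add' a b := by linear_combination (a * b) * (two0 : (2 : F) = 0)

theorem artin_apply (y : F) : artin y = y ^ 2 + y := rfl

theorem artin_index [Fintype F] : (artin (F := F)).range.index = 2 := by
  have hker : Nat.card (artin (F := F)).ker = 2 := by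
    have e : ((artin (F := F)).ker : Set F) = {0, 1} := by
      ext y
      simp only [SetLike.mem_coe, AddMonoidHom.mem_ker, Set.mem_insert_iff, Set.mem_singleton_iff]
      rw [artin_apply]
      refine ⟨fun hy => ?_, ?_⟩
      · have : y * (y + 1) = 0 := by linear_combination hy
        exact (mul_eq_zero.1 this).imp id CharTwo.add_eq_zero.1
      · rintro (rfl | rfl) <;> simp [CharTwo.add_self_eq_zero]
    rw [← Set.ncard_pair (zero_ne_one (α := F)), ← e]
    rfl
  have h1 := (artin (F := F)).range.card_mul_index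
  have h2 := (artin (F := F)).ker.card_mul_index
  rw [AddSubgroup.index_ker, hker] at h2
  rw [← h2, mul_comm] at h1
  exact Nat.eq_of_mul_eq_mul_right (Nat.card_pos) h1

/-- A form in the class of another. -/
theorem exists_transvection {w u : V} (h : Qw w u ∈ (artin (F := F)).range) :
    ∃ c : F, ∀ x, Qw w ((tv u c).1 *ᵥ x) = Qw w x + sf x u ^ 2 := by
  obtain ⟨y, hy⟩ := h
  rw [artin_apply] at hy
  by_cases hz : Qw w u = 0
  · exact ⟨1, fun x => by rw [Qw_tv, hz]; ring⟩
  · refine ⟨y / Qw w u, fun x => ?_⟩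
    have e : (y / Qw w u) ^ 2 * Qw w u + y / Qw w u = 1 := by
      field_simp
      linear_combination hy
    rw [Qw_tv, e, one_mul]

theorem covers_psp_even {F : Type} [Field F] [Fintype F] [CharP F 2] {m : ℕ} (hm : 2 ≤ m) :
    Covers (Cfsg.PSp m F) := by
  classical
  have hI := artin_index (F := F)
  obtain ⟨z, hz⟩ : ∃ z : F, z ∉ (artin (F := F)).range := by
    by_contra h
    push Not at h
    rw [AddSubgroup.index_eq_one.2 ((AddSubgroup.eq_top_iff' _).2 h)] at hI
    exact absurd hI (by norm_num)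
  let i0 : Fin m := ⟨0, by omega⟩
  let w1 : Fin m ⊕ Fin m → F := Pi.single (.inl i0) z + Pi.single (.inr i0) 1
  have hw1 : Qw (0 : Fin m ⊕ Fin m → F) w1 = z := by
    simp [Qw, Q0, sf_eq, w1, Pi.single_apply, Finset.sum_ite_eq']
  have hQ00 : ∀ x : Fin m ⊕ Fin m → F, Qw 0 x = Q0 x := fun x => by simp [Qw, sf_eq]
  have hcenter : ∀ A : Matrix.symplecticGroup (Fin m) F, A ∈ Subgroup.center _ → ∀ w, A ∈ formStab w := by
    intro A hA w x
    rcases center_scalar (by omega) (fun v _ => ((Subgroup.mem_center_iff.1 hA) (tv v 1)).symm) with h | h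
    · rw [h, Matrix.one_mulVec]
    · rw [h, Matrix.neg_mulVec, Matrix.one_mulVec, ← neg_one_smul F x, CharTwo.neg_eq, one_smul]
  refine covers_quot (formStab 0) (formStab w1) (formStab_ne_top hm 0) (formStab_ne_top hm w1)
    (fun A hA => hcenter A hA 0) (fun A hA => hcenter A hA w1) fun A => ?_
  obtain ⟨Q, hpol, hQ⟩ := exists_invariant A
  -- the difference from the standard form
  choose sqt hsq using exists_sqrt (F := F)
  let d : (Fin m ⊕ Fin m → F) → F := fun x => Q x + Q0 x
  have hd_add : ∀ x y, d (x + y) = d x + d y := by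
    intro x y
    have h := hpol x y
    simp only [QuadraticMap.polar] at h
    simp only [d, Q0_add]
    change Q (x + y) + (Q0 x + Q0 y + sf x y) = Q x + Q0 x + (Q y + Q0 y)
    linear_combination h + (sf x y) * (CharTwo.two_eq_zero : (2 : F) = 0)
  let l : (Fin m ⊕ Fin m → F) →ₗ[F] F :=
    { toFun := fun v => sqt (d v)
      map_add' := fun u v => sq_inj (by
        rw [hsq, hd_add]
        linear_combination -(hsq (d u)) - hsq (d v) - (sqt (d u) * sqt (d v)) * (CharTwo.two_eq_zero : (2 : F) = 0))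
      map_smul' := fun c v => sq_inj (by
        simp only [hsq, d, QuadraticMap.map_smul, Q0_smul, RingHom.id_apply, smul_eq_mul]
        linear_combination -(c * c) * hsq (Q v + Q0 v)) }
  obtain ⟨w, hw⟩ := exists_vector l
  have hQw : ∀ x, Qw w x = Q x := fun x => by
    rw [Qw, hw, sq]
    show Q0 x + sqt (d x) * sqt (d x) = _
    rw [hsq]
    linear_combination (Q0 x) * (CharTwo.two_eq_zero : (2 : F) = 0)
  -- moving to one of the two forms
  have fin : ∀ (w' u : Fin m ⊕ Fin m → F), Qw w' u ∈ (artin (F := F)).range →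
      (∀ x, Qw w' x + sf x u ^ 2 = Qw w x) →
      ∃ X : Matrix.symplecticGroup (Fin m) F, X * A * X⁻¹ ∈ formStab w' := by
    intro w' u hu hx
    obtain ⟨c, hc⟩ := exists_transvection hu
    refine ⟨tv u c, fun x => ?_⟩
    rw [sp_mul_mulVec, sp_mul_mulVec, hc, hx, hQw, hQ, ← hQw, ← hx, ← hc, sp_mulVec_inv]
  by_cases hin : Q0 w ∈ (artin (F := F)).range
  · obtain ⟨X, hX⟩ := fin 0 w (by rwa [hQ00]) fun x => by rw [hQ00]; rfl
    exact ⟨X, Or.inl hX⟩
  · have hin1 : Q0 w1 ∉ (artin (F := F)).range := by rw [← hQ00, hw1]; exact hz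
    obtain ⟨X, hX⟩ := fin w1 (w + w1) (by
      have e : Qw w1 (w + w1) = (Q0 w + Q0 w1) + (sf w w1 ^ 2 + sf w w1) := by
        rw [Qw, Q0_add, sf_add_left, sf_self, add_zero]; ring
      rw [e]
      exact add_mem ((AddSubgroup.add_mem_iff_of_index_two hI).2 (iff_of_false hin hin1)) ⟨_, artin_apply _⟩)
      fun x => by
        rw [Qw, Qw, sf_add_right x w w1]
        linear_combination (sf x w1 ^ 2 + sf x w * sf x w1) * (CharTwo.two_eq_zero : (2 : F) = 0)
    exact ⟨X, Or.inr hX⟩

end CfsgLib.Classical.UnionTwo.SpEven
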