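import Cfsg.Agent.Lib.Classical.UnionTwo.SpSixField

/-!
# The symplectic group in dimension six, characteristic three: two classes of subgroups cover
-/

set_option autoImplicit false
set_option linter.unusedSectionVars false

namespace CfsgLib.Classical.UnionTwo.SpSix

open Matrix Module Polynomial CfsgLib.Sp

variable {F : Type*} [Field F] [Fintype F] [CharP F 3]

local notation "V6" => (Fin 3 ⊕ Fin 3 → F)
local notation "M6" => Matrix (Fin 3 ⊕ Fin 3) (Fin 3 ⊕ Fin 3) F
local notation "Sp6" => Matrix.symplecticGroup (Fin 3) F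
local notation "q" => Fintype.card F

theorem nil6 {A : M6} (hA : IsNilpotent A) : A ^ 6 = 0 := by
  have h := (Matrix.isNilpotent_charpoly_sub_pow_of_isNilpotent hA).eq_zero
  rw [sub_eq_zero] at h
  have h2 := Matrix.aeval_self_charpoly A
  rw [h, map_pow, aeval_X] at h2
  simpa using h2

theorem aeval_pow_card (A : M6) (P : F[X]) : ∀ j : ℕ, aeval (A ^ q ^ j) P = (aeval A P) ^ q ^ j := by
  intro j
  induction j with
  | zero => simp
  | succ j ih => rw [pow_succ, pow_mul, ← expand_aeval, FiniteField.expand_card, map_pow, ih, ← pow_mul]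

theorem sa_aeval {s : M6} (hs : SA s) (P : F[X]) : SA (aeval s P) := by
  induction P using Polynomial.induction_on with
  | C c =>
    intro x y
    rw [aeval_C, Algebra.algebraMap_eq_smul_one, Matrix.smul_mulVec, Matrix.smul_mulVec, Matrix.one_mulVec,
      Matrix.one_mulVec, sf_smul_left, sf_smul_right]
  | add p r hp hr =>
    intro x y
    rw [map_add, Matrix.add_mulVec, Matrix.add_mulVec, sf_add_left, sf_add_right, hp, hr]
  | monomial k c ih =>
    intro x y
    rw [pow_succ, ← mul_assoc, map_mul, aeval_X]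
    generalize hw : Polynomial.C c * X ^ k = w at ih ⊢
    have hc : aeval s w * s = s * aeval s w := by
      have h := ((Commute.all w X).map (aeval s)).eq
      rw [aeval_X] at h
      exact h
    rw [← Matrix.mulVec_mulVec, ih, hs, Matrix.mulVec_mulVec, ← hc]

theorem comm_aeval {a b : M6} (h : Commute a b) (p : F[X]) : Commute a (aeval b p) := by
  induction p using Polynomial.induction_on with
  | C c => rw [aeval_C]; exact (Algebra.commute_algebraMap_left c a).symm
  | add p r hp hr => rw [map_add]; exact hp.add_right hr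
  | monomial k c ih => rw [pow_succ, ← mul_assoc, map_mul, aeval_X]; exact ih.mul_right h

theorem cay_mem {W : Submodule F V6} {n : M6} (hn : ∀ x ∈ W, n *ᵥ x ∈ W) : ∀ x ∈ W, cay n *ᵥ x ∈ W := by
  have hp : ∀ (i : ℕ), ∀ x ∈ W, (n ^ i) *ᵥ x ∈ W := by
    intro i
    induction i with
    | zero => intro x hx; simpa using hx
    | succ i ih =>
      intro x hx
      rw [pow_succ, ← Matrix.mulVec_mulVec]
      exact ih _ (hn x hx)
  have h1 : ∀ x ∈ W, geo n *ᵥ x ∈ W := by
    intro x hx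
    simp only [geo, Matrix.add_mulVec, Matrix.one_mulVec]
    exact W.add_mem (W.add_mem (W.add_mem (W.add_mem (W.add_mem hx (hn x hx)) (hp 2 x hx)) (hp 3 x hx)) (hp 4 x hx))
      (hp 5 x hx)
  intro x hx
  rw [cay, ← Matrix.mulVec_mulVec, Matrix.add_mulVec, Matrix.one_mulVec]
  exact W.add_mem (h1 x hx) (hn _ (h1 x hx))

theorem span_invariant {ι : Type*} {b : ι → V6} {A : M6} (h : ∀ i, A *ᵥ b i ∈ Submodule.span F (Set.range b)) :
    ∀ x ∈ Submodule.span F (Set.range b), A *ᵥ x ∈ Submodule.span F (Set.range b) := by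
  intro x hx
  induction hx using Submodule.span_induction with
  | mem x hx => obtain ⟨i, rfl⟩ := hx; exact h i
  | zero => rw [Matrix.mulVec_zero]; exact zero_mem _
  | add x y _ _ hx hy => rw [Matrix.mulVec_add]; exact add_mem hx hy
  | smul c x _ hx => rw [Matrix.mulVec_smul]; exact Submodule.smul_mem _ _ hx

/-- Dimensions of non-degenerate subspaces. -/
theorem dim_ne {W : Submodule F V6} (hnd : ∀ x ∈ W, (∀ y ∈ W, sf x y = 0) → x = 0) :
    finrank F W ≠ 1 ∧ finrank F W ≠ 3 := by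
  suffices h : finrank F W ≠ 0 → 2 ≤ finrank F W ∧ finrank F W ≠ 3 by
    constructor <;> intro hh <;> have := h (by omega) <;> omega
  intro h0
  have unit : ∀ x ∈ W, x ≠ 0 → ∃ y ∈ W, sf x y = 1 := by
    intro x hx hx0
    by_contra h
    refine hx0 (hnd x hx fun y hy => ?_)
    by_contra hne
    exact h ⟨(sf x y)⁻¹ • y, W.smul_mem _ hy, by rw [sf_smul_right, inv_mul_cancel₀ hne]⟩
  obtain ⟨x, hx, hx0⟩ := Submodule.exists_mem_ne_zero_of_ne_bot
    (show W ≠ ⊥ from fun h => h0 (by rw [h, finrank_bot]))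
  obtain ⟨y, hy, hxy⟩ := unit x hx hx0
  have hyx : sf y x = -1 := by rw [sf_swap, hxy]
  have hli : LinearIndependent F ![x, y] :=
    li_of_pairs (π := ![1, 0]) (by decide)
      (fun i j h => by fin_cases i <;> fin_cases j <;> simp [sf_self] at h ⊢)
      (fun i => by fin_cases i <;> simp [hxy, hyx])
  have hle2 : Submodule.span F (Set.range ![x, y]) ≤ W := by
    rw [Submodule.span_le]; rintro z ⟨i, rfl⟩; fin_cases i <;> assumption
  have hf2 : 2 ≤ finrank F W := by
    have := Submodule.finrank_mono hle2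
    rwa [finrank_span_eq_card hli, Fintype.card_fin] at this
  refine ⟨hf2, fun h3 => ?_⟩
  obtain ⟨z, hz, hzn⟩ : ∃ z ∈ W, z ∉ Submodule.span F (Set.range ![x, y]) := by
    by_contra h
    push Not at h
    have := Submodule.finrank_mono (s := W) h
    rw [finrank_span_eq_card hli, Fintype.card_fin] at this
    omega
  let P : V6 → V6 := fun v => v - sf v y • x + sf v x • y
  have hPx : ∀ v, sf (P v) x = 0 := fun v => by
    simp only [P, sub_eq_add_neg, ← neg_smul, sf_add_left, sf_smul_left, sf_self, hyx]; ring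
  have hPy : ∀ v, sf (P v) y = 0 := fun v => by
    simp only [P, sub_eq_add_neg, ← neg_smul, sf_add_left, sf_smul_left, sf_self, hxy]; ring
  have hPW : ∀ v ∈ W, P v ∈ W := fun v hv => W.add_mem (W.sub_mem hv (W.smul_mem _ hx)) (W.smul_mem _ hy)
  have hz0 : P z ≠ 0 := fun h => hzn (by
    rw [show z = sf z y • x + (-sf z x) • y by
      rw [neg_smul, ← sub_eq_zero]; rw [← h]; simp only [P]; abel]
    exact Submodule.add_mem _ (Submodule.smul_mem _ _ (Submodule.subset_span ⟨0, rfl⟩))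
      (Submodule.smul_mem _ _ (Submodule.subset_span ⟨1, rfl⟩)))
  obtain ⟨w, hw, hzw⟩ := unit _ (hPW z hz) hz0
  have hzw' : sf (P z) (P w) = 1 := by
    have e : P w = w - sf w y • x + sf w x • y := rfl
    simp only [e, sub_eq_add_neg, ← neg_smul, sf_add_right, sf_smul_right, hPx, hPy, hzw]
    ring
  have s1 : ∀ v, sf x (P v) = 0 := fun v => by rw [sf_swap, hPx, neg_zero]
  have s2 : ∀ v, sf y (P v) = 0 := fun v => by rw [sf_swap, hPy, neg_zero]
  have hwz : sf (P w) (P z) = -1 := by rw [sf_swap, hzw']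
  have hli4 : LinearIndependent F ![x, y, P z, P w] :=
    li_of_pairs (π := ![1, 0, 3, 2]) (by decide)
      (fun i j h => by fin_cases i <;> fin_cases j <;> simp [sf_self, hPx, hPy, s1, s2] at h ⊢)
      (fun i => by fin_cases i <;> simp [hxy, hyx, hzw', hwz])
  have := Submodule.finrank_mono (show Submodule.span F (Set.range ![x, y, P z, P w]) ≤ W by
    rw [Submodule.span_le]; rintro v ⟨i, rfl⟩
    fin_cases i
    exacts [hx, hy, hPW z hz, hPW w hw])
  rw [finrank_span_eq_card hli4, Fintype.card_fin] at this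
  omega

/-- Two coprime parts give an invariant plane. -/
theorem split (g : Sp6) {s : M6} (hs : SA s) (hgs : Commute g.1 s) {a b : F[X]} (hμ : minpoly F s = a * b)
    (hab : IsCoprime a b) (ha : 0 < a.natDegree) (hb : 0 < b.natDegree) : HasTwo g.1 := by
  obtain ⟨x, y, hxy⟩ := hab
  have hμ0 : minpoly F s ≠ 0 := minpoly.ne_zero (Matrix.isIntegral s)
  have ha0 : a ≠ 0 := left_ne_zero_of_mul (hμ ▸ hμ0)
  have hb0 : b ≠ 0 := right_ne_zero_of_mul (hμ ▸ hμ0)
  have hz : ∀ v : V6, aeval s (a * b) *ᵥ v = 0 := fun v => by rw [← hμ, minpoly.aeval, Matrix.zero_mulVec]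
  let W : F[X] → Submodule F V6 := fun c => LinearMap.ker (Matrix.toLin' (aeval s c))
  have mem : ∀ c v, v ∈ W c ↔ aeval s c *ᵥ v = 0 := fun c v => by simp [W]
  have one : ∀ v : V6, v = aeval s (y * b) *ᵥ v + aeval s (x * a) *ᵥ v := fun v => by
    rw [← Matrix.add_mulVec, ← map_add, add_comm, hxy, map_one, Matrix.one_mulVec]
  have inA : ∀ v, aeval s (y * b) *ᵥ v ∈ W a := fun v => by
    rw [mem, Matrix.mulVec_mulVec, ← map_mul, show a * (y * b) = y * (a * b) by ring, map_mul, ← Matrix.mulVec_mulVec,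
      hz, Matrix.mulVec_zero]
  have inB : ∀ v, aeval s (x * a) *ᵥ v ∈ W b := fun v => by
    rw [mem, Matrix.mulVec_mulVec, ← map_mul, show b * (x * a) = x * (a * b) by ring, map_mul, ← Matrix.mulVec_mulVec,
      hz, Matrix.mulVec_zero]
  have killA : ∀ v ∈ W a, aeval s (x * a) *ᵥ v = 0 := fun v hv => by
    rw [map_mul, ← Matrix.mulVec_mulVec, (mem a v).1 hv, Matrix.mulVec_zero]
  have killB : ∀ v ∈ W b, aeval s (y * b) *ᵥ v = 0 := fun v hv => by
    rw [map_mul, ← Matrix.mulVec_mulVec, (mem b v).1 hv, Matrix.mulVec_zero]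
  have orth : ∀ v ∈ W a, ∀ w ∈ W b, sf v w = 0 := by
    intro v hv w hw
    rw [one v, killA v hv, add_zero, sa_aeval hs _ v w, killB w hw, sf_zero_right]
  have hdis : Disjoint (W a) (W b) := by
    rw [Submodule.disjoint_def]
    intro v hv hv'
    rw [one v, killB v hv', killA v hv, add_zero]
  have htop : W a ⊔ W b = ⊤ := eq_top_iff.2 fun v _ => by
    rw [one v]; exact Submodule.add_mem_sup (inA v) (inB v)
  have ne : ∀ a b : F[X], minpoly F s = a * b → a ≠ 0 → b ≠ 0 → 0 < a.natDegree → W a ≠ ⊥ := by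
    intro a b hμ ha0 hb0 ha hbot
    have h : aeval s b = 0 := Matrix.ext_iff_mulVec.2 fun v => by
      have : aeval s b *ᵥ v ∈ W a := by
        rw [mem, Matrix.mulVec_mulVec, ← map_mul, ← hμ, minpoly.aeval, Matrix.zero_mulVec]
      rw [hbot, Submodule.mem_bot] at this
      rw [this, Matrix.zero_mulVec]
    have := Polynomial.natDegree_le_of_dvd (minpoly.dvd F s h) hb0
    rw [hμ, Polynomial.natDegree_mul ha0 hb0] at this
    omega
  have hnd : ∀ a b : F[X], W a ⊔ W b = ⊤ → (∀ v ∈ W a, ∀ w ∈ W b, sf v w = 0) →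
      ∀ v ∈ W a, (∀ w ∈ W a, sf v w = 0) → v = 0 := by
    intro a b htop orth v hv h
    refine eq_zero_of_sf fun u => ?_
    obtain ⟨p, hp, r, hr, rfl⟩ := Submodule.mem_sup.1 (htop.ge (Submodule.mem_top (x := u)))
    rw [sf_add_right, h p hp, orth v hv r hr, add_zero]
  have hsum := Submodule.finrank_sup_add_finrank_inf_eq (W a) (W b)
  rw [htop, hdis.eq_bot, finrank_top, finrank_bot] at hsum
  simp at hsum
  have h1 : finrank F (W a) ≠ 0 := fun h => ne a b hμ ha0 hb0 ha (Submodule.finrank_eq_zero.1 h)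
  have h2 : finrank F (W b) ≠ 0 := fun h =>
    ne b a (by rw [hμ, mul_comm]) hb0 ha0 hb (Submodule.finrank_eq_zero.1 h)
  have d1 := dim_ne (hnd a b htop orth)
  have d2 := dim_ne (hnd b a (by rw [sup_comm, htop]) fun v hv w hw => by rw [sf_swap, orth w hw v hv, neg_zero])
  refine hasTwo_of_sub g (W := W a) (by omega) (hnd a b htop orth) fun v hv => ?_
  rw [mem, Matrix.mulVec_mulVec, ← (comm_aeval hgs a).eq, ← Matrix.mulVec_mulVec, (mem a v).1 hv,
    Matrix.mulVec_zero]

/-- The unipotent case. -/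
theorem unipotent_cases (g u : Sp6) {ε : F} (hg : g.1 = ε • u.1) (hu : IsNilpotent (u.1 - 1)) :
    HasTwo g.1 ∨ (∃ a, a ≠ 0 ∧ Form6 g.1 ε a) ∨ Form33 g.1 ε := by
  have hw6 := nil6 hu
  obtain ⟨n, hn, hun, hdef, hk⟩ := exists_cayley u hw6
  have hn6 : n ^ 6 = 0 := (hk 6).2 hw6
  have hinv : ∀ (W : Submodule F V6), (∀ x ∈ W, n *ᵥ x ∈ W) → ∀ x ∈ W, g.1 *ᵥ x ∈ W := fun W hW x hx => by
    rw [hg, Matrix.smul_mulVec, hun]; exact W.smul_mem _ (cay_mem hW x hx)
  by_cases h1 : n = 0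
  · refine Or.inl ?_
    have h0 : u.1 - 1 = 0 := by simpa using (hk 1).1 (by rw [pow_one, h1])
    rw [sub_eq_zero] at h0
    refine ⟨Pi.single (.inr 0) 1, Pi.single (.inl 0) 1, ?_, ?_, ?_⟩
    · rw [sf_single_inl]; simp
    all_goals
      rw [hg, h0, Matrix.smul_mulVec, Matrix.one_mulVec]
      exact Submodule.smul_mem _ _ (Submodule.subset_span (by simp))
  by_cases h2 : n ^ 2 = 0
  · refine Or.inl ?_
    obtain ⟨v, hv⟩ := sk_exists hn h1
    have h00 : sf (n *ᵥ v) (n *ᵥ v) = 0 := sf_self _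
    refine hasTwo_of_frame g (b := ![v, n *ᵥ v]) (π := ![1, 0]) (by decide)
      (fun i j h => by fin_cases i <;> fin_cases j <;> simp [sf_self] at h ⊢)
      (fun i => by
        fin_cases i
        · simpa using hv
        · simp; rw [sf_swap, neg_eq_zero]; exact hv)
      (Or.inl (Fintype.card_fin 2)) fun i => hinv _ (span_invariant fun j => ?_) _ (Submodule.subset_span ⟨i, rfl⟩)
    fin_cases j
    · exact Submodule.subset_span ⟨1, rfl⟩
    · show n *ᵥ (n *ᵥ v) ∈ _
      rw [Matrix.mulVec_mulVec, ← sq, h2, Matrix.zero_mulVec]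
      exact zero_mem _
  by_cases h3 : n ^ 3 = 0
  · exact Or.inr (Or.inr (form33_of u g.1 hg ((hk 3).1 h3) fun h => h2 ((hk 2).2 h)))
  by_cases h4 : n ^ 4 = 0
  · refine Or.inl ?_
    obtain ⟨v, hv⟩ := sk_exists (hn.pow_odd (i := 3) (by decide)) h3
    set a := sf v ((n ^ 3) *ᵥ v)
    set x := -sf v (n *ᵥ v) / (2 * a)
    set v' := v + x • ((n ^ 2) *ᵥ v)
    have hz : ∀ i, 4 ≤ i → n ^ i = 0 := fun i hi => pow_zero_of_le h4 hi
    have val : ∀ i, sf v' ((n ^ i) *ᵥ v') = sf v ((n ^ i) *ᵥ v) + 2 * x * sf v ((n ^ (i + 2)) *ᵥ v) := by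
      intro i
      simp only [v', Matrix.mulVec_add, Matrix.mulVec_smul, Matrix.mulVec_mulVec, ← pow_add, sf_add_left,
        sf_add_right, sf_smul_left, sf_smul_right, sf_pow_pow hn]
      rw [hz (2 + (i + 2)) (by omega), Matrix.zero_mulVec, sf_zero_right, show 2 + i = i + 2 by ring]
      ring
    have vals : ∀ i, sf v' ((n ^ i) *ᵥ v') = if i = 3 then a else 0 := by
      intro i
      rw [val]
      rcases Nat.even_or_odd i with he | ho
      · rw [sa_self (hn.pow_even he), sa_self (hn.pow_even (he.add even_two)), if_neg]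
        · simp
        rintro rfl; exact absurd he (by decide)
      · by_cases h : 4 ≤ i
        · rw [hz i h, hz (i + 2) (by omega), Matrix.zero_mulVec, sf_zero_right, if_neg (by omega)]; simp
        obtain ⟨r, hr⟩ := ho
        rcases (show i = 1 ∨ i = 3 by omega) with rfl | rfl
        · rw [if_neg (by omega), pow_one]
          show sf v (n *ᵥ v) + 2 * x * a = 0
          simp only [x]
          have := two_ne (F := F)
          field_simp
          ring
        · rw [if_pos rfl, hz (3 + 2) (by omega), Matrix.zero_mulVec, sf_zero_right, mul_zero, add_zero]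
    refine hasTwo_of_frame g (b := fun i : Fin 4 => (n ^ (i : ℕ)) *ᵥ v') (π := Fin.rev) Fin.rev_injective
      (fun i j h => by
        rw [sf_pow_pow hn, vals, if_neg, mul_zero]
        exact fun e => h (Fin.ext (by rw [Fin.val_rev]; omega)))
      (fun i => by
        rw [sf_pow_pow hn, vals, if_pos (by rw [Fin.val_rev]; omega)]
        exact mul_ne_zero (pow_ne_zero _ (neg_ne_zero.2 one_ne_zero)) hv)
      (Or.inr (Fintype.card_fin 4)) fun i => hinv _ (span_invariant fun j => ?_) _ (Submodule.subset_span ⟨i, rfl⟩)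
    rw [Matrix.mulVec_mulVec, ← pow_succ']
    by_cases hj : (j : ℕ) + 1 < 4
    · exact Submodule.subset_span ⟨⟨(j : ℕ) + 1, hj⟩, rfl⟩
    · rw [hz _ (by omega), Matrix.zero_mulVec]; exact zero_mem _
  by_cases h5 : n ^ 5 = 0
  · exfalso
    obtain ⟨w, hw⟩ : ∃ w, (n ^ 4) *ᵥ w ≠ 0 := by
      by_contra h
      push Not at h
      exact h4 (Matrix.ext_iff_mulVec.2 fun w => by rw [h, Matrix.zero_mulVec])
    obtain ⟨v, hv⟩ := exists_sf_eq_one hw
    have hsa := hn.pow_even (i := 4) (by decide)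
    have := chain_le (n := n) (k := 5) v w (by rw [h5, Matrix.zero_mulVec]) (by rw [h5, Matrix.zero_mulVec])
      fun c d h => by
        have e1 := congrArg (fun z => sf z w) h
        have e2 := congrArg (fun z => sf v z) h
        have f1 : sf ((n ^ 4) *ᵥ w) w = 0 := by rw [hsa, sa_self hsa]
        have f2 : sf ((n ^ 4) *ᵥ v) w = 1 := by rw [hsa, hv]
        simp only [show 5 - 1 = 4 from rfl, sf_add_left, sf_add_right, sf_smul_left, sf_smul_right, f1, f2, hv,
          sa_self hsa, sf_zero_left, sf_zero_right, mul_zero, add_zero, zero_add, mul_one] at e1 e2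
        exact ⟨e1, e2⟩
    omega
  -- index six
  have hw5 : (u.1 - 1) ^ 5 = -(n ^ 5) := by
    set w := u.1 - 1
    have hwg : w ^ 5 * geo w = w ^ 5 := by
      simp only [geo, mul_add, mul_one, ← pow_succ, ← pow_add, pow_zero_of_le hw6 (le_refl 6),
        pow_zero_of_le hw6 (show 6 ≤ 5 + 2 by norm_num), pow_zero_of_le hw6 (show 6 ≤ 5 + 3 by norm_num),
        pow_zero_of_le hw6 (show 6 ≤ 5 + 4 by norm_num), pow_zero_of_le hw6 (show 6 ≤ 5 + 5 by norm_num), add_zero]
    have hp : ∀ j, w ^ 5 * geo w ^ j = w ^ 5 := fun j => by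
      induction j with
      | zero => rw [pow_zero, mul_one]
      | succ j ih => rw [pow_succ' (geo w) j, ← mul_assoc, hwg, ih]
    rw [hdef, neg_pow, (commute_geo (Commute.refl w)).mul_pow, hp]
    norm_num
  obtain ⟨v, hv⟩ := sk_exists (hn.pow_odd (i := 5) (by decide)) h5
  exact Or.inr (Or.inl ⟨_, neg_ne_zero.2 (neg_ne_zero.2 hv), form6_of u g.1 hg hw6 (v := v)
    (b := -sf v ((n ^ 5) *ᵥ v)) (by rw [hw5, Matrix.neg_mulVec, sf_neg_right]) (neg_ne_zero.2 hv)⟩)

/-- The case of a quadratic algebra. -/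
theorem quadratic_cases (g γ u : Sp6) {c : F} (hδ : c ^ 2 - 4 ≠ 0) (hg : g.1 = γ.1 * u.1)
    (hcomm : Commute γ.1 u.1) (hγ : γ.1 * γ.1 = c • γ.1 - 1) (hu : IsNilpotent (u.1 - 1)) :
    HasTwo g.1 ∨ FormK g.1 c := by
  have hw6 := nil6 hu
  obtain ⟨n, hn, hun, hdef, hk⟩ := exists_cayley u hw6
  set t : M6 := (2 : F) • γ.1 - c • 1 with htdef
  have hinv' : ∀ y, (γ⁻¹).1 *ᵥ y = c • y - γ.1 *ᵥ y := fun y => by
    have h : γ.1 *ᵥ (c • y - γ.1 *ᵥ y) = y := by
      rw [Matrix.mulVec_sub, Matrix.mulVec_smul, Matrix.mulVec_mulVec, hγ, Matrix.sub_mulVec, Matrix.smul_mulVec,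
        Matrix.one_mulVec, sub_sub_cancel]
    conv_lhs => rw [← h, sp_inv_mulVec]
  have ht : SK t := by
    intro x y
    have h1 : sf (γ.1 *ᵥ x) y = sf x (c • y - γ.1 *ᵥ y) := by
      rw [← hinv', ← sf_sp γ x ((γ⁻¹).1 *ᵥ y), sp_mulVec_inv]
    simp only [htdef, Matrix.sub_mulVec, Matrix.smul_mulVec, Matrix.one_mulVec] at h1 ⊢
    simp only [sub_eq_add_neg, sf_add_left, sf_add_right, sf_neg_left, sf_neg_right, sf_smul_left,
      sf_smul_right] at h1 ⊢
    linear_combination 2 * h1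
  have hγn : Commute γ.1 n := by
    rw [hdef]
    have h1 : Commute γ.1 (u.1 - 1) := hcomm.sub_right (Commute.one_right _)
    exact (h1.mul_right (commute_geo h1)).neg_right
  have hc : Commute t n := (hγn.smul_left _).sub_left ((Commute.one_left n).smul_left _)
  have ht2 : t * t = (c ^ 2 - 4) • (1 : M6) := by
    rw [htdef]
    simp only [sub_mul, mul_sub, smul_mul_assoc, mul_smul_comm, one_mul, mul_one, smul_smul, hγ, smul_sub]
    module
  have hγt : γ.1 = (c / 2) • 1 + (2 : F)⁻¹ • t := by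
    have h2 := two_ne (F := F)
    rw [htdef, smul_sub, smul_smul, smul_smul, inv_mul_cancel₀ h2, one_smul, mul_comm (2 : F)⁻¹ c,
      ← div_eq_mul_inv, add_sub_cancel]
  have hinv : ∀ (W : Submodule F V6), (∀ x ∈ W, n *ᵥ x ∈ W) → (∀ x ∈ W, t *ᵥ x ∈ W) → ∀ x ∈ W, g.1 *ᵥ x ∈ W :=
    fun W hW hT x hx => by
      have h := cay_mem hW x hx
      rw [hg, ← Matrix.mulVec_mulVec, hun, hγt, Matrix.add_mulVec, Matrix.smul_mulVec, Matrix.smul_mulVec,
        Matrix.one_mulVec]
      exact W.add_mem (W.smul_mem _ h) (W.smul_mem _ (hT _ h))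
  have htt : ∀ z : V6, t *ᵥ (t *ᵥ z) = (c ^ 2 - 4) • z := fun z => by
    rw [Matrix.mulVec_mulVec, ht2, Matrix.smul_mulVec, Matrix.one_mulVec]
  have h2F := two_ne (F := F)
  by_cases h1 : n = 0
  · refine Or.inl ?_
    have ht0 : t ≠ 0 := fun h => by
      rw [h, mul_zero, eq_comm, smul_eq_zero] at ht2
      exact ht2.elim hδ one_ne_zero
    obtain ⟨v, hv⟩ := sk_exists ht ht0
    refine hasTwo_of_frame g (b := ![v, t *ᵥ v]) (π := ![1, 0]) (by decide)
      (fun i j h => by fin_cases i <;> fin_cases j <;> simp [sf_self] at h ⊢)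
      (fun i => by
        fin_cases i
        · simpa using hv
        · simp; rw [sf_swap, neg_eq_zero]; exact hv)
      (Or.inl (Fintype.card_fin 2)) fun i => hinv _ (fun x _ => by rw [h1, Matrix.zero_mulVec]; exact zero_mem _)
        (span_invariant fun j => ?_) _ (Submodule.subset_span ⟨i, rfl⟩)
    fin_cases j
    · exact Submodule.subset_span ⟨1, rfl⟩
    · show t *ᵥ (t *ᵥ v) ∈ _
      rw [htt]
      exact Submodule.smul_mem _ _ (Submodule.subset_span ⟨0, rfl⟩)
  by_cases h2 : n ^ 2 = 0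
  · refine Or.inl ?_
    obtain ⟨v0, hv0⟩ := sk_exists hn h1
    set a := sf v0 (n *ᵥ v0)
    set x := -sf v0 (t *ᵥ v0) / (2 * (c ^ 2 - 4) * a)
    set v := v0 + x • (t *ᵥ (n *ᵥ v0))
    have nn : ∀ z : V6, n *ᵥ (n *ᵥ z) = 0 := fun z => by
      rw [Matrix.mulVec_mulVec, ← sq, h2, Matrix.zero_mulVec]
    have nt : ∀ z : V6, n *ᵥ (t *ᵥ z) = t *ᵥ (n *ᵥ z) := fun z => by
      rw [Matrix.mulVec_mulVec, Matrix.mulVec_mulVec, hc.eq]
    have tsk : ∀ a z, sf (t *ᵥ a) z = -sf a (t *ᵥ z) := ht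
    have nsk : ∀ a z, sf (n *ᵥ a) z = -sf a (n *ᵥ z) := hn
    have ztn : ∀ z : V6, sf z (t *ᵥ (n *ᵥ z)) = 0 := fun z => by
      rw [Matrix.mulVec_mulVec]; exact sa_self (ht.mul_sk hn hc.eq) z
    have hvn : sf v (n *ᵥ v) = a := by
      simp only [v, Matrix.mulVec_add, Matrix.mulVec_smul, sf_add_left, sf_add_right, sf_smul_left, sf_smul_right,
        tsk, nsk, nt, nn, Matrix.mulVec_zero, sf_zero_right, neg_zero, mul_zero, add_zero]
      rfl
    have hvt : sf v (t *ᵥ v) = 0 := by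
      simp only [v, Matrix.mulVec_add, Matrix.mulVec_smul, sf_add_left, sf_add_right, sf_smul_left, sf_smul_right,
        tsk, nsk, nt, nn, htt, Matrix.mulVec_zero, sf_zero_right, neg_zero, neg_neg, mul_zero, add_zero, neg_mul,
        mul_neg, smul_zero]
      simp only [x]
      field_simp
      ring
    have f1 : sf v (t *ᵥ (n *ᵥ v)) = 0 := ztn v
    have f2 : sf (n *ᵥ v) (t *ᵥ v) = 0 := by rw [nsk, nt, f1, neg_zero]
    have f3 : sf (n *ᵥ v) (t *ᵥ (n *ᵥ v)) = 0 := by
      rw [nsk, nt, nn, Matrix.mulVec_zero, sf_zero_right, neg_zero]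
    have f4 : sf (t *ᵥ v) (t *ᵥ (n *ᵥ v)) = -((c ^ 2 - 4) * a) := by
      rw [tsk, htt, sf_smul_right, hvn]
    refine hasTwo_of_frame g (b := ![v, n *ᵥ v, t *ᵥ v, t *ᵥ (n *ᵥ v)]) (π := ![1, 0, 3, 2]) (by decide)
      (fun i j h => by
        fin_cases i <;> fin_cases j <;> simp at h <;> simp [-Matrix.mulVec_mulVec, sf_self, hvt, f1, f2, f3] <;>
          first
            | (rw [sf_swap, hvt, neg_zero])
            | (rw [sf_swap, f1, neg_zero])
            | (rw [sf_swap, f2, neg_zero])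
            | (rw [sf_swap, f3, neg_zero]))
      (fun i => by
        fin_cases i
        · simp [-Matrix.mulVec_mulVec, hvn]; exact hv0
        · simp [-Matrix.mulVec_mulVec]; rw [sf_swap, neg_eq_zero, hvn]; exact hv0
        · simp [-Matrix.mulVec_mulVec, f4]; exact ⟨hδ, hv0⟩
        · simp [-Matrix.mulVec_mulVec]; rw [sf_swap, neg_eq_zero, f4, neg_eq_zero]; exact mul_ne_zero hδ hv0)
      (Or.inr (Fintype.card_fin 4))
      fun i => hinv _ (span_invariant fun j => ?_) (span_invariant fun j => ?_) _ (Submodule.subset_span ⟨i, rfl⟩)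
    · fin_cases j
      · exact Submodule.subset_span ⟨1, rfl⟩
      · show n *ᵥ (n *ᵥ v) ∈ _
        rw [nn]; exact zero_mem _
      · show n *ᵥ (t *ᵥ v) ∈ _
        rw [nt]; exact Submodule.subset_span ⟨3, rfl⟩
      · show n *ᵥ (t *ᵥ (n *ᵥ v)) ∈ _
        rw [nt, nn, Matrix.mulVec_zero]; exact zero_mem _
    · fin_cases j
      · exact Submodule.subset_span ⟨2, rfl⟩
      · exact Submodule.subset_span ⟨3, rfl⟩
      · show t *ᵥ (t *ᵥ v) ∈ _
        rw [htt]; exact Submodule.smul_mem _ _ (Submodule.subset_span ⟨0, rfl⟩)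
      · show t *ᵥ (t *ᵥ (n *ᵥ v)) ∈ _
        rw [htt]; exact Submodule.smul_mem _ _ (Submodule.subset_span ⟨1, rfl⟩)
  by_cases h3 : n ^ 3 = 0
  · exact Or.inr (formK_of γ u g.1 hδ hg hcomm hγ ((hk 3).1 h3) fun h => h2 ((hk 2).2 h))
  exfalso
  obtain ⟨k, hk4, hk0, hk1⟩ : ∃ k, 4 ≤ k ∧ n ^ k = 0 ∧ n ^ (k - 1) ≠ 0 := by
    by_cases h4 : n ^ 4 = 0
    · exact ⟨4, le_rfl, h4, h3⟩
    by_cases h5 : n ^ 5 = 0
    · exact ⟨5, by omega, h5, h4⟩
    · exact ⟨6, by omega, (hk 6).2 hw6, h5⟩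
  set N := n ^ (k - 1)
  have hNt : N * t = t * N := ((hc.pow_right (k - 1)).eq).symm
  have key : ∀ v : V6, (∀ c' d : F, c' • (N *ᵥ v) + d • (N *ᵥ (t *ᵥ v)) = 0 → c' = 0 ∧ d = 0) → False :=
    fun v h => by
      have := chain_le (n := n) (k := k) v (t *ᵥ v) (by rw [hk0, Matrix.zero_mulVec])
        (by rw [hk0, Matrix.zero_mulVec]) h
      omega
  rcases Nat.even_or_odd (k - 1) with he | ho
  · have hN : SA N := hn.pow_even he
    have hS : SK (t * N) := ht.mul_sa hN hNt.symm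
    have hne : t * N ≠ 0 := fun h => hk1 (by
      have h' := congrArg (t * ·) h
      simp only [← mul_assoc, ht2, smul_mul_assoc, one_mul, mul_zero, smul_eq_zero] at h'
      exact h'.resolve_left hδ)
    obtain ⟨v, hv⟩ := sk_exists hS hne
    refine key v fun c' d h => ?_
    rw [Matrix.mulVec_mulVec, hNt] at h
    have e1 := congrArg (fun z => sf v z) h
    have e2 := congrArg (fun z => sf (t *ᵥ v) z) h
    simp only [sf_add_right, sf_smul_right, sf_zero_right, sa_self hN, mul_zero, zero_add] at e1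
    have hd : d = 0 := (mul_eq_zero.1 e1).resolve_right hv
    simp only [hd, zero_smul, add_zero, sf_smul_right, sf_zero_right, ht, Matrix.mulVec_mulVec] at e2
    rw [ht, Matrix.mulVec_mulVec, mul_eq_zero, neg_eq_zero] at e2
    exact ⟨e2.resolve_right hv, hd⟩
  · have hN : SK N := hn.pow_odd ho
    obtain ⟨v, hv⟩ := sk_exists hN hk1
    have htN : sf v ((t * N) *ᵥ v) = 0 := sa_self (ht.mul_sk hN hNt.symm) v
    refine key v fun c' d h => ?_
    rw [Matrix.mulVec_mulVec, hNt] at h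
    have e1 := congrArg (fun z => sf v z) h
    simp only [sf_add_right, sf_smul_right, sf_zero_right, htN, mul_zero, add_zero] at e1
    have hc' : c' = 0 := (mul_eq_zero.1 e1).resolve_right hv
    refine ⟨hc', ?_⟩
    rw [hc', zero_smul, zero_add] at h
    have e2 := congrArg (fun z => sf (t *ᵥ v) z) h
    simp only [sf_smul_right, sf_zero_right] at e2
    rw [ht, Matrix.mulVec_mulVec, ← mul_assoc, ht2, smul_mul_assoc, one_mul, Matrix.smul_mulVec, sf_smul_right,
      mul_eq_zero, neg_eq_zero, mul_eq_zero] at e2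
    exact e2.resolve_right fun h' => h'.elim hδ hv

/-- Every element falls into one of the five kinds. -/
theorem classify {E : Type*} [Field E] [Finite E] [Algebra F E] (hd : finrank F E = 3) (g : Sp6) :
    HasTwo g.1 ∨ (∃ ψ : E →ₐ[F] M6, (∀ e, SA (ψ e)) ∧ ∀ e, Commute g.1 (ψ e)) ∨
      (∃ ε a : F, ε * ε = 1 ∧ a ≠ 0 ∧ Form6 g.1 ε a) ∨ (∃ ε : F, ε * ε = 1 ∧ Form33 g.1 ε) ∨
      ∃ c : F, c ^ 2 - 4 ≠ 0 ∧ FormK g.1 c := by
  classical
  have hq : 3 ≤ q := by
    obtain ⟨k, -, hk⟩ := FiniteField.card F 3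
    rw [hk]
    exact Nat.le_self_pow k.2.ne' 3
  have hgi : g.1 * (g⁻¹).1 = 1 := by rw [← sp_mul_val, mul_inv_cancel]; rfl
  have hig : (g⁻¹).1 * g.1 = 1 := by rw [← sp_mul_val, inv_mul_cancel]; rfl
  set s : M6 := g.1 + (g⁻¹).1 with hsdef
  have hgs : Commute g.1 s := (Commute.refl _).add_right (show g.1 * _ = _ * g.1 by rw [hgi, hig])
  have hadj : ∀ x y, sf (g.1 *ᵥ x) y = sf x ((g⁻¹).1 *ᵥ y) := fun x y => by
    rw [← sf_sp g x ((g⁻¹).1 *ᵥ y), sp_mulVec_inv]
  have hs : SA s := fun x y => by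
    have h2 : sf ((g⁻¹).1 *ᵥ x) y = sf x (g.1 *ᵥ y) := by
      rw [← sf_sp g ((g⁻¹).1 *ᵥ x) y, sp_mulVec_inv]
    rw [hsdef, Matrix.add_mulVec, Matrix.add_mulVec, sf_add_left, sf_add_right, hadj, h2, add_comm]
  have hμ0 : minpoly F s ≠ 0 := minpoly.ne_zero (Matrix.isIntegral s)
  obtain ⟨p, hp, hpd⟩ := WfDvdMonoid.exists_irreducible_factor (minpoly.not_isUnit F s) hμ0
  obtain ⟨k, r, hnd, hμ⟩ := WfDvdMonoid.max_power_factor hμ0 hp
  by_cases hr : 0 < r.natDegree
  · refine Or.inl (split g hs hgs hμ ((hp.coprime_iff_not_dvd.2 hnd).pow_left) ?_ hr)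
    rw [Polynomial.natDegree_pow]
    refine Nat.mul_pos ?_ hp.natDegree_pos
    by_contra hk
    rw [show k = 0 by omega, pow_zero, one_mul] at hμ
    exact hnd (hμ ▸ hpd)
  have hr0 : r ≠ 0 := right_ne_zero_of_mul (hμ ▸ hμ0)
  have hnil : IsNilpotent (aeval s p) := by
    refine ⟨k, ?_⟩
    have h := minpoly.aeval F s
    rw [hμ, Polynomial.eq_C_of_natDegree_eq_zero (show r.natDegree = 0 by omega), map_mul, map_pow, aeval_C,
      Algebra.algebraMap_eq_smul_one, mul_smul_comm, mul_one, smul_eq_zero] at h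
    refine h.resolve_left fun h0 => hr0 ?_
    rw [Polynomial.eq_C_of_natDegree_eq_zero (show r.natDegree = 0 by omega), h0, map_zero]
  set s' := s ^ q ^ 2
  have hps : aeval s' p = 0 := by
    rw [aeval_pow_card]
    exact pow_zero_of_le (nil6 hnil) (by nlinarith)
  -- the field generated
  haveI := Fact.mk hp
  let L := AdjoinRoot p
  haveI : FiniteDimensional F L := (AdjoinRoot.powerBasis hp.ne_zero).finite
  haveI : Finite L := Module.finite_of_finite F
  have hdim : finrank F L = p.natDegree := (AdjoinRoot.powerBasis hp.ne_zero).finrank.trans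
    (AdjoinRoot.powerBasis_dim hp.ne_zero)
  let ψ : L →ₐ[F] M6 := Ideal.Quotient.liftₐ (Ideal.span {p}) (Polynomial.aeval s') fun a ha => by
    obtain ⟨b, rfl⟩ := Ideal.mem_span_singleton'.1 ha
    rw [map_mul, hps, mul_zero]
  have hs' : SA s' := by
    have h := sa_aeval hs (X ^ q ^ 2)
    rwa [map_pow, aeval_X] at h
  have hψsa : ∀ e, SA (ψ e) := fun e => by
    obtain ⟨P, rfl⟩ := AdjoinRoot.mk_surjective e
    exact sa_aeval hs' P
  have hψg : ∀ e, Commute g.1 (ψ e) := fun e => by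
    obtain ⟨P, rfl⟩ := AdjoinRoot.mk_surjective e
    exact comm_aeval (hgs.pow_right _) P
  have hdvd6 : p.natDegree ∣ 6 := by
    letI : Module L V6 := Module.compHom V6 ((Matrix.toLinAlgEquiv').toAlgHom.comp ψ).toRingHom
    have hsm : ∀ (e : L) (x : V6), e • x = ψ e *ᵥ x := fun e x => Matrix.toLinAlgEquiv'_apply _ _
    haveI : IsScalarTower F L V6 := ⟨fun c e x => by rw [hsm, hsm, map_smul, Matrix.smul_mulVec]⟩
    refine ⟨finrank L V6, ?_⟩
    rw [← hdim, finrank_mul_finrank]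
    simp
  obtain ⟨hne2, hne6⟩ := degree_ne ψ hψsa
  rw [hdim] at hne2 hne6
  have hp4 : p.natDegree = 1 ∨ p.natDegree = 3 := by
    have := Nat.le_of_dvd (by norm_num) hdvd6
    have := hp.natDegree_pos
    interval_cases hh : p.natDegree <;> omega
  rcases hp4 with hp1 | hp3
  swap
  · obtain ⟨j⟩ := FiniteField.nonempty_algHom_of_finrank_dvd (F := F) (K := E) (L := L) (by rw [hd, hdim, hp3])
    exact Or.inr (Or.inl ⟨ψ.comp j, fun e => hψsa _, fun e => hψg _⟩)
  -- one eigenvalue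
  obtain ⟨c, hc⟩ := Polynomial.exists_root_of_degree_eq_one
    ((Polynomial.degree_eq_iff_natDegree_eq_of_pos one_pos).2 hp1)
  obtain ⟨w, hw⟩ := ((Polynomial.irreducible_X_sub_C c).associated_of_dvd hp (Polynomial.dvd_iff_isRoot.2 hc)).symm.dvd
  have hsc : IsNilpotent (s - c • (1 : M6)) := by
    refine ⟨6, ?_⟩
    have e : s - c • (1 : M6) = aeval s (X - Polynomial.C c) := by
      rw [map_sub, aeval_X, aeval_C, Algebra.algebraMap_eq_smul_one]
    rw [e, hw, ← map_pow, mul_pow, map_mul, map_pow, nil6 hnil, zero_mul]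
  have hχ : g.1 * g.1 - c • g.1 + 1 = g.1 * (s - c • (1 : M6)) := by
    rw [hsdef, mul_sub, mul_add, hgi, mul_smul_comm, mul_one]; abel
  have hχn : IsNilpotent (g.1 * g.1 - c • g.1 + 1) := by
    rw [hχ]
    exact (hgs.sub_right ((Commute.one_right g.1).smul_right c)).isNilpotent_mul_left hsc
  have h2F := two_ne (F := F)
  by_cases hδ : c ^ 2 - 4 = 0
  · set ε := c / 2 with hε
    have hεε : ε * ε = 1 := by
      rw [hε]; field_simp; linear_combination hδ
    let u : Sp6 := ⟨ε • g.1, mem_sp_iff.2 fun x y => by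
      rw [Matrix.smul_mulVec, Matrix.smul_mulVec, sf_smul_left, sf_smul_right, sf_sp, ← mul_assoc, hεε, one_mul]⟩
    have hgu : g.1 = ε • u.1 := by
      show g.1 = ε • ε • g.1
      rw [smul_smul, hεε, one_smul]
    have hun : IsNilpotent (u.1 - 1) := by
      obtain ⟨m, hm⟩ := hχn
      refine ⟨2 * m, ?_⟩
      have e : (u.1 - 1) ^ 2 = g.1 * g.1 - c • g.1 + 1 := by
        show (ε • g.1 - 1) ^ 2 = _
        rw [sq, sub_mul, mul_sub, smul_mul_smul_comm, hεε, one_smul, one_mul, mul_one, show c = ε + ε by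
          rw [hε]; field_simp; ring, add_smul]
        abel
      rw [pow_mul, e, hm]
    rcases unipotent_cases g u hgu hun with h | ⟨a, ha, h⟩ | h
    · exact Or.inl h
    · exact Or.inr (Or.inr (Or.inl ⟨ε, a, hεε, ha, h⟩))
    · exact Or.inr (Or.inr (Or.inr (Or.inl ⟨ε, hεε, h⟩)))
  · set Q := q ^ 4 with hQ
    have hQ6 : 6 ≤ Q := by
      rw [hQ]
      calc 6 ≤ 3 ^ 4 := by norm_num
        _ ≤ q ^ 4 := Nat.pow_le_pow_left hq 4
    let γ : Sp6 := g ^ Q
    have hγ1 : γ.1 = g.1 ^ Q := SubmonoidClass.coe_pow g Q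
    have hγ : γ.1 * γ.1 = c • γ.1 - 1 := by
      have h := aeval_pow_card g.1 (X * X - Polynomial.C c * X + 1) 4
      simp only [map_sub, map_add, map_mul, map_one, aeval_X, aeval_C, ← Algebra.smul_def, ← hQ] at h
      rw [pow_zero_of_le (nil6 hχn) hQ6, ← hγ1] at h
      linear_combination (norm := module) h
    set δ := c ^ 2 - 4
    obtain ⟨m, hm⟩ : ∃ m, q = 2 * m + 1 := ⟨q / 2, by
      have := FiniteField.odd_card_of_char_ne_two (F := F) (by rw [ringChar.eq F 3]; norm_num)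
      omega⟩
    have hfix : γ.1 ^ q ^ 2 = γ.1 := by
      set t : M6 := (2 : F) • γ.1 - c • 1 with htdef
      have ht2 : t * t = δ • (1 : M6) := by
        rw [htdef]
        simp only [sub_mul, mul_sub, smul_mul_assoc, mul_smul_comm, one_mul, mul_one, smul_smul, hγ, smul_sub, δ]
        module
      have htq : t ^ q = δ ^ m • t := by
        rw [hm, pow_succ, pow_mul, sq, ht2, _root_.smul_pow, one_pow, smul_mul_assoc, one_mul]
      have hδm : δ ^ m * δ ^ m = 1 := by
        rw [← pow_add, show m + m = q - 1 by omega, FiniteField.pow_card_sub_one_eq_one δ hδ]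
      have htt : t ^ q ^ 2 = t := by
        rw [sq, pow_mul, htq, _root_.smul_pow, FiniteField.pow_card, htq, smul_smul, hδm, one_smul]
      have h := aeval_pow_card γ.1 (Polynomial.C 2 * X - Polynomial.C c) 2
      simp only [map_sub, map_mul, aeval_X, aeval_C, ← Algebra.smul_def] at h
      rw [Algebra.algebraMap_eq_smul_one, ← htdef, htt, htdef, sub_left_inj] at h
      exact smul_right_injective _ h2F h
    have hfixQ : γ.1 ^ Q = γ.1 := by
      rw [hQ, show 4 = 2 + 2 from rfl, pow_add, pow_mul, hfix, hfix]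
    have hgγ : IsNilpotent (g.1 - γ.1) := by
      refine ⟨Q, ?_⟩
      have h := aeval_pow_card g.1 (X - X ^ Q) 4
      simp only [map_sub, map_pow, aeval_X, ← hQ, ← hγ1, hfixQ, sub_self] at h
      exact h.symm
    let u : Sp6 := γ⁻¹ * g
    have hcomm : Commute γ g := (Commute.refl g).pow_left Q
    have hgu : g.1 = γ.1 * u.1 := by
      rw [← sp_mul_val, mul_inv_cancel_left]
    have hcu : Commute γ.1 u.1 := congrArg Subtype.val
      (((Commute.refl γ).inv_right).mul_right hcomm : Commute γ u).eq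
    have hun : IsNilpotent (u.1 - 1) := by
      have e : u.1 - 1 = (γ⁻¹).1 * (g.1 - γ.1) := by
        rw [mul_sub, ← sp_mul_val, ← sp_mul_val, inv_mul_cancel]; rfl
      rw [e]
      have h1 : Commute (γ⁻¹).1 g.1 := congrArg Subtype.val hcomm.inv_left.eq
      have h2 : Commute (γ⁻¹).1 γ.1 := congrArg Subtype.val (Commute.refl γ).inv_left.eq
      exact (h1.sub_right h2).isNilpotent_mul_left hgγ
    rcases quadratic_cases g γ u hδ hgu hcu hγ hun with h | h
    · exact Or.inl h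
    · exact Or.inr (Or.inr (Or.inr (Or.inr ⟨c, hδ, h⟩)))

/-- The symplectic group in dimension six is covered in characteristic three. -/
theorem covers_psp_six {F : Type} [Field F] [Fintype F] [CharP F 3] : Covers (Cfsg.PSp 3 F) := by
  classical
  haveI : Fact (Nat.Prime 3) := ⟨Nat.prime_three⟩
  let E := FiniteField.Extension F 3 3
  have hd : finrank F E = 3 := FiniteField.finrank_extension F 3 3
  obtain ⟨Mo⟩ := exists_model (E := E) hd
  let P : (Fin 3 ⊕ Fin 3 → F) → Prop := fun x => ∀ i : Fin 3, i ≠ 0 → x (.inl i) = 0 ∧ x (.inr i) = 0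
  set el : Fin 3 ⊕ Fin 3 → F := Pi.single (.inl 0) 1 with hel
  set er : Fin 3 ⊕ Fin 3 → F := Pi.single (.inr 0) 1 with her
  have hP : ∀ x, P x ↔ x = x (.inl 0) • el + x (.inr 0) • er := by
    intro x
    refine ⟨fun h => funext fun j => ?_, fun h i hi => ?_⟩
    · rcases j with j | j <;> rcases eq_or_ne j 0 with rfl | hj
      · simp [el, er]
      · simp [el, er, hj, (h j hj).1]
      · simp [el, er]
      · simp [el, er, hj, (h j hj).2]
    · rw [h]; simp [el, er, hi]
  have hcenter : ∀ A : Matrix.symplecticGroup (Fin 3) F, A ∈ Subgroup.center _ →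
      ∃ e : F, A.1 = e • (1 : Matrix (Fin 3 ⊕ Fin 3) (Fin 3 ⊕ Fin 3) F) := by
    intro A hA
    rcases center_scalar (by norm_num) (fun v _ => ((Subgroup.mem_center_iff.1 hA) (tv v 1)).symm) with h | h
    · exact ⟨1, by rw [one_smul, h]⟩
    · exact ⟨-1, by rw [neg_one_smul, h]⟩
  refine covers_quot (predStab P) (normStab Mo.phi) ?_ (Mo.normStab_ne_top hd) (fun A hA => ?_) (fun A hA => ?_)
    fun g => ?_
  · intro h
    set v : Fin 3 ⊕ Fin 3 → F := Pi.single (.inl 0) 1 + Pi.single (.inl 1) 1 with hv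
    have hmem : tv v 1 ∈ predStab P := by rw [h]; trivial
    have h0 : P er := fun i hi => by simp [er, hi]
    have h1 := ((hmem er).2 h0 1 (by decide)).1
    have hs : sf er v = 1 := by rw [hv, sf_add_right, her, sf_single_inl, sf_single_inl]; simp
    rw [tv_mulVec, hs] at h1
    simp [er, v] at h1
  · obtain ⟨e, he⟩ := hcenter A hA
    refine mem_predStab fun x hx i hi => ?_
    rw [he, Matrix.smul_mulVec, Matrix.one_mulVec]
    exact ⟨by simp [(hx i hi).1], by simp [(hx i hi).2]⟩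
  · obtain ⟨e, he⟩ := hcenter A hA
    exact mem_normStab Mo.phi_injective fun e' => ⟨e', by rw [he]; simp⟩
  · have conj : ∀ (r : Matrix.symplecticGroup (Fin 3) F), r ∈ normStab Mo.phi →
        (∃ A, A * g = r * A) → ∃ x, x * g * x⁻¹ ∈ predStab P ∨ x * g * x⁻¹ ∈ normStab Mo.phi := by
      rintro r hr ⟨A, hA⟩
      exact ⟨A, Or.inr (by rwa [hA, mul_inv_cancel_right])⟩
    have scal : ∀ (ε : F) (u : Matrix.symplecticGroup (Fin 3) F), ε * ε = 1 → u ∈ normStab Mo.phi →
        ∃ r : Matrix.symplecticGroup (Fin 3) F, r.1 = ε • u.1 ∧ r ∈ normStab Mo.phi := by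
      intro ε u hε hu
      refine ⟨⟨ε • u.1, mem_sp_iff.2 fun x y => by
        rw [Matrix.smul_mulVec, Matrix.smul_mulVec, sf_smul_left, sf_smul_right, sf_sp, ← mul_assoc, hε, one_mul]⟩,
        rfl, mem_normStab Mo.phi_injective fun e => ?_⟩
      obtain ⟨e', he'⟩ := hu.1 e
      exact ⟨e', by simp [he']⟩
    obtain ⟨σu, hσm, hσ3, hσ2, hσγ⟩ := Mo.exists_sigma hd
    rcases classify (E := E) hd g with h | ⟨ψ, hψ, hψg⟩ | ⟨ε, a, hε, ha, h⟩ | ⟨ε, hε, h⟩ | ⟨c, hc, h⟩
    · obtain ⟨x, y, hxy, hgx, hgy⟩ := h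
      have hst : sf er el = 1 := by rw [hel, sf_single_inl, her]; simp
      have hts : sf el er = -1 := by rw [sf_swap, hst]
      have hyx : sf y x = -1 := by rw [sf_swap, hxy]
      have hli : ∀ x y : Fin 3 ⊕ Fin 3 → F, sf x y = 1 → LinearIndependent F ![x, y] := fun x y hxy =>
        li_of_pairs (π := ![1, 0]) (by decide)
          (fun i j h => by fin_cases i <;> fin_cases j <;> simp [sf_self] at h ⊢)
          (fun i => by fin_cases i <;> simp [hxy]; rw [sf_swap, hxy]; simp)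
      obtain ⟨A, hA⟩ := CfsgLib.Classical.SympCount.exists_move_tuple (t := ![er, el]) (t' := ![x, y])
        (hli _ _ hst) (hli _ _ hxy) (fun i j => by fin_cases i <;> fin_cases j <;> simp [sf_self, hst, hts, hxy, hyx])
      refine ⟨A⁻¹, Or.inl (mem_predStab fun z hz => ?_)⟩
      have hAl : A.1 *ᵥ el = y := hA 1
      have hAr : A.1 *ᵥ er = x := hA 0
      rw [inv_inv, sp_mul_mulVec, sp_mul_mulVec, (hP z).1 hz, Matrix.mulVec_add, Matrix.mulVec_smul,
        Matrix.mulVec_smul, hAl, hAr]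
      have hin : g.1 *ᵥ (z (.inl 0) • y + z (.inr 0) • x) ∈ Submodule.span F {x, y} := by
        rw [Matrix.mulVec_add, Matrix.mulVec_smul, Matrix.mulVec_smul]
        exact add_mem (Submodule.smul_mem _ _ hgy) (Submodule.smul_mem _ _ hgx)
      obtain ⟨b, b', hb⟩ := Submodule.mem_span_pair.1 hin
      rw [← hb, ← hAl, ← hAr, ← Matrix.mulVec_smul, ← Matrix.mulVec_smul, ← Matrix.mulVec_add, sp_inv_mulVec]
      intro i hi
      simp [el, er, hi]
    · obtain ⟨A, hA⟩ := Mo.exists_conj hd ψ hψ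
      refine ⟨A⁻¹, Or.inr (mem_normStab Mo.phi_injective fun e => ⟨e, ?_⟩)⟩
      have hinv : (A⁻¹).1 * A.1 = 1 := by rw [← sp_mul_val, inv_mul_cancel]; rfl
      have hinv' : A.1 * (A⁻¹).1 = 1 := by rw [← sp_mul_val, mul_inv_cancel]; rfl
      have hA' : Mo.phi e = (A⁻¹).1 * ψ e * A.1 := by rw [mul_assoc, ← hA, ← mul_assoc, hinv, one_mul]
      rw [inv_inv, sp_mul_val, sp_mul_val]
      calc (A⁻¹).1 * g.1 * A.1 * Mo.phi e = (A⁻¹).1 * (g.1 * ψ e) * A.1 := by
            simp only [mul_assoc]; rw [hA]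
        _ = (A⁻¹).1 * (ψ e * (A.1 * (A⁻¹).1) * g.1) * A.1 := by rw [hinv', mul_one, (hψg e).eq]
        _ = Mo.phi e * ((A⁻¹).1 * g.1 * A.1) := by rw [hA']; simp only [mul_assoc]
    · obtain ⟨u, v, hum, hu6, hu5⟩ := Mo.exists_regular hd ha
      obtain ⟨r, hr, hrm⟩ := scal ε u hε hum
      have h6 := form6_of u r.1 hr hu6 hu5 (neg_ne_zero.2 ha)
      rw [neg_neg] at h6
      exact conj r hrm (form6_unique h h6)
    · obtain ⟨r, hr, hrm⟩ := scal ε σu hε hσm
      exact conj r hrm (form33_unique h (form33_of σu r.1 hr hσ3 hσ2))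
    · obtain ⟨γ, hγm, hγc, hγ⟩ := hσγ c
      exact conj (γ * σu) (mul_mem hγm hσm) (formK_unique hc h (formK_of γ σu _ hc (sp_mul_val γ σu) hγc hγ hσ3 hσ2))

end CfsgLib.Classical.UnionTwo.SpSix
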