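import Cfsg.Agent.Lib.Classical.UnionTwo.Quotient
import Cfsg.Agent.Lib.Classical.SympCount

/-!
# Normal forms for some elements of the symplectic group in dimension six
-/

set_option autoImplicit false
set_option linter.unusedSectionVars false

namespace CfsgLib.Classical.UnionTwo.SpSix

open Matrix Module CfsgLib.Sp

variable {F : Type*} [Field F] [CharP F 3]

local notation "V6" => (Fin 3 ⊕ Fin 3 → F)
local notation "M6" => Matrix (Fin 3 ⊕ Fin 3) (Fin 3 ⊕ Fin 3) F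
local notation "Sp6" => Matrix.symplecticGroup (Fin 3) F

theorem three0 : (3 : F) = 0 := CharP.cast_eq_zero F 3

theorem two_ne : (2 : F) ≠ 0 := fun h => one_ne_zero (by linear_combination (three0 : (3 : F) = 0) - h)

/-- Skew operators. -/
def SK (A : Matrix (Fin 3 ⊕ Fin 3) (Fin 3 ⊕ Fin 3) F) : Prop := ∀ x y, sf (A *ᵥ x) y = -sf x (A *ᵥ y)

/-- Self adjoint operators. -/
def SA (A : Matrix (Fin 3 ⊕ Fin 3) (Fin 3 ⊕ Fin 3) F) : Prop := ∀ x y, sf (A *ᵥ x) y = sf x (A *ᵥ y)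

theorem sf_neg_left (u v : V6) : sf (-u) v = -sf u v := by
  rw [← neg_one_smul F u, sf_smul_left, neg_one_mul]

theorem sf_neg_right (u v : V6) : sf u (-v) = -sf u v := by
  rw [← neg_one_smul F v, sf_smul_right, neg_one_mul]

theorem sf_zero_left (v : V6) : sf (0 : V6) v = 0 := by simp [Cfsg.sympForm]

theorem sf_zero_right (v : V6) : sf v (0 : V6) = 0 := by simp [Cfsg.sympForm]

theorem sa_self {A : M6} (hA : SA A) (x : V6) : sf x (A *ᵥ x) = 0 := by
  have h := hA x x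
  rw [sf_swap] at h
  exact (mul_eq_zero.1 (show (2 : F) * sf x (A *ᵥ x) = 0 by linear_combination -h)).resolve_left two_ne

theorem sk_exists {A : M6} (hA : SK A) (h0 : A ≠ 0) : ∃ v, sf v (A *ᵥ v) ≠ 0 := by
  by_contra h
  push Not at h
  refine h0 (Matrix.ext_iff_mulVec.2 fun y => ?_)
  rw [Matrix.zero_mulVec]
  refine eq_zero_of_sf' fun x => ?_
  have e := h (x + y)
  simp only [Matrix.mulVec_add, sf_add_left, sf_add_right, h] at e
  have e2 := hA y x
  rw [sf_swap] at e2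
  exact (mul_eq_zero.1 (show (2 : F) * sf x (A *ᵥ y) = 0 by linear_combination e - e2)).resolve_left two_ne

theorem SK.mul_sa {A B : M6} (hA : SK A) (hB : SA B) (h : A * B = B * A) : SK (A * B) := fun x y => by
  rw [← Matrix.mulVec_mulVec, hA, hB, Matrix.mulVec_mulVec, h]

theorem SK.mul_sk {A B : M6} (hA : SK A) (hB : SK B) (h : A * B = B * A) : SA (A * B) := fun x y => by
  rw [← Matrix.mulVec_mulVec, hA, hB, neg_neg, Matrix.mulVec_mulVec, h]

theorem sa_one : SA (1 : M6) := fun x y => by rw [Matrix.one_mulVec, Matrix.one_mulVec]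

theorem sk_pow {n : M6} (hn : SK n) : ∀ (i : ℕ) (x y : V6), sf ((n ^ i) *ᵥ x) y = (-1) ^ i * sf x ((n ^ i) *ᵥ y) := by
  intro i
  induction i with
  | zero => intro x y; simp
  | succ i ih =>
    intro x y
    conv_lhs => rw [pow_succ', ← Matrix.mulVec_mulVec, hn, ih, Matrix.mulVec_mulVec, ← pow_succ]
    ring

theorem SK.sq {n : M6} (hn : SK n) : SA (n ^ 2) := fun x y => by rw [sk_pow hn]; ring

theorem SK.pow_odd {n : M6} (hn : SK n) {i : ℕ} (hi : Odd i) : SK (n ^ i) := fun x y => by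
  rw [sk_pow hn, hi.neg_one_pow]; ring

theorem SK.pow_even {n : M6} (hn : SK n) {i : ℕ} (hi : Even i) : SA (n ^ i) := fun x y => by
  rw [sk_pow hn, hi.neg_one_pow, one_mul]

/-- Pairing of powers. -/
theorem sf_pow_pow {n : M6} (hn : SK n) (i j : ℕ) (x y : V6) :
    sf ((n ^ i) *ᵥ x) ((n ^ j) *ᵥ y) = (-1) ^ i * sf x ((n ^ (i + j)) *ᵥ y) := by
  rw [sk_pow hn, Matrix.mulVec_mulVec, ← pow_add]

/-! ### Frames -/

theorem li_of_pairs {ι : Type*} [Fintype ι] {b : ι → V6} {π : ι → ι} (hπ : Function.Injective π)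
    (h0 : ∀ i j, j ≠ π i → sf (b i) (b j) = 0) (h1 : ∀ i, sf (b i) (b (π i)) ≠ 0) : LinearIndependent F b := by
  rw [Fintype.linearIndependent_iff]
  intro c hc i
  have h := congrArg (fun z => CfsgLib.Sp.sfLin (b (π i)) z) hc
  simp only [map_sum, map_smul, map_zero, sfLin_apply, smul_eq_mul] at h
  rw [Finset.sum_eq_single i (fun k _ hk => by rw [h0 k (π i) (fun e => hk (hπ e).symm), mul_zero])
    (fun hh => absurd (Finset.mem_univ i) hh)] at h
  exact (mul_eq_zero.1 h).resolve_right (h1 i)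

/-- An invariant plane with a non-zero form. -/
def HasTwo (g : Matrix (Fin 3 ⊕ Fin 3) (Fin 3 ⊕ Fin 3) F) : Prop :=
  ∃ x y, sf x y = 1 ∧ g *ᵥ x ∈ Submodule.span F {x, y} ∧ g *ᵥ y ∈ Submodule.span F {x, y}

theorem hasTwo_of_two {g : M6} {W : Submodule F V6} (hd : finrank F W = 2)
    (hnd : ∀ x ∈ W, (∀ y ∈ W, sf x y = 0) → x = 0) (hg : ∀ x ∈ W, g *ᵥ x ∈ W) : HasTwo g := by
  obtain ⟨x, hx, hx0⟩ := Submodule.exists_mem_ne_zero_of_ne_bot
    (show W ≠ ⊥ from fun h => by rw [h, finrank_bot] at hd; omega)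
  obtain ⟨y, hy, hxy⟩ : ∃ y ∈ W, sf x y = 1 := by
    by_contra h
    refine hx0 (hnd x hx fun y hy => ?_)
    by_contra hne
    exact h ⟨(sf x y)⁻¹ • y, W.smul_mem _ hy, by rw [sf_smul_right, inv_mul_cancel₀ hne]⟩
  have hle : Submodule.span F {x, y} ≤ W := by
    rw [Submodule.span_le]; rintro z (rfl | rfl) <;> assumption
  have hli : LinearIndependent F ![x, y] := by
    refine LinearIndependent.pair_iff.2 fun a b hab => ?_
    have h1 := congrArg (fun z => sf z y) hab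
    have h2 := congrArg (fun z => sf x z) hab
    simp only [sf_add_left, sf_add_right, sf_smul_left, sf_smul_right, sf_self, hxy, sf_zero_left, sf_zero_right,
      mul_zero, add_zero, zero_add, mul_one] at h1 h2
    exact ⟨h1, h2⟩
  have heq : Submodule.span F {x, y} = W := by
    refine Submodule.eq_of_le_of_finrank_eq hle ?_
    have h := finrank_span_eq_card hli
    rw [Matrix.range_cons_cons_empty, Fintype.card_fin] at h
    rw [h, hd]
  exact ⟨x, y, hxy, by rw [heq]; exact hg x hx, by rw [heq]; exact hg y hy⟩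

/-- The orthogonal of a subspace. -/
def perp (W : Submodule F (Fin 3 ⊕ Fin 3 → F)) : Submodule F (Fin 3 ⊕ Fin 3 → F) where
  carrier := {z | ∀ w ∈ W, sf z w = 0}
  add_mem' {a b} ha hb w hw := by rw [sf_add_left, ha w hw, hb w hw, add_zero]
  zero_mem' w _ := sf_zero_left w
  smul_mem' c a ha w hw := by rw [sf_smul_left, ha w hw, mul_zero]

theorem hasTwo_of_sub (g : Sp6) {W : Submodule F V6} (hd : finrank F W = 2 ∨ finrank F W = 4)
    (hnd : ∀ x ∈ W, (∀ y ∈ W, sf x y = 0) → x = 0) (hg : ∀ x ∈ W, g.1 *ᵥ x ∈ W) : HasTwo g.1 := by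
  rcases hd with hd | hd
  · exact hasTwo_of_two hd hnd hg
  have hdis : Disjoint W (perp W) := by
    rw [Submodule.disjoint_def]
    exact fun x hx hx' => hnd x hx fun y hy => hx' y hy
  let Φ : V6 →ₗ[F] Module.Dual F W :=
    { toFun := fun z => (CfsgLib.Classical.SympCount.sB 3 F z).comp W.subtype
      map_add' := fun a b => by rw [map_add]; rfl
      map_smul' := fun c a => by rw [map_smul]; rfl }
  have hker : LinearMap.ker Φ = perp W := by
    ext z
    exact ⟨fun h w hw => LinearMap.congr_fun (LinearMap.mem_ker.1 h) ⟨w, hw⟩,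
      fun h => LinearMap.mem_ker.2 (LinearMap.ext fun w => h w.1 w.2)⟩
  have h6 : finrank F V6 = 6 := by simp
  have h1 := Φ.finrank_range_add_finrank_ker
  rw [hker, h6] at h1
  have h2 : finrank F (LinearMap.range Φ) ≤ 4 := by
    have := Submodule.finrank_le (LinearMap.range Φ)
    rwa [Subspace.dual_finrank_eq, hd] at this
  have h3 := Submodule.finrank_add_finrank_le_of_disjoint hdis
  rw [hd, h6] at h3
  have hd' : finrank F (perp W) = 2 := by omega
  have htop : W ⊔ perp W = ⊤ := Submodule.eq_top_of_disjoint _ _ (by omega) hdis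
  refine hasTwo_of_two hd' (fun x hx h => eq_zero_of_sf fun v => ?_) fun z hz w hw => ?_
  · obtain ⟨a, ha, b, hb, rfl⟩ := Submodule.mem_sup.1 (htop.ge (Submodule.mem_top (x := v)))
    rw [sf_add_right, hx a ha, h b hb, add_zero]
  · let r : W →ₗ[F] W := (Matrix.toLin' g.1).restrict hg
    have hr : Function.Injective r := fun a b hab => Subtype.ext <| by
      have h' : g.1 *ᵥ a.1 = g.1 *ᵥ b.1 := congrArg Subtype.val hab
      have := congrArg ((g⁻¹).1 *ᵥ ·) h'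
      simpa only [sp_inv_mulVec] using this
    obtain ⟨w', hw'⟩ := (LinearMap.injective_iff_surjective.1 hr) ⟨w, hw⟩
    have e : g.1 *ᵥ w'.1 = w := congrArg Subtype.val hw'
    rw [← e, sf_sp]
    exact hz w'.1 w'.2

theorem hasTwo_of_frame (g : Sp6) {ι : Type*} [Fintype ι] {b : ι → V6} {π : ι → ι} (hπ : Function.Injective π)
    (h0 : ∀ i j, j ≠ π i → sf (b i) (b j) = 0) (h1 : ∀ i, sf (b i) (b (π i)) ≠ 0)
    (hι : Fintype.card ι = 2 ∨ Fintype.card ι = 4) (hg : ∀ i, g.1 *ᵥ b i ∈ Submodule.span F (Set.range b)) :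
    HasTwo g.1 := by
  refine hasTwo_of_sub g (W := Submodule.span F (Set.range b))
    (by rwa [finrank_span_eq_card (li_of_pairs hπ h0 h1)]) (fun x hx h => ?_) fun x hx => ?_
  · obtain ⟨c, rfl⟩ := (Submodule.mem_span_range_iff_exists_fun F).1 hx
    refine Finset.sum_eq_zero fun i _ => ?_
    have e := h (b (π i)) (Submodule.subset_span ⟨_, rfl⟩)
    change CfsgLib.Sp.sfLin (b (π i)) (∑ k, c k • b k) = 0 at e
    simp only [map_sum, map_smul, sfLin_apply, smul_eq_mul] at e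
    rw [Finset.sum_eq_single i (fun k _ hk => by rw [h0 k (π i) (fun e => hk (hπ e).symm), mul_zero])
      (fun hh => absurd (Finset.mem_univ i) hh)] at e
    rw [(mul_eq_zero.1 e).resolve_right (h1 i), zero_smul]
  · obtain ⟨c, rfl⟩ := (Submodule.mem_span_range_iff_exists_fun F).1 hx
    rw [Matrix.mulVec_sum]
    exact Submodule.sum_mem _ fun i _ => by rw [Matrix.mulVec_smul]; exact Submodule.smul_mem _ _ (hg i)

/-- A symplectic matrix moving one full frame to another. -/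
theorem exists_conj_frame {ι : Type*} [Fintype ι] {b b' : ι → V6} {π : ι → ι} (hπ : Function.Injective π)
    (h0 : ∀ i j, j ≠ π i → sf (b i) (b j) = 0) (h1 : ∀ i, sf (b i) (b (π i)) ≠ 0) (hι : Fintype.card ι = 6)
    (hgram : ∀ i j, sf (b i) (b j) = sf (b' i) (b' j)) :
    ∃ A : Sp6, (∀ i, A.1 *ᵥ b i = b' i) ∧
      ∀ n n' : M6, (∀ i, A.1 *ᵥ (n *ᵥ b i) = n' *ᵥ b' i) → SemiconjBy A.1 n n' := by
  have hli := li_of_pairs hπ h0 h1
  have hli' := li_of_pairs (b := b') hπ (fun i j h => (hgram i j).symm.trans (h0 i j h))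
    (fun i => fun h => h1 i ((hgram _ _).trans h))
  obtain ⟨A, hA⟩ := CfsgLib.Classical.SympCount.exists_move_tuple hli hli' hgram
  refine ⟨A, hA, fun n n' h => Matrix.ext_iff_mulVec.2 fun x => ?_⟩
  obtain ⟨c, rfl⟩ := (Submodule.mem_span_range_iff_exists_fun F).1
    ((hli.span_eq_top_of_card_eq_finrank' (by rw [hι]; simp)).ge (Submodule.mem_top (x := x)))
  simp only [Matrix.mulVec_sum, Matrix.mulVec_smul, ← Matrix.mulVec_mulVec, h, hA]

/-- Two chains of length `k` with independent ends fit in dimension six. -/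
theorem chain_le {n : M6} {k : ℕ} (a b : V6) (ha : (n ^ k) *ᵥ a = 0) (hb : (n ^ k) *ᵥ b = 0)
    (hli : ∀ c d : F, c • ((n ^ (k - 1)) *ᵥ a) + d • ((n ^ (k - 1)) *ᵥ b) = 0 → c = 0 ∧ d = 0) : 2 * k ≤ 6 := by
  have key : LinearIndependent F (fun p : Fin k × Fin 2 => if p.2 = 0 then (n ^ (p.1 : ℕ)) *ᵥ a else (n ^ (p.1 : ℕ)) *ᵥ b) := by
    rw [Fintype.linearIndependent_iff]
    intro c hc
    simp only [Fintype.sum_prod_type, Fin.sum_univ_two, if_true, if_false,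
      show ((1 : Fin 2) = 0) = False by simp] at hc
    have hall : ∀ i : ℕ, ∀ hi : i < k, c (⟨i, hi⟩, 0) = 0 ∧ c (⟨i, hi⟩, 1) = 0 := by
      intro i
      induction i using Nat.strong_induction_on with
      | _ i ih =>
        intro hi
        apply hli
        have h := congrArg ((n ^ (k - 1 - i)) *ᵥ ·) hc
        simp only [Matrix.mulVec_sum, Matrix.mulVec_add, Matrix.mulVec_smul, Matrix.mulVec_mulVec, ← pow_add,
          Matrix.mulVec_zero] at h
        rw [Finset.sum_eq_single (⟨i, hi⟩ : Fin k) (fun j _ hj => ?_) (fun hh => absurd (Finset.mem_univ _) hh),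
          show k - 1 - i + i = k - 1 by omega] at h
        · exact h
        rcases lt_or_gt_of_ne (fun e : (j : ℕ) = i => hj (Fin.ext e)) with hlt | hgt
        · obtain ⟨e0, e1⟩ := ih j hlt j.2
          rw [show (⟨(j : ℕ), j.2⟩ : Fin k) = j from rfl] at e0 e1
          rw [e0, e1, zero_smul, zero_smul, add_zero]
        · rw [show k - 1 - i + (j : ℕ) = (j - i - 1) + k by omega, pow_add, ← Matrix.mulVec_mulVec,
            ← Matrix.mulVec_mulVec, ha, hb]
          simp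
    rintro ⟨i, j⟩
    fin_cases j
    exacts [(hall i i.2).1, (hall i i.2).2]
  have h := key.fintype_card_le_finrank
  simp at h
  omega

/-! ### The Cayley transform -/

/-- The inverse of `1 - w` for nilpotent `w`. -/
def geo (w : Matrix (Fin 3 ⊕ Fin 3) (Fin 3 ⊕ Fin 3) F) : Matrix (Fin 3 ⊕ Fin 3) (Fin 3 ⊕ Fin 3) F :=
  1 + w + w ^ 2 + w ^ 3 + w ^ 4 + w ^ 5

/-- The Cayley transform. -/
def cay (n : Matrix (Fin 3 ⊕ Fin 3) (Fin 3 ⊕ Fin 3) F) : Matrix (Fin 3 ⊕ Fin 3) (Fin 3 ⊕ Fin 3) F :=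
  (1 + n) * geo n

theorem geo_mul {w : M6} (h : w ^ 6 = 0) : geo w * (1 - w) = 1 ∧ (1 - w) * geo w = 1 := by
  have e1 : geo w * (1 - w) = 1 - w ^ 6 := by rw [geo]; noncomm_ring
  have e2 : (1 - w) * geo w = 1 - w ^ 6 := by rw [geo]; noncomm_ring
  rw [h, sub_zero] at e1 e2
  exact ⟨e1, e2⟩

theorem commute_geo {a w : M6} (h : Commute a w) : Commute a (geo w) :=
  (((((Commute.one_right a).add_right h).add_right (h.pow_right 2)).add_right (h.pow_right 3)).add_right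
    (h.pow_right 4)).add_right (h.pow_right 5)

theorem semiconj_cay {A n n' : M6} (h : SemiconjBy A n n') : SemiconjBy A (cay n) (cay n') := by
  unfold cay geo
  exact ((SemiconjBy.one_right A).add_right h).mul_right
    ((((((SemiconjBy.one_right A).add_right h).add_right (h.pow_right 2)).add_right (h.pow_right 3)).add_right
      (h.pow_right 4)).add_right (h.pow_right 5))

theorem char_three (a : M6) : a + a = -a := by
  have h : (3 : F) • a = 0 := by rw [three0, zero_smul]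
  rw [eq_neg_iff_add_eq_zero, ← h, show (3 : F) = 1 + 1 + 1 by norm_num, add_smul, add_smul, one_smul]

/-- The skew operator of a unipotent element. -/
theorem exists_cayley (u : Sp6) (hw : (u.1 - 1) ^ 6 = 0) :
    ∃ n : M6, SK n ∧ u.1 = cay n ∧ n = -((u.1 - 1) * geo (u.1 - 1)) ∧ ∀ k, n ^ k = 0 ↔ (u.1 - 1) ^ k = 0 := by
  set w := u.1 - 1 with hw0
  obtain ⟨g1, g2⟩ := geo_mul hw
  have hc : Commute w (geo w) := commute_geo (Commute.refl w)
  set n := -(w * geo w) with hn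
  have hu : u.1 = 1 + w := by rw [hw0]; abel
  have hu1 : u.1 + 1 = -(1 - w) := by
    rw [hu, show 1 + w + 1 = (1 + 1) + w by abel, char_three]; abel
  have hrel : n * (u.1 + 1) = u.1 - 1 := by
    rw [hu1, hn, neg_mul_neg, mul_assoc, g1, mul_one]
  have hcn : Commute n u.1 := by
    rw [hu, hn]
    exact ((Commute.one_right _).add_right ((Commute.refl w).mul_left hc.symm)).neg_left
  have hk : ∀ k, n ^ k = 0 ↔ w ^ k = 0 := by
    intro k
    rw [hn, neg_pow, hc.mul_pow]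
    have hu' : IsUnit (geo w ^ k) := IsUnit.pow k ⟨⟨geo w, 1 - w, g1, g2⟩, rfl⟩
    have hs : IsUnit ((-1 : M6) ^ k) := (IsUnit.neg isUnit_one).pow k
    rw [hs.mul_right_eq_zero, hu'.mul_left_eq_zero]
  have hn6 : n ^ 6 = 0 := (hk 6).2 hw
  refine ⟨n, fun x y => ?_, ?_, rfl, hk⟩
  · have hsurj : ∀ x : V6, ∃ x', (u.1 + 1) *ᵥ x' = x := fun x => ⟨-(geo w *ᵥ x), by
      rw [hu1, Matrix.mulVec_neg, Matrix.mulVec_mulVec, neg_mul, g2, Matrix.neg_mulVec, neg_neg,
        Matrix.one_mulVec]⟩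
    obtain ⟨x, rfl⟩ := hsurj x
    obtain ⟨y, rfl⟩ := hsurj y
    rw [Matrix.mulVec_mulVec, Matrix.mulVec_mulVec, hrel]
    simp only [Matrix.sub_mulVec, Matrix.add_mulVec, Matrix.one_mulVec]
    simp only [sub_eq_add_neg, sf_add_left, sf_add_right, sf_neg_left, sf_neg_right, sf_sp]
    ring
  · obtain ⟨k1, k2⟩ := geo_mul hn6
    have h1 : u.1 * (1 - n) = 1 + n := by
      rw [mul_sub, mul_one, ← hcn.eq]
      have := hrel
      rw [mul_add, mul_one] at this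
      rw [← sub_eq_zero] at this ⊢
      rw [← neg_eq_zero, ← this]
      abel
    rw [cay, ← h1, mul_assoc, k2, mul_one]

/-! ### Normal forms -/

/-- A single chain of length six. -/
def Form6 (g : Matrix (Fin 3 ⊕ Fin 3) (Fin 3 ⊕ Fin 3) F) (ε a : F) : Prop :=
  ∃ (n : Matrix (Fin 3 ⊕ Fin 3) (Fin 3 ⊕ Fin 3) F) (v : Fin 3 ⊕ Fin 3 → F), SK n ∧ n ^ 6 = 0 ∧ g = ε • cay n ∧
    a ≠ 0 ∧ sf v (n *ᵥ v) = 0 ∧ sf v ((n ^ 3) *ᵥ v) = 0 ∧ sf v ((n ^ 5) *ᵥ v) = a

/-- Two chains of length three. -/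
def Form33 (g : Matrix (Fin 3 ⊕ Fin 3) (Fin 3 ⊕ Fin 3) F) (ε : F) : Prop :=
  ∃ (n : Matrix (Fin 3 ⊕ Fin 3) (Fin 3 ⊕ Fin 3) F) (v w : Fin 3 ⊕ Fin 3 → F), SK n ∧ n ^ 3 = 0 ∧ g = ε • cay n ∧
    sf v (n *ᵥ v) = 0 ∧ sf w (n *ᵥ w) = 0 ∧ sf v w = 0 ∧ sf v (n *ᵥ w) = 0 ∧ sf v ((n ^ 2) *ᵥ w) = 1

/-- A chain of length three over a quadratic algebra. -/
def FormK (g : Matrix (Fin 3 ⊕ Fin 3) (Fin 3 ⊕ Fin 3) F) (c : F) : Prop :=
  ∃ (n t : Matrix (Fin 3 ⊕ Fin 3) (Fin 3 ⊕ Fin 3) F) (v : Fin 3 ⊕ Fin 3 → F), SK n ∧ SK t ∧ Commute t n ∧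
    t * t = (c ^ 2 - 4) • 1 ∧ n ^ 3 = 0 ∧ g = ((c / 2) • 1 + (2 : F)⁻¹ • t) * cay n ∧
    sf v (n *ᵥ v) = 0 ∧ sf v (t *ᵥ v) = 0 ∧ sf v ((t * n ^ 2) *ᵥ v) = 1

theorem pow_zero_of_le {n : M6} {k i : ℕ} (h : n ^ k = 0) (hi : k ≤ i) : n ^ i = 0 :=
  pow_eq_zero_of_le hi h

theorem form6_unique {g g' : Sp6} {ε a : F} (h : Form6 g.1 ε a) (h' : Form6 g'.1 ε a) :
    ∃ A : Sp6, A * g = g' * A := by
  obtain ⟨n, v, hn, h6, hg, ha, p1, p3, p5⟩ := h
  obtain ⟨n', v', hn', h6', hg', -, p1', p3', p5'⟩ := h'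
  have vals : ∀ (n : M6) (v : V6), SK n → n ^ 6 = 0 → sf v (n *ᵥ v) = 0 → sf v ((n ^ 3) *ᵥ v) = 0 →
      sf v ((n ^ 5) *ᵥ v) = a → ∀ i : ℕ, sf v ((n ^ i) *ᵥ v) = if i = 5 then a else 0 := by
    intro n v hn h6 p1 p3 p5 i
    rcases Nat.even_or_odd i with he | ho
    · rw [sa_self (hn.pow_even he), if_neg]
      rintro rfl
      exact absurd he (by decide)
    · by_cases h : 6 ≤ i
      · rw [pow_zero_of_le h6 h, Matrix.zero_mulVec, sf_zero_right, if_neg (by omega)]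
      obtain ⟨r, hr⟩ := ho
      rcases (show i = 1 ∨ i = 3 ∨ i = 5 by omega) with rfl | rfl | rfl
      · simpa using p1
      · simpa using p3
      · simpa using p5
  let b : Fin 6 → V6 := fun i => (n ^ (i : ℕ)) *ᵥ v
  let b' : Fin 6 → V6 := fun i => (n' ^ (i : ℕ)) *ᵥ v'
  have gr : ∀ i j : Fin 6, sf (b i) (b j) = (-1) ^ (i : ℕ) * if (i : ℕ) + j = 5 then a else 0 := fun i j => by
    rw [sf_pow_pow hn, vals n v hn h6 p1 p3 p5]
  have gr' : ∀ i j : Fin 6, sf (b' i) (b' j) = (-1) ^ (i : ℕ) * if (i : ℕ) + j = 5 then a else 0 := fun i j => by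
    rw [sf_pow_pow hn', vals n' v' hn' h6' p1' p3' p5']
  obtain ⟨A, hA, hAs⟩ := exists_conj_frame (b := b) (b' := b') (π := Fin.rev) Fin.rev_injective
    (fun i j hij => by
      rw [gr, if_neg, mul_zero]
      exact fun e => hij (Fin.ext (by rw [Fin.val_rev]; omega)))
    (fun i => by rw [gr, if_pos (by rw [Fin.val_rev]; omega)]; simp [ha])
    (Fintype.card_fin 6) (fun i j => by rw [gr, gr'])
  have hs : SemiconjBy A.1 n n' := hAs n n' fun i => by
    show A.1 *ᵥ (n *ᵥ ((n ^ (i : ℕ)) *ᵥ v)) = n' *ᵥ ((n' ^ (i : ℕ)) *ᵥ v')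
    rw [Matrix.mulVec_mulVec _ n, Matrix.mulVec_mulVec _ n', ← pow_succ', ← pow_succ']
    by_cases hi : (i : ℕ) + 1 < 6
    · exact hA ⟨(i : ℕ) + 1, hi⟩
    · rw [pow_zero_of_le h6 (by omega), pow_zero_of_le h6' (by omega)]
      simp
  exact ⟨A, Subtype.ext (show A.1 * g.1 = g'.1 * A.1 by
    rw [hg, hg', mul_smul_comm, smul_mul_assoc, (semiconj_cay hs).eq])⟩

theorem form33_unique {g g' : Sp6} {ε : F} (h : Form33 g.1 ε) (h' : Form33 g'.1 ε) :
    ∃ A : Sp6, A * g = g' * A := by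
  obtain ⟨n, v, w, hn, h3, hg, pv, pw, x0, x1, x2⟩ := h
  obtain ⟨n', v', w', hn', h3', hg', pv', pw', x0', x1', x2'⟩ := h'
  let J := Fin 3 ⊕ Fin 3
  let bb : M6 → V6 → V6 → J → V6 := fun n v w =>
    Sum.elim (fun i => (n ^ (i : ℕ)) *ᵥ v) (fun i => (n ^ (i : ℕ)) *ᵥ w)
  let G : J → J → F := Sum.elim (fun i => Sum.elim (fun _ => 0) (fun j => (-1) ^ (i : ℕ) * if (i : ℕ) + j = 2 then 1 else 0))
    (fun i => Sum.elim (fun j => -((-1) ^ (i : ℕ) * if (i : ℕ) + j = 2 then 1 else 0)) (fun _ => 0))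
  have gr : ∀ (n : M6) (v w : V6), SK n → n ^ 3 = 0 → sf v (n *ᵥ v) = 0 → sf w (n *ᵥ w) = 0 → sf v w = 0 →
      sf v (n *ᵥ w) = 0 → sf v ((n ^ 2) *ᵥ w) = 1 → ∀ p r, sf (bb n v w p) (bb n v w r) = G p r := by
    intro n v w hn h3 pv pw x0 x1 x2
    have self : ∀ z, sf z (n *ᵥ z) = 0 → ∀ i, sf z ((n ^ i) *ᵥ z) = 0 := by
      intro z hz i
      rcases Nat.even_or_odd i with he | ho
      · exact sa_self (hn.pow_even he) z
      · by_cases h : 3 ≤ i
        · rw [pow_zero_of_le h3 h, Matrix.zero_mulVec, sf_zero_right]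
        obtain ⟨r, hr⟩ := ho
        rw [show i = 1 by omega, pow_one, hz]
    have cross : ∀ i, sf v ((n ^ i) *ᵥ w) = if i = 2 then 1 else 0 := by
      intro i
      by_cases h : 3 ≤ i
      · rw [pow_zero_of_le h3 h, Matrix.zero_mulVec, sf_zero_right, if_neg (by omega)]
      rcases (show i = 0 ∨ i = 1 ∨ i = 2 by omega) with rfl | rfl | rfl <;> simp [x0, x1, x2]
    rintro (i | i) (j | j)
    · show sf ((n ^ (i : ℕ)) *ᵥ v) ((n ^ (j : ℕ)) *ᵥ v) = 0
      rw [sf_pow_pow hn, self v pv, mul_zero]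
    · show sf ((n ^ (i : ℕ)) *ᵥ v) ((n ^ (j : ℕ)) *ᵥ w) = _
      rw [sf_pow_pow hn, cross]
      rfl
    · show sf ((n ^ (i : ℕ)) *ᵥ w) ((n ^ (j : ℕ)) *ᵥ v) = -((-1) ^ (i : ℕ) * if (i : ℕ) + j = 2 then 1 else 0)
      rw [sf_swap, sf_pow_pow hn, cross, add_comm (j : ℕ) i]
      by_cases h : (i : ℕ) + j = 2
      · rw [if_pos h, mul_one, mul_one, neg_inj, show (i : ℕ) = 2 - j by omega]
        rcases j with ⟨_ | _ | _ | j, hj⟩ <;> first | omega | simp
      · simp [h]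
    · show sf ((n ^ (i : ℕ)) *ᵥ w) ((n ^ (j : ℕ)) *ᵥ w) = 0
      rw [sf_pow_pow hn, self w pw, mul_zero]
  have g1 := gr n v w hn h3 pv pw x0 x1 x2
  have g2 := gr n' v' w' hn' h3' pv' pw' x0' x1' x2'
  obtain ⟨A, hA, hAs⟩ := exists_conj_frame (b := bb n v w) (b' := bb n' v' w')
    (π := Sum.elim (fun i => Sum.inr i.rev) (fun i => Sum.inl i.rev))
    (Function.Involutive.injective (fun p => by rcases p with i | i <;> exact congrArg _ (Fin.rev_rev i)))
    (fun p r h => by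
      rw [g1]
      rcases p with i | i <;> rcases r with j | j <;> simp [G] at h ⊢
      · exact fun e => h (by rw [show j = i.rev from Fin.ext (by rw [Fin.val_rev]; omega)])
      · exact fun e => h (by rw [show j = i.rev from Fin.ext (by rw [Fin.val_rev]; omega)]))
    (fun p => by
      rw [g1]
      rcases p with i | i <;> simp [G, Fin.val_rev] <;> omega)
    rfl (fun p r => by rw [g1, g2])
  have hs : SemiconjBy A.1 n n' := hAs n n' fun p => by
    rcases p with i | i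
    all_goals
      simp only [bb, Sum.elim_inl, Sum.elim_inr]
      rw [Matrix.mulVec_mulVec _ n, Matrix.mulVec_mulVec _ n', ← pow_succ', ← pow_succ']
      by_cases hi : (i : ℕ) + 1 < 3
    · exact hA (.inl ⟨(i : ℕ) + 1, hi⟩)
    · rw [pow_zero_of_le h3 (by omega), pow_zero_of_le h3' (by omega)]; simp
    · exact hA (.inr ⟨(i : ℕ) + 1, hi⟩)
    · rw [pow_zero_of_le h3 (by omega), pow_zero_of_le h3' (by omega)]; simp
  exact ⟨A, Subtype.ext (show A.1 * g.1 = g'.1 * A.1 by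
    rw [hg, hg', mul_smul_comm, smul_mul_assoc, (semiconj_cay hs).eq])⟩

/-- Values on a chain over a quadratic algebra. -/
theorem formK_gram {n t : M6} (hn : SK n) (ht : SK t) (hc : Commute t n) {δ : F} (ht2 : t * t = δ • 1)
    (x : V6) (i j : ℕ) :
    sf ((n ^ i) *ᵥ x) ((t * n ^ j) *ᵥ x) = (-1) ^ i * sf x ((t * n ^ (i + j)) *ᵥ x) ∧
      sf ((t * n ^ i) *ᵥ x) ((n ^ j) *ᵥ x) = -((-1) ^ i * sf x ((t * n ^ (i + j)) *ᵥ x)) ∧
      sf ((t * n ^ i) *ᵥ x) ((t * n ^ j) *ᵥ x) = -(δ * ((-1) ^ i * sf x ((n ^ (i + j)) *ᵥ x))) := by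
  have e : ∀ i j, n ^ i * (t * n ^ j) = t * n ^ (i + j) := fun i j => by
    rw [← mul_assoc, ← (hc.pow_right i).eq, mul_assoc, ← pow_add]
  refine ⟨?_, ?_, ?_⟩
  · rw [sk_pow hn, Matrix.mulVec_mulVec, e]
  · rw [← Matrix.mulVec_mulVec, ht, sk_pow hn, Matrix.mulVec_mulVec, Matrix.mulVec_mulVec, mul_assoc, e]
  · rw [← Matrix.mulVec_mulVec _ t, ht, sk_pow hn, Matrix.mulVec_mulVec, Matrix.mulVec_mulVec,
      mul_assoc, ← mul_assoc t, ht2, smul_mul_assoc, one_mul, mul_smul_comm, ← pow_add,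
      Matrix.smul_mulVec, sf_smul_right]
    ring

theorem formK_unique {g g' : Sp6} {c : F} (hδ : c ^ 2 - 4 ≠ 0) (h : FormK g.1 c) (h' : FormK g'.1 c) :
    ∃ A : Sp6, A * g = g' * A := by
  obtain ⟨n, t, v, hn, ht, hc, ht2, h3, hg, p1, q0, q2⟩ := h
  obtain ⟨n', t', v', hn', ht', hc', ht2', h3', hg', p1', q0', q2'⟩ := h'
  let J := Fin 3 ⊕ Fin 3
  let bb : M6 → M6 → V6 → J → V6 := fun n t v =>
    Sum.elim (fun i => (n ^ (i : ℕ)) *ᵥ v) (fun i => (t * n ^ (i : ℕ)) *ᵥ v)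
  let G : J → J → F := Sum.elim (fun i => Sum.elim (fun _ => 0) (fun j => (-1) ^ (i : ℕ) * if (i : ℕ) + j = 2 then 1 else 0))
    (fun i => Sum.elim (fun j => -((-1) ^ (i : ℕ) * if (i : ℕ) + j = 2 then 1 else 0)) (fun _ => 0))
  have gr : ∀ (n t : M6) (v : V6), SK n → SK t → Commute t n → t * t = (c ^ 2 - 4) • (1 : M6) → n ^ 3 = 0 →
      sf v (n *ᵥ v) = 0 → sf v (t *ᵥ v) = 0 → sf v ((t * n ^ 2) *ᵥ v) = 1 →
      ∀ p r, sf (bb n t v p) (bb n t v r) = G p r := by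
    intro n t v hn ht hc ht2 h3 p1 q0 q2
    have self : ∀ i, sf v ((n ^ i) *ᵥ v) = 0 := by
      intro i
      rcases Nat.even_or_odd i with he | ho
      · exact sa_self (hn.pow_even he) v
      · by_cases h : 3 ≤ i
        · rw [pow_zero_of_le h3 h, Matrix.zero_mulVec, sf_zero_right]
        obtain ⟨r, hr⟩ := ho
        rw [show i = 1 by omega, pow_one, p1]
    have cross : ∀ i, sf v ((t * n ^ i) *ᵥ v) = if i = 2 then 1 else 0 := by
      intro i
      by_cases h : 3 ≤ i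
      · rw [pow_zero_of_le h3 h, mul_zero, Matrix.zero_mulVec, sf_zero_right, if_neg (by omega)]
      rcases (show i = 0 ∨ i = 1 ∨ i = 2 by omega) with rfl | rfl | rfl
      · simpa using q0
      · rw [pow_one, sa_self (ht.mul_sk hn hc.eq)]; simp
      · rw [q2]; simp
    rintro (i | i) (j | j)
    · show sf ((n ^ (i : ℕ)) *ᵥ v) ((n ^ (j : ℕ)) *ᵥ v) = 0
      rw [sf_pow_pow hn, self, mul_zero]
    · show sf ((n ^ (i : ℕ)) *ᵥ v) ((t * n ^ (j : ℕ)) *ᵥ v) = _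
      rw [(formK_gram hn ht hc ht2 v i j).1, cross]; rfl
    · show sf ((t * n ^ (i : ℕ)) *ᵥ v) ((n ^ (j : ℕ)) *ᵥ v) = _
      rw [(formK_gram hn ht hc ht2 v i j).2.1, cross]; rfl
    · show sf ((t * n ^ (i : ℕ)) *ᵥ v) ((t * n ^ (j : ℕ)) *ᵥ v) = 0
      rw [(formK_gram hn ht hc ht2 v i j).2.2, self, mul_zero, mul_zero, neg_zero]
  have g1 := gr n t v hn ht hc ht2 h3 p1 q0 q2
  have g2 := gr n' t' v' hn' ht' hc' ht2' h3' p1' q0' q2'
  obtain ⟨A, hA, hAs⟩ := exists_conj_frame (b := bb n t v) (b' := bb n' t' v')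
    (π := Sum.elim (fun i => Sum.inr i.rev) (fun i => Sum.inl i.rev))
    (Function.Involutive.injective (fun p => by rcases p with i | i <;> exact congrArg _ (Fin.rev_rev i)))
    (fun p r h => by
      rw [g1]
      rcases p with i | i <;> rcases r with j | j <;> simp [G] at h ⊢
      · exact fun e => h (by rw [show j = i.rev from Fin.ext (by rw [Fin.val_rev]; omega)])
      · exact fun e => h (by rw [show j = i.rev from Fin.ext (by rw [Fin.val_rev]; omega)]))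
    (fun p => by
      rw [g1]
      rcases p with i | i <;> simp [G, Fin.val_rev] <;> omega)
    rfl (fun p r => by rw [g1, g2])
  have hs : SemiconjBy A.1 n n' := hAs n n' fun p => by
    rcases p with i | i
    all_goals
      simp only [bb, Sum.elim_inl, Sum.elim_inr]
      rw [Matrix.mulVec_mulVec _ n, Matrix.mulVec_mulVec _ n']
    · rw [← pow_succ', ← pow_succ']
      by_cases hi : (i : ℕ) + 1 < 3
      · exact hA (.inl ⟨(i : ℕ) + 1, hi⟩)
      · rw [pow_zero_of_le h3 (by omega), pow_zero_of_le h3' (by omega)]; simp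
    · rw [← mul_assoc n, ← hc.eq, mul_assoc, ← pow_succ', ← mul_assoc n', ← hc'.eq, mul_assoc, ← pow_succ']
      by_cases hi : (i : ℕ) + 1 < 3
      · exact hA (.inr ⟨(i : ℕ) + 1, hi⟩)
      · rw [pow_zero_of_le h3 (by omega), pow_zero_of_le h3' (by omega)]; simp
  have hst : SemiconjBy A.1 t t' := hAs t t' fun p => by
    rcases p with i | i
    all_goals simp only [bb, Sum.elim_inl, Sum.elim_inr]
    · rw [Matrix.mulVec_mulVec _ t, Matrix.mulVec_mulVec _ t']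
      exact hA (.inr i)
    · rw [Matrix.mulVec_mulVec _ t, Matrix.mulVec_mulVec _ t', ← mul_assoc, ← mul_assoc, ht2, ht2',
        smul_mul_assoc, smul_mul_assoc, one_mul, one_mul, Matrix.smul_mulVec, Matrix.smul_mulVec, Matrix.mulVec_smul]
      exact congrArg _ (hA (.inl i))
  have hlin : SemiconjBy A.1 ((c / 2) • 1 + (2 : F)⁻¹ • t) ((c / 2) • 1 + (2 : F)⁻¹ • t') := by
    refine SemiconjBy.add_right ?_ ?_ <;> show _ = _
    · simp
    · rw [mul_smul_comm, smul_mul_assoc, hst.eq]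
  exact ⟨A, Subtype.ext (show A.1 * g.1 = g'.1 * A.1 by
    rw [hg, hg']; exact (hlin.mul_right (semiconj_cay hs)).eq)⟩

/-- A single chain from a vector. -/
theorem form6_of (u : Sp6) (g : M6) {ε : F} (hg : g = ε • u.1) (hw : (u.1 - 1) ^ 6 = 0) {v : V6} {b : F}
    (hb : sf v (((u.1 - 1) ^ 5) *ᵥ v) = b) (hb0 : b ≠ 0) : Form6 g ε (-b) := by
  obtain ⟨n, hn, hu, hdef, hk⟩ := exists_cayley u hw
  set w := u.1 - 1
  have h5 : n ^ 5 = -(w ^ 5) := by
    have hwg : w ^ 5 * geo w = w ^ 5 := by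
      simp only [geo, mul_add, mul_one, ← pow_succ, ← pow_add, pow_zero_of_le hw (le_refl 6),
        pow_zero_of_le hw (show 6 ≤ 5 + 2 by norm_num), pow_zero_of_le hw (show 6 ≤ 5 + 3 by norm_num),
        pow_zero_of_le hw (show 6 ≤ 5 + 4 by norm_num), pow_zero_of_le hw (show 6 ≤ 5 + 5 by norm_num), add_zero]
    have hp : ∀ j, w ^ 5 * geo w ^ j = w ^ 5 := fun j => by
      induction j with
      | zero => rw [pow_zero, mul_one]
      | succ j ih => rw [pow_succ' (geo w) j, ← mul_assoc, hwg, ih]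
    rw [hdef, neg_pow, (commute_geo (Commute.refl w)).mul_pow, hp]
    norm_num
  have hn6 : n ^ 6 = 0 := (hk 6).2 hw
  have p5 : sf v ((n ^ 5) *ᵥ v) = -b := by rw [h5, Matrix.neg_mulVec, sf_neg_right, hb]
  set p1 := sf v (n *ᵥ v)
  set p3 := sf v ((n ^ 3) *ᵥ v)
  have e0 : ∀ i, Even i → sf v ((n ^ i) *ᵥ v) = 0 := fun i hi => sa_self (hn.pow_even hi) v
  have e6 : ∀ i, 6 ≤ i → sf v ((n ^ i) *ᵥ v) = 0 := fun i hi => by
    rw [pow_zero_of_le hn6 hi, Matrix.zero_mulVec, sf_zero_right]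
  set x := p3 / (2 * b)
  set y := (p1 + 2 * x * p3 - x ^ 2 * b) / (2 * b)
  set v' := v + x • ((n ^ 2) *ᵥ v) + y • ((n ^ 4) *ᵥ v)
  have val : ∀ i, sf v' ((n ^ i) *ᵥ v') = sf v ((n ^ i) *ᵥ v) + 2 * x * sf v ((n ^ (i + 2)) *ᵥ v) +
      (x ^ 2 + 2 * y) * sf v ((n ^ (i + 4)) *ᵥ v) + 2 * x * y * sf v ((n ^ (i + 6)) *ᵥ v) +
      y ^ 2 * sf v ((n ^ (i + 8)) *ᵥ v) := by
    intro i
    simp only [v', Matrix.mulVec_add, Matrix.mulVec_smul, Matrix.mulVec_mulVec, ← pow_add, sf_add_left,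
      sf_add_right, sf_smul_left, sf_smul_right, sf_pow_pow hn]
    rw [show 2 + (i + 2) = i + 4 by ring, show 2 + (i + 4) = i + 6 by ring, show 4 + (i + 2) = i + 6 by ring,
      show 4 + (i + 4) = i + 8 by ring, show 2 + i = i + 2 by ring, show 4 + i = i + 4 by ring]
    ring
  have h2 := two_ne (F := F)
  refine ⟨n, v', hn, hn6, by rw [hg, hu], neg_ne_zero.2 hb0, ?_, ?_, ?_⟩
  · have h := val 1
    rw [pow_one] at h
    rw [h, show 1 + 2 = 3 by rfl, show 1 + 4 = 5 by rfl, p5, e6 (1 + 6) (by norm_num), e6 (1 + 8) (by norm_num)]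
    show p1 + 2 * x * p3 + (x ^ 2 + 2 * y) * -b + _ + _ = 0
    simp only [y]
    field_simp
    ring
  · rw [val, show 3 + 2 = 5 by rfl, p5, e6 (3 + 4) (by norm_num), e6 (3 + 6) (by norm_num),
      e6 (3 + 8) (by norm_num)]
    show p3 + 2 * x * -b + _ + _ + _ = 0
    simp only [x]
    field_simp
    ring
  · rw [val, p5, e6 (5 + 2) (by norm_num), e6 (5 + 4) (by norm_num), e6 (5 + 6) (by norm_num),
      e6 (5 + 8) (by norm_num)]
    ring

/-- Two chains from a unipotent of index three. -/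
theorem form33_of (u : Sp6) (g : M6) {ε : F} (hg : g = ε • u.1) (hw : (u.1 - 1) ^ 3 = 0)
    (hw2 : (u.1 - 1) ^ 2 ≠ 0) : Form33 g ε := by
  obtain ⟨n, hn, hu, -, hk⟩ := exists_cayley u (pow_eq_zero_of_le (by norm_num) hw)
  have h3 : n ^ 3 = 0 := (hk 3).2 hw
  have h2n : n ^ 2 ≠ 0 := fun h => hw2 ((hk 2).1 h)
  obtain ⟨v, w, hvw⟩ : ∃ v w, sf v ((n ^ 2) *ᵥ w) = 1 := by
    obtain ⟨w, hw⟩ : ∃ w, (n ^ 2) *ᵥ w ≠ 0 := by
      by_contra h
      push Not at h
      exact h2n (Matrix.ext_iff_mulVec.2 fun w => by rw [h, Matrix.zero_mulVec])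
    obtain ⟨v, hv⟩ := exists_sf_eq_one hw
    exact ⟨v, w, hv⟩
  have z0 : ∀ z, sf z ((n ^ 2) *ᵥ z) = 0 := sa_self hn.sq
  have z3 : ∀ i, 3 ≤ i → ∀ a z, sf a ((n ^ i) *ᵥ z) = 0 := fun i hi a z => by
    rw [pow_zero_of_le h3 hi, Matrix.zero_mulVec, sf_zero_right]
  have sw : ∀ a z, sf a ((n ^ 2) *ᵥ z) = -sf z ((n ^ 2) *ᵥ a) := fun a z => by rw [← hn.sq a z, sf_swap]
  have sw1 : ∀ a z, sf a (n *ᵥ z) = sf z (n *ᵥ a) := fun a z => by rw [← neg_neg (sf a (n *ᵥ z)), ← hn a z, ← sf_swap]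
  have h2 := two_ne (F := F)
  set p := sf v (n *ᵥ v)
  set r := sf w (n *ᵥ w)
  set lam := -p / 2
  set mu := r / 2
  have n1 : ∀ a z, sf (n *ᵥ a) z = -sf a (n *ᵥ z) := hn
  have nn1 : ∀ z : V6, n *ᵥ (n *ᵥ z) = (n ^ 2) *ᵥ z := fun z => by rw [Matrix.mulVec_mulVec, sq]
  have nn2 : ∀ z : V6, n *ᵥ ((n ^ 2) *ᵥ z) = 0 := fun z => by
    rw [Matrix.mulVec_mulVec, ← pow_succ', h3, Matrix.zero_mulVec]
  have nn3 : ∀ z : V6, (n ^ 2) *ᵥ (n *ᵥ z) = 0 := fun z => by
    rw [Matrix.mulVec_mulVec, ← pow_succ, h3, Matrix.zero_mulVec]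
  have nn4 : ∀ z : V6, (n ^ 2) *ᵥ ((n ^ 2) *ᵥ z) = 0 := fun z => by
    rw [Matrix.mulVec_mulVec, ← pow_add, pow_zero_of_le h3 (by norm_num), Matrix.zero_mulVec]
  have n2 : ∀ a z, sf ((n ^ 2) *ᵥ a) z = sf a ((n ^ 2) *ᵥ z) := hn.sq
  set v1 := v + lam • (n *ᵥ w)
  set w1 := w + mu • (n *ᵥ v)
  have hv1 : sf v1 (n *ᵥ v1) = 0 := by
    simp only [v1, Matrix.mulVec_add, Matrix.mulVec_smul, sf_add_left, sf_add_right, sf_smul_left, sf_smul_right,
      n1, nn1, nn2, Matrix.mulVec_zero, sf_zero_right, hvw, sw w v]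
    show p + lam * -(-1) + lam * (1 + lam * -0) = 0
    simp only [lam]
    field_simp
    ring
  have hw1 : sf w1 (n *ᵥ w1) = 0 := by
    simp only [w1, Matrix.mulVec_add, Matrix.mulVec_smul, sf_add_left, sf_add_right, sf_smul_left, sf_smul_right,
      n1, nn1, nn2, Matrix.mulVec_zero, sf_zero_right, hvw, sw w v]
    show r + mu * -1 + mu * (-1 + mu * -0) = 0
    simp only [mu]
    field_simp
    ring
  have hx2 : sf v1 ((n ^ 2) *ᵥ w1) = 1 := by
    simp only [v1, w1, Matrix.mulVec_add, Matrix.mulVec_smul, sf_add_left, sf_add_right, sf_smul_left, sf_smul_right,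
      n1, nn2, nn3, Matrix.mulVec_zero, sf_zero_right, hvw]
    ring
  set x0 := sf v1 w1
  set x1 := sf v1 (n *ᵥ w1)
  set w2 := w1 + (-x1) • (n *ᵥ w1) + (x1 * x1 - x0) • ((n ^ 2) *ᵥ w1)
  refine ⟨n, v1, w2, hn, h3, by rw [hg, hu], hv1, ?_, ?_, ?_, ?_⟩
  · simp only [w2, Matrix.mulVec_add, Matrix.mulVec_smul, sf_add_left, sf_add_right, sf_smul_left, sf_smul_right,
      n1, n2, nn1, nn2, nn3, nn4, Matrix.mulVec_zero, sf_zero_right, hw1, z0]
    ring
  · simp only [w2, sf_add_right, sf_smul_right, hx2]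
    show x0 + -x1 * x1 + (x1 * x1 - x0) * 1 = 0
    ring
  · simp only [w2, Matrix.mulVec_add, Matrix.mulVec_smul, sf_add_right, sf_smul_right, nn1, nn2, sf_zero_right, hx2]
    show x1 + -x1 * 1 + _ = 0
    ring
  · simp only [w2, Matrix.mulVec_add, Matrix.mulVec_smul, sf_add_right, sf_smul_right, nn3, nn4, sf_zero_right, hx2]
    ring

/-- A chain over a quadratic algebra. -/
theorem formK_of [Fintype F] (γ u : Sp6) (g : M6) {c : F} (hδ : c ^ 2 - 4 ≠ 0) (hg : g = γ.1 * u.1)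
    (hcomm : Commute γ.1 u.1) (hγ : γ.1 * γ.1 = c • γ.1 - 1) (hw : (u.1 - 1) ^ 3 = 0)
    (hw2 : (u.1 - 1) ^ 2 ≠ 0) : FormK g c := by
  obtain ⟨n, hn, hu, hdef, hk⟩ := exists_cayley u (pow_eq_zero_of_le (by norm_num) hw)
  have h3 : n ^ 3 = 0 := (hk 3).2 hw
  have h2n : n ^ 2 ≠ 0 := fun h => hw2 ((hk 2).1 h)
  set t : M6 := (2 : F) • γ.1 - c • 1 with htdef
  have hinv : ∀ y, (γ⁻¹).1 *ᵥ y = c • y - γ.1 *ᵥ y := fun y => by
    have h : γ.1 *ᵥ (c • y - γ.1 *ᵥ y) = y := by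
      rw [Matrix.mulVec_sub, Matrix.mulVec_smul, Matrix.mulVec_mulVec, hγ, Matrix.sub_mulVec, Matrix.smul_mulVec,
        Matrix.one_mulVec, sub_sub_cancel]
    conv_lhs => rw [← h, sp_inv_mulVec]
  have ht : SK t := by
    intro x y
    have h1 : sf (γ.1 *ᵥ x) y = sf x (c • y - γ.1 *ᵥ y) := by
      rw [← hinv, ← sf_sp γ x ((γ⁻¹).1 *ᵥ y), sp_mulVec_inv]
    simp only [htdef, Matrix.sub_mulVec, Matrix.smul_mulVec, Matrix.one_mulVec] at h1 ⊢
    simp only [sub_eq_add_neg, sf_add_left, sf_add_right, sf_neg_left, sf_neg_right, sf_smul_left,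
      sf_smul_right] at h1 ⊢
    linear_combination 2 * h1
  have hγn : Commute γ.1 n := by
    rw [hdef]
    have h1 : Commute γ.1 (u.1 - 1) := hcomm.sub_right (Commute.one_right _)
    exact (h1.mul_right (commute_geo h1)).neg_right
  have hc : Commute t n := (hγn.smul_left _).sub_left ((Commute.one_left n).smul_left _)
  have ht2 : t * t = (c ^ 2 - 4) • (1 : M6) := by
    rw [htdef]
    simp only [sub_mul, mul_sub, smul_mul_assoc, mul_smul_comm, one_mul, mul_one, smul_smul, hγ, smul_sub]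
    module
  have hγt : γ.1 = (c / 2) • 1 + (2 : F)⁻¹ • t := by
    have h2 := two_ne (F := F)
    rw [htdef, smul_sub, smul_smul, smul_smul, inv_mul_cancel₀ h2, one_smul, mul_comm (2 : F)⁻¹ c,
      ← div_eq_mul_inv, add_sub_cancel]
  have hSK : SK (t * n ^ 2) := ht.mul_sa hn.sq (hc.pow_right 2).eq
  have hne : t * n ^ 2 ≠ 0 := fun h => h2n (by
    have h' := congrArg (t * ·) h
    simp only [← mul_assoc, ht2, smul_mul_assoc, one_mul, mul_zero, smul_eq_zero] at h'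
    exact h'.resolve_left hδ)
  obtain ⟨v, hv⟩ := sk_exists hSK hne
  have tn : ∀ a z, sf ((t * n) *ᵥ a) z = sf a ((t * n) *ᵥ z) := ht.mul_sk hn hc.eq
  have h2 := two_ne (F := F)
  have hz : ∀ i, 3 ≤ i → n ^ i = 0 := fun i hi => pow_zero_of_le h3 hi
  set b2 := sf v ((t * n ^ 2) *ᵥ v)
  -- kill the middle value
  set x := -sf v (n *ᵥ v) / (2 * b2)
  set v1 := v + x • ((t * n) *ᵥ v)
  have hnt : n * t = t * n := hc.eq.symm
  have hv1n : sf v1 (n *ᵥ v1) = 0 := by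
    have e1 : n * (t * n) = t * n ^ 2 := by rw [← mul_assoc, hnt, mul_assoc, sq]
    have e2 : t * n * (t * n ^ 2) = 0 := by
      rw [mul_assoc, ← mul_assoc n, hnt, mul_assoc t n, ← pow_succ', hz 3 le_rfl, mul_zero, mul_zero]
    have e3 : t * n * n = t * n ^ 2 := by rw [mul_assoc, sq]
    simp only [v1, Matrix.mulVec_add, Matrix.mulVec_smul, Matrix.mulVec_mulVec, sf_add_left, sf_add_right,
      sf_smul_left, sf_smul_right, e1, tn, e2, e3, Matrix.zero_mulVec, sf_zero_right]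
    show sf v (n *ᵥ v) + x * b2 + x * (b2 + x * 0) = 0
    simp only [x]
    field_simp
    ring
  have hv1t : sf v1 ((t * n ^ 2) *ᵥ v1) = b2 := by
    have e2 : t * n ^ 2 * (t * n) = 0 := by
      rw [mul_assoc, ← mul_assoc (n ^ 2), ← (hc.pow_right 2).eq, mul_assoc t (n ^ 2), ← pow_succ, hz 3 le_rfl,
        mul_zero, mul_zero]
    have e3 : t * n * (t * n ^ 2) = 0 := by
      rw [mul_assoc, ← mul_assoc n, hnt, mul_assoc t n, ← pow_succ', hz 3 le_rfl, mul_zero, mul_zero]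
    simp only [v1, Matrix.mulVec_add, Matrix.mulVec_smul, Matrix.mulVec_mulVec, sf_add_left, sf_add_right,
      sf_smul_left, sf_smul_right, tn, e2, e3, Matrix.zero_mulVec, Matrix.mulVec_zero, sf_zero_right, mul_zero, add_zero]
    rfl
  set y := -sf v1 (t *ᵥ v1) / (2 * b2)
  set v2 := v1 + y • ((n ^ 2) *ᵥ v1)
  have hn2t : n ^ 2 * t = t * n ^ 2 := ((hc.pow_right 2).eq).symm
  have sq2 : ∀ a z, sf ((n ^ 2) *ᵥ a) z = sf a ((n ^ 2) *ᵥ z) := hn.sq
  have hv2n : sf v2 (n *ᵥ v2) = 0 := by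
    simp only [v2, Matrix.mulVec_add, Matrix.mulVec_smul, Matrix.mulVec_mulVec, sf_add_left, sf_add_right,
      sf_smul_left, sf_smul_right, sq2, ← pow_succ', ← pow_succ, ← pow_add, hz 3 le_rfl, hz 5 (by norm_num),
      Matrix.zero_mulVec, Matrix.mulVec_zero, sf_zero_right, hv1n, mul_zero, add_zero]
  have hv2t : sf v2 ((t * n ^ 2) *ᵥ v2) = b2 := by
    have e1 : t * n ^ 2 * n ^ 2 = 0 := by rw [mul_assoc, ← pow_add, hz _ (by norm_num), mul_zero]
    have e2 : n ^ 2 * (t * n ^ 2) = 0 := by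
      rw [← mul_assoc, hn2t, mul_assoc, ← pow_add, hz _ (by norm_num), mul_zero]
    simp only [v2, Matrix.mulVec_add, Matrix.mulVec_smul, Matrix.mulVec_mulVec, sf_add_left, sf_add_right,
      sf_smul_left, sf_smul_right, sq2, e1, e2, Matrix.zero_mulVec, Matrix.mulVec_zero, sf_zero_right, hv1t, add_zero, mul_zero]
  have hv20 : sf v2 (t *ᵥ v2) = 0 := by
    have e2 : n ^ 2 * (t * n ^ 2) = 0 := by
      rw [← mul_assoc, hn2t, mul_assoc, ← pow_add, hz _ (by norm_num), mul_zero]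
    simp only [v2, Matrix.mulVec_add, Matrix.mulVec_smul, Matrix.mulVec_mulVec, sf_add_left, sf_add_right,
      sf_smul_left, sf_smul_right, sq2, hn2t, e2, Matrix.zero_mulVec, sf_zero_right, hv1t]
    simp only [y]
    field_simp
    ring
  -- scale by the algebra
  obtain ⟨a, b, hab⟩ : ∃ a b : F, a ^ 2 - (c ^ 2 - 4) * b ^ 2 = b2⁻¹ := by
    obtain ⟨a, b, hab⟩ := FiniteField.exists_root_sum_quadratic (f := Polynomial.X ^ 2)
      (g := Polynomial.C (-(c ^ 2 - 4)) * Polynomial.X ^ 2 + Polynomial.C (-b2⁻¹))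
      (Polynomial.degree_X_pow 2) (by
        rw [Polynomial.degree_add_eq_left_of_degree_lt] <;> rw [Polynomial.degree_C_mul_X_pow 2 (neg_ne_zero.2 hδ)]
        · rfl
        exact lt_of_le_of_lt Polynomial.degree_C_le (by norm_num))
      (FiniteField.odd_card_of_char_ne_two (by rw [ringChar.eq F 3]; norm_num))
    simp only [Polynomial.eval_pow, Polynomial.eval_X, Polynomial.eval_add, Polynomial.eval_mul, Polynomial.eval_C] at hab
    exact ⟨a, b, by linear_combination hab⟩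
  set v3 := a • v2 + b • (t *ᵥ v2)
  have key : ∀ X : M6, Commute t X → sf v3 (X *ᵥ v3) = (a ^ 2 - (c ^ 2 - 4) * b ^ 2) * sf v2 (X *ᵥ v2) := by
    intro X hX
    have e1 : sf (t *ᵥ v2) (X *ᵥ v2) = -sf v2 ((X * t) *ᵥ v2) := by
      rw [ht, Matrix.mulVec_mulVec, hX.eq]
    have e2 : sf (t *ᵥ v2) ((X * t) *ᵥ v2) = -((c ^ 2 - 4) * sf v2 (X *ᵥ v2)) := by
      rw [ht, Matrix.mulVec_mulVec, ← mul_assoc, hX.eq, mul_assoc, ht2, mul_smul_comm, mul_one,
        Matrix.smul_mulVec, sf_smul_right]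
    simp only [v3, Matrix.mulVec_add, Matrix.mulVec_smul, Matrix.mulVec_mulVec, sf_add_left, sf_add_right,
      sf_smul_left, sf_smul_right, e1, e2]
    ring
  refine ⟨n, t, v3, hn, ht, hc, ht2, h3, by rw [hg, ← hγt, hu], ?_, ?_, ?_⟩
  · rw [key n hc, hv2n, mul_zero]
  · rw [key t (Commute.refl t), hv20, mul_zero]
  · rw [key _ ((Commute.refl t).mul_right (hc.pow_right 2)), hv2t, hab, inv_mul_cancel₀ hv]

end CfsgLib.Classical.UnionTwo.SpSix
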