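import Cfsg.Agent.Lib.Classical.UnionTwo.SpSixBase

/-!
# Self-adjoint fields in the symplectic group in dimension six
-/

set_option autoImplicit false
set_option linter.unusedSectionVars false

namespace CfsgLib.Classical.UnionTwo.SpSix

open Matrix Module CfsgLib.Sp

variable {F : Type*} [Field F] [CharP F 3]

local notation "V6" => (Fin 3 ⊕ Fin 3 → F)
local notation "M6" => Matrix (Fin 3 ⊕ Fin 3) (Fin 3 ⊕ Fin 3) F
local notation "Sp6" => Matrix.symplecticGroup (Fin 3) F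

/-! ### Two stabilisers -/

/-- The subgroup keeping a predicate on vectors. -/
def predStab (P : (Fin 3 ⊕ Fin 3 → F) → Prop) : Subgroup (Matrix.symplecticGroup (Fin 3) F) where
  carrier := {A | ∀ x, P (A.1 *ᵥ x) ↔ P x}
  mul_mem' {A B} ha hb x := by rw [sp_mul_mulVec, ha, hb]
  one_mem' x := by rw [sp_one_mulVec]
  inv_mem' {A} ha x := by rw [← ha ((A⁻¹).1 *ᵥ x), sp_mulVec_inv]

theorem mem_predStab [Finite F] {P : V6 → Prop} {A : Sp6} (h : ∀ x, P x → P (A.1 *ᵥ x)) : A ∈ predStab P := by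
  intro x
  refine ⟨fun hx => ?_, h x⟩
  classical
  let f : {x : V6 // P x} → {x : V6 // P x} := fun x => ⟨A.1 *ᵥ x.1, h x.1 x.2⟩
  have hf : Function.Injective f := fun a b hab => Subtype.ext <| by
    have := congrArg (fun t : {x : V6 // P x} => (A⁻¹).1 *ᵥ t.1) hab
    simpa only [f, sp_inv_mulVec] using this
  obtain ⟨y, hy⟩ := Finite.surjective_of_injective hf ⟨_, hx⟩
  have := congrArg (fun t : {x : V6 // P x} => (A⁻¹).1 *ᵥ t.1) hy
  simp only [f, sp_inv_mulVec] at this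
  exact this ▸ y.2

/-- The subgroup moving a family of matrices into itself. -/
def normStab {ι : Type*} (φ : ι → Matrix (Fin 3 ⊕ Fin 3) (Fin 3 ⊕ Fin 3) F) :
    Subgroup (Matrix.symplecticGroup (Fin 3) F) where
  carrier := {A | (∀ e, ∃ e', A.1 * φ e = φ e' * A.1) ∧ ∀ e, ∃ e', (A⁻¹).1 * φ e = φ e' * (A⁻¹).1}
  mul_mem' {A B} ha hb := by
    refine ⟨fun e => ?_, fun e => ?_⟩
    · obtain ⟨e', he'⟩ := hb.1 e
      obtain ⟨e'', he''⟩ := ha.1 e'
      refine ⟨e'', ?_⟩
      rw [sp_mul_val, mul_assoc, he', ← mul_assoc, he'', mul_assoc]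
    · obtain ⟨e', he'⟩ := ha.2 e
      obtain ⟨e'', he''⟩ := hb.2 e'
      refine ⟨e'', ?_⟩
      rw [_root_.mul_inv_rev, sp_mul_val, mul_assoc, he', ← mul_assoc, he'', mul_assoc]
  one_mem' := ⟨fun e => ⟨e, by
      show (1 : Matrix (Fin 3 ⊕ Fin 3) (Fin 3 ⊕ Fin 3) F) * φ e = φ e * 1
      rw [one_mul, mul_one]⟩, fun e => ⟨e, by
      rw [inv_one]
      show (1 : Matrix (Fin 3 ⊕ Fin 3) (Fin 3 ⊕ Fin 3) F) * φ e = φ e * 1
      rw [one_mul, mul_one]⟩⟩
  inv_mem' {A} ha := ⟨ha.2, by rw [inv_inv]; exact ha.1⟩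

theorem mem_normStab {ι : Type*} [Finite ι] {φ : ι → M6} (hφ : Function.Injective φ) {A : Sp6}
    (h : ∀ e, ∃ e', A.1 * φ e = φ e' * A.1) : A ∈ normStab φ := by
  refine ⟨h, fun e => ?_⟩
  choose f hf using h
  have hA : (A⁻¹).1 * A.1 = 1 := by rw [← sp_mul_val, inv_mul_cancel]; rfl
  have hA' : A.1 * (A⁻¹).1 = 1 := by rw [← sp_mul_val, mul_inv_cancel]; rfl
  have hinj : Function.Injective f := fun a b hab => hφ (by
    have : A.1 * φ a = A.1 * φ b := by rw [hf, hf, hab]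
    have := congrArg ((A⁻¹).1 * ·) this
    simpa only [← mul_assoc, hA, one_mul] using this)
  obtain ⟨e', rfl⟩ := Finite.surjective_of_injective hinj e
  refine ⟨e', ?_⟩
  calc (A⁻¹).1 * φ (f e') = (A⁻¹).1 * (φ (f e') * A.1) * (A⁻¹).1 := by
        rw [mul_assoc, mul_assoc, hA', mul_one]
    _ = φ e' * (A⁻¹).1 := by rw [← hf, ← mul_assoc, hA, one_mul]

/-! ### Embedded fields -/

section Field

variable [Fintype F] {E : Type*} [Field E] [Finite E] [Algebra F E]

theorem psi_cancel {ψ : E →ₐ[F] M6} {e : E} {x : V6} (he : e ≠ 0) (h : ψ e *ᵥ x = 0) : x = 0 := by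
  have := congrArg (ψ e⁻¹ *ᵥ ·) h
  simpa [Matrix.mulVec_mulVec, ← map_mul, inv_mul_cancel₀ he] using this

/-- Coordinates for a self-adjoint embedded field. -/
theorem exists_pairing (ψ : E →ₐ[F] M6) (hψ : ∀ e, SA (ψ e)) {x : V6} (hx : x ≠ 0) :
    ∃ y, ∀ a b a' b', sf (ψ a *ᵥ x + ψ b *ᵥ y) (ψ a' *ᵥ x + ψ b' *ᵥ y) =
      Algebra.trace F E (a * b' - b * a') := by
  haveI : FiniteDimensional F E := Module.Finite.of_finite
  obtain ⟨y0, hy0⟩ := exists_sf_eq_one hx
  let L : E →ₗ[F] F :=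
    { toFun := fun e => sf (ψ e *ᵥ x) y0
      map_add' := fun a b => by rw [map_add, Matrix.add_mulVec, sf_add_left]
      map_smul' := fun c a => by rw [map_smul, Matrix.smul_mulVec, sf_smul_left]; rfl }
  have hnd := traceForm_nondegenerate F E
  set c := ((Algebra.traceForm F E).toDual hnd).symm L
  have hL : ∀ e, sf (ψ e *ᵥ x) y0 = Algebra.trace F E (c * e) := by
    intro e
    have h := congrArg (fun T : Module.Dual F E => T e) (LinearEquiv.apply_symm_apply ((Algebra.traceForm F E).toDual hnd) L)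
    simp only [LinearMap.BilinForm.toDual_def, Algebra.traceForm_apply] at h
    exact h.symm
  have hc0 : c ≠ 0 := by
    intro h
    have h1 := hL 1
    rw [map_one, Matrix.one_mulVec, h, zero_mul, map_zero, sf_swap, hy0] at h1
    exact neg_ne_zero.2 one_ne_zero h1
  refine ⟨ψ c⁻¹ *ᵥ y0, fun a b a' b' => ?_⟩
  set y := ψ c⁻¹ *ᵥ y0
  have hxy : ∀ p r, sf (ψ p *ᵥ x) (ψ r *ᵥ y) = Algebra.trace F E (p * r) := fun p r => by
    rw [← hψ r, Matrix.mulVec_mulVec, ← map_mul, ← hψ c⁻¹, Matrix.mulVec_mulVec, ← map_mul, hL]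
    congr 1
    field_simp
  have hself : ∀ (z : V6) p r, sf (ψ p *ᵥ z) (ψ r *ᵥ z) = 0 := fun z p r => by
    rw [hψ p, Matrix.mulVec_mulVec, ← map_mul]
    exact sa_self (hψ _) z
  rw [sf_add_left, sf_add_right, sf_add_right, hself, hself, hxy, sf_swap (ψ b *ᵥ y), hxy, map_sub, mul_comm a' b]
  ring

theorem pairing_injective (ψ : E →ₐ[F] M6) {x y : V6}
    (h : ∀ a b a' b', sf (ψ a *ᵥ x + ψ b *ᵥ y) (ψ a' *ᵥ x + ψ b' *ᵥ y) = Algebra.trace F E (a * b' - b * a'))
    {a b : E} (h0 : ∀ a' b', sf (ψ a *ᵥ x + ψ b *ᵥ y) (ψ a' *ᵥ x + ψ b' *ᵥ y) = 0) : a = 0 ∧ b = 0 := by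
  haveI : FiniteDimensional F E := Module.Finite.of_finite
  have hnd := traceForm_nondegenerate F E
  refine ⟨hnd.1 a fun e => ?_, hnd.1 b fun e => ?_⟩
  · have := h0 0 e
    rwa [h, mul_zero, sub_zero] at this
  · have := h0 e 0
    rw [h, mul_zero, zero_sub, map_neg, neg_eq_zero] at this
    exact this

/-- Self-adjoint fields of degree six or two do not occur. -/
theorem degree_ne (ψ : E →ₐ[F] M6) (hψ : ∀ e, SA (ψ e)) : finrank F E ≠ 2 ∧ finrank F E ≠ 6 := by
  classical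
  haveI : FiniteDimensional F E := Module.Finite.of_finite
  let x : V6 := Pi.single (.inl 0) 1
  have hx : x ≠ 0 := fun h => by simpa [x] using congrFun h (.inl 0)
  obtain ⟨y, hy⟩ := exists_pairing ψ hψ hx
  let Φ : (E × E) →ₗ[F] V6 :=
    { toFun := fun p => ψ p.1 *ᵥ x + ψ p.2 *ᵥ y
      map_add' := fun p r => by simp only [Prod.fst_add, Prod.snd_add, map_add, Matrix.add_mulVec]; abel
      map_smul' := fun c p => by simp [map_smul, Matrix.smul_mulVec] }
  have hinj : Function.Injective Φ := (injective_iff_map_eq_zero Φ).2 fun p hp => by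
    obtain ⟨h1, h2⟩ := pairing_injective ψ hy (a := p.1) (b := p.2) (fun a' b' => by
      rw [show ψ p.1 *ᵥ x + ψ p.2 *ᵥ y = 0 from hp, sf_zero_left])
    exact Prod.ext h1 h2
  have hle := LinearMap.finrank_le_finrank_of_injective hinj
  simp at hle
  refine ⟨fun h2 => ?_, fun h6 => by omega⟩
  -- a line over the field orthogonal to the plane
  let Ψ : V6 →ₗ[F] Module.Dual F (E × E) :=
    { toFun := fun z => (CfsgLib.Classical.SympCount.sB 3 F z).comp Φ
      map_add' := fun a b => by rw [map_add]; rfl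
      map_smul' := fun c a => by rw [map_smul]; rfl }
  have hker := LinearMap.ker_ne_bot_of_finrank_lt (f := Ψ) (by
    rw [Subspace.dual_finrank_eq, Module.finrank_prod, h2]; simp)
  obtain ⟨z, hz, hz0⟩ := Submodule.exists_mem_ne_zero_of_ne_bot hker
  have hzp : ∀ e a b, sf (ψ e *ᵥ z) (ψ a *ᵥ x + ψ b *ᵥ y) = 0 := by
    intro e a b
    rw [hψ e, Matrix.mulVec_add, Matrix.mulVec_mulVec, Matrix.mulVec_mulVec, ← map_mul, ← map_mul]
    exact LinearMap.congr_fun (LinearMap.mem_ker.1 hz) (e * a, e * b)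
  let Γ : ((E × E) × E) →ₗ[F] V6 :=
    { toFun := fun p => Φ p.1 + ψ p.2 *ᵥ z
      map_add' := fun p r => by simp only [Prod.fst_add, Prod.snd_add, map_add, Matrix.add_mulVec]; abel
      map_smul' := fun c p => by simp [map_smul, Matrix.smul_mulVec] }
  have hΓ : Function.Injective Γ := (injective_iff_map_eq_zero Γ).2 fun p hp => by
    obtain ⟨h1, h2⟩ := pairing_injective ψ hy (a := p.1.1) (b := p.1.2) (fun a' b' => by
      have h := congrArg (fun w => sf w (ψ a' *ᵥ x + ψ b' *ᵥ y)) (show Φ p.1 + ψ p.2 *ᵥ z = 0 from hp)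
      rw [sf_add_left, hzp, add_zero, sf_zero_left] at h
      exact h)
    have hp2 : ψ p.2 *ᵥ z = 0 := by
      have h : Φ p.1 + ψ p.2 *ᵥ z = 0 := hp
      rwa [show p.1 = 0 from Prod.ext h1 h2, map_zero, zero_add] at h
    refine Prod.ext (Prod.ext h1 h2) ?_
    by_contra he
    exact hz0 (psi_cancel he hp2)
  have hsurj := (LinearMap.injective_iff_surjective_of_finrank_eq_finrank
    (by rw [Module.finrank_prod, Module.finrank_prod, h2]; simp)).1 hΓ
  refine hz0 (eq_zero_of_sf fun v => ?_)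
  obtain ⟨p, rfl⟩ := hsurj v
  show sf z (Φ p.1 + ψ p.2 *ᵥ z) = 0
  rw [sf_add_right]
  have h1 := hzp 1 p.1.1 p.1.2
  rw [map_one, Matrix.one_mulVec] at h1
  rw [show sf z (Φ p.1) = 0 from h1, sa_self (hψ _), add_zero]

/-- A model of the embedded cubic field. -/
structure Model (E : Type*) [Field E] [Algebra F E] where
  coord : (Fin 3 ⊕ Fin 3 → F) ≃ₗ[F] E × E
  form : ∀ u v, sf u v = Algebra.trace F E ((coord u).1 * (coord v).2 - (coord u).2 * (coord v).1)

theorem exists_model (hd : finrank F E = 3) : Nonempty (Model (F := F) E) := by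
  classical
  haveI : FiniteDimensional F E := Module.Finite.of_finite
  have hnd := traceForm_nondegenerate F E
  let b : Basis (Fin 3) F E := Module.finBasisOfFinrankEq F E hd
  let b' : Basis (Fin 3) F E := (Algebra.traceForm F E).dualBasis hnd b
  let Θ : V6 ≃ₗ[F] E × E :=
    (LinearEquiv.sumArrowLequivProdArrow (Fin 3) (Fin 3) F F).trans
      ((LinearEquiv.prodComm F (Fin 3 → F) (Fin 3 → F)).trans (b.equivFun.symm.prodCongr b'.equivFun.symm))
  have hΘ : ∀ u, Θ u = (∑ i, u (.inr i) • b i, ∑ i, u (.inl i) • b' i) := fun u =>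
    Prod.ext (Basis.equivFun_symm_apply _ _) (Basis.equivFun_symm_apply _ _)
  have hbb : ∀ i j, Algebra.trace F E (b i * b' j) = if i = j then 1 else 0 := fun i j => by
    rw [mul_comm]
    exact LinearMap.BilinForm.apply_dualBasis_left hnd b j i
  refine ⟨⟨Θ, fun u v => ?_⟩⟩
  have hbb' : ∀ i j, Algebra.trace F E (b' j * b i) = if i = j then 1 else 0 := fun i j => by
    rw [mul_comm, hbb]
  simp only [hΘ, map_sub, Finset.sum_mul, Finset.mul_sum, map_sum, smul_mul_assoc, mul_smul_comm, map_smul, hbb,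
    hbb', smul_eq_mul, sf_eq]
  simp [Finset.sum_sub_distrib, mul_comm]

variable (Mo : Model (F := F) E)

/-- The scalar embedding in a model. -/
noncomputable def Model.phi : E →ₐ[F] Matrix (Fin 3 ⊕ Fin 3) (Fin 3 ⊕ Fin 3) F :=
  (LinearMap.toMatrixAlgEquiv'.toAlgHom.comp (Mo.coord.symm.conjAlgEquiv F).toAlgHom).comp
    (Algebra.lsmul F F (E × E))

theorem Model.phi_apply (e : E) (x : V6) : Mo.coord (Mo.phi e *ᵥ x) = e • Mo.coord x := by
  show Mo.coord (LinearMap.toMatrix' ((Mo.coord.symm : E × E →ₗ[F] V6) ∘ₗ (Algebra.lsmul F F (E × E) e) ∘ₗ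
    (Mo.coord : V6 →ₗ[F] E × E)) *ᵥ x) = _
  rw [LinearMap.toMatrix'_mulVec]
  simp

theorem Model.phi_sa (e : E) : SA (Mo.phi e) := fun x y => by
  rw [Mo.form, Mo.form, Mo.phi_apply, Mo.phi_apply]
  simp only [Prod.smul_fst, Prod.smul_snd, smul_eq_mul]
  congr 1
  ring

theorem Model.phi_injective : Function.Injective Mo.phi := Mo.phi.toRingHom.injective

/-- A linear automorphism of the model preserving the form gives a symplectic matrix. -/
theorem Model.exists_sp (T : E × E →ₗ[F] E × E) (hT : ∀ p r : E × E,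
    Algebra.trace F E ((T p).1 * (T r).2 - (T p).2 * (T r).1) = Algebra.trace F E (p.1 * r.2 - p.2 * r.1)) :
    ∃ A : Sp6, ∀ x, Mo.coord (A.1 *ᵥ x) = T (Mo.coord x) := by
  let S : V6 →ₗ[F] V6 :=
    (Mo.coord.symm : E × E →ₗ[F] V6) ∘ₗ T ∘ₗ (Mo.coord : V6 →ₗ[F] E × E)
  have hS : ∀ x, Mo.coord (LinearMap.toMatrix' S *ᵥ x) = T (Mo.coord x) := fun x => by
    rw [LinearMap.toMatrix'_mulVec]; simp [S]
  exact ⟨⟨LinearMap.toMatrix' S, mem_sp_iff.2 fun u v => by rw [Mo.form, Mo.form, hS, hS, hT]⟩, hS⟩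

/-- Every self-adjoint cubic field is conjugate to the model. -/
theorem Model.exists_conj (hd : finrank F E = 3) (ψ : E →ₐ[F] M6) (hψ : ∀ e, SA (ψ e)) :
    ∃ A : Sp6, ∀ e, A.1 * Mo.phi e = ψ e * A.1 := by
  classical
  haveI : FiniteDimensional F E := Module.Finite.of_finite
  let x : V6 := Pi.single (.inl 0) 1
  have hx : x ≠ 0 := fun h => by simpa [x] using congrFun h (.inl 0)
  obtain ⟨y, hy⟩ := exists_pairing ψ hψ hx
  let S : V6 →ₗ[F] V6 :=
    { toFun := fun v => ψ (Mo.coord v).1 *ᵥ x + ψ (Mo.coord v).2 *ᵥ y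
      map_add' := fun p r => by simp only [map_add, Prod.fst_add, Prod.snd_add, Matrix.add_mulVec]; abel
      map_smul' := fun c p => by simp [map_smul, Matrix.smul_mulVec] }
  have hS : ∀ v, LinearMap.toMatrix' S *ᵥ v = ψ (Mo.coord v).1 *ᵥ x + ψ (Mo.coord v).2 *ᵥ y := fun v => by
    rw [LinearMap.toMatrix'_mulVec]; rfl
  refine ⟨⟨LinearMap.toMatrix' S, mem_sp_iff.2 fun u v => by rw [hS, hS, hy, Mo.form]⟩, fun e => ?_⟩
  refine Matrix.ext_iff_mulVec.2 fun v => ?_
  show (LinearMap.toMatrix' S * Mo.phi e) *ᵥ v = (ψ e * LinearMap.toMatrix' S) *ᵥ v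
  rw [← Matrix.mulVec_mulVec, ← Matrix.mulVec_mulVec, hS, hS, Mo.phi_apply, Matrix.mulVec_add,
    Matrix.mulVec_mulVec, Matrix.mulVec_mulVec, ← map_mul, ← map_mul]
  rfl

theorem Model.normStab_ne_top (hd : finrank F E = 3) : normStab Mo.phi ≠ ⊤ := by
  classical
  intro h
  haveI : FiniteDimensional F E := Module.Finite.of_finite
  let u : V6 := Pi.single (.inl 0) 1
  have hu : u ≠ 0 := fun h => by simpa [u] using congrFun h (.inl 0)
  have hmem : tv u 1 ∈ normStab Mo.phi := by rw [h]; trivial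
  obtain ⟨w, hw⟩ := exists_sf_eq_one hu
  have hscal : ∀ e, ∃ c : F, Mo.phi e *ᵥ u = c • u := by
    intro e
    obtain ⟨e', he'⟩ := hmem.1 e
    obtain ⟨z, hz0, hz1, hz2⟩ := exists_orth_two (by norm_num) u (Mo.phi e *ᵥ u)
    rw [← Mo.phi_sa e] at hz2
    have hzz : Mo.phi e *ᵥ z = Mo.phi e' *ᵥ z := by
      have h' := congrArg (· *ᵥ z) he'
      simpa [← Matrix.mulVec_mulVec, tv_mulVec, hz1, hz2] using h'
    obtain rfl : e = e' := by
      by_contra hne
      exact hz0 (psi_cancel (sub_ne_zero.2 hne) (by rw [map_sub, Matrix.sub_mulVec, hzz, sub_self]))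
    have h' := congrArg (· *ᵥ w) he'
    simp only [← Matrix.mulVec_mulVec, tv_mulVec, Matrix.mulVec_add, Matrix.mulVec_smul, one_mul, hw, one_smul,
      add_right_inj] at h'
    exact ⟨_, h'.symm⟩
  have hsurj : Function.Surjective (Algebra.linearMap F E) := fun e => by
    obtain ⟨c, hc⟩ := hscal e
    refine ⟨c, ?_⟩
    by_contra hne
    refine hu (psi_cancel (ψ := Mo.phi) (sub_ne_zero.2 (Ne.symm hne)) ?_)
    rw [map_sub, Matrix.sub_mulVec, hc, Algebra.linearMap_apply, AlgHom.commutes, Algebra.algebraMap_eq_smul_one,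
      Matrix.smul_mulVec, Matrix.one_mulVec, sub_self]
  have h4 := LinearMap.finrank_range_le (Algebra.linearMap F E)
  rw [LinearMap.range_eq_top.2 hsurj, finrank_top, hd, finrank_self] at h4
  omega

/-- The Frobenius representatives. -/
theorem Model.exists_sigma (hd : finrank F E = 3) :
    ∃ u : Sp6, u ∈ normStab Mo.phi ∧ (u.1 - 1) ^ 3 = 0 ∧ (u.1 - 1) ^ 2 ≠ 0 ∧
      ∀ c : F, ∃ γ : Sp6, γ ∈ normStab Mo.phi ∧ Commute γ.1 u.1 ∧ γ.1 * γ.1 = c • γ.1 - 1 := by
  haveI : FiniteDimensional F E := Module.Finite.of_finite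
  haveI : Fintype E := Fintype.ofFinite E
  let σ : E →ₐ[F] E := FiniteField.frobeniusAlgHom F E
  let σe : E ≃ₐ[F] E := AlgEquiv.ofBijective σ (AlgHom.bijective σ)
  have hσ3 : ∀ e, σ (σ (σ e)) = e := by
    intro e
    simp only [σ, FiniteField.coe_frobeniusAlgHom, ← pow_mul]
    rw [show Fintype.card F * Fintype.card F * Fintype.card F = Fintype.card E by
      rw [Module.card_eq_pow_finrank (K := F) (V := E), hd]; ring, FiniteField.pow_card]
  obtain ⟨u, hu⟩ := Mo.exists_sp (LinearMap.prodMap σ.toLinearMap σ.toLinearMap) fun p r => by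
    show Algebra.trace F E (σ p.1 * σ r.2 - σ p.2 * σ r.1) = _
    rw [← map_mul, ← map_mul, ← map_sub]
    exact Algebra.trace_eq_of_algEquiv σe _
  have hu1 : ∀ x, (Mo.coord (u.1 *ᵥ x)).1 = σ (Mo.coord x).1 := fun x => by rw [hu]; rfl
  have hu2 : ∀ x, (Mo.coord (u.1 *ᵥ x)).2 = σ (Mo.coord x).2 := fun x => by rw [hu]; rfl
  have hsub : ∀ x, Mo.coord ((u.1 - 1) *ᵥ x) = (σ (Mo.coord x).1 - (Mo.coord x).1, σ (Mo.coord x).2 - (Mo.coord x).2) :=
    fun x => by rw [Matrix.sub_mulVec, Matrix.one_mulVec, map_sub, hu]; rfl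
  have h3E : (3 : E) = 0 := by
    rw [← map_ofNat (algebraMap F E) 3, show (3 : F) = 0 from three0, map_zero]
  refine ⟨u, mem_normStab Mo.phi_injective fun e => ⟨σ e, Matrix.ext_iff_mulVec.2 fun x => Mo.coord.injective ?_⟩,
    Matrix.ext_iff_mulVec.2 fun x => Mo.coord.injective ?_, fun h => ?_, fun c => ?_⟩
  · rw [← Matrix.mulVec_mulVec, ← Matrix.mulVec_mulVec, hu, Mo.phi_apply, Mo.phi_apply, hu]
    exact Prod.ext (map_mul σ _ _) (map_mul σ _ _)
  · rw [pow_succ, sq, ← Matrix.mulVec_mulVec, ← Matrix.mulVec_mulVec, hsub, hsub, hsub, Matrix.zero_mulVec, map_zero]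
    refine Prod.ext ?_ ?_
    all_goals simp only [map_sub, hσ3, Prod.fst_zero, Prod.snd_zero]
    · linear_combination (σ (Mo.coord x).1 - σ (σ (Mo.coord x).1)) * h3E
    · linear_combination (σ (Mo.coord x).2 - σ (σ (Mo.coord x).2)) * h3E
  · obtain ⟨e, he⟩ := Algebra.trace_surjective F E 1
    have h' := congrArg (fun X => (Mo.coord (X *ᵥ Mo.coord.symm (e, 0))).1) h
    simp only [sq, ← Matrix.mulVec_mulVec, hsub, Matrix.zero_mulVec, map_zero, LinearEquiv.apply_symm_apply,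
      map_sub, Prod.fst_zero] at h'
    have hs := FiniteField.algebraMap_trace_eq_sum_pow F E e
    rw [he, map_one, hd, Finset.sum_range_succ, Finset.sum_range_succ, Finset.sum_range_one,
      Nat.card_eq_fintype_card, pow_zero, pow_one, sq, pow_one, pow_mul] at hs
    simp only [σ, FiniteField.coe_frobeniusAlgHom] at h'
    refine one_ne_zero (α := E) ?_
    rw [hs]
    linear_combination h' + (e ^ Fintype.card F) * h3E
  · obtain ⟨γ, hγ⟩ := Mo.exists_sp
      (LinearMap.prod (-LinearMap.snd F E E) (LinearMap.fst F E E + c • LinearMap.snd F E E)) fun p r => by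
        simp only [LinearMap.prod_apply, Function.prod_apply, LinearMap.neg_apply, LinearMap.snd_apply, LinearMap.add_apply,
          LinearMap.fst_apply, LinearMap.smul_apply, mul_add, add_mul, mul_smul_comm, smul_mul_assoc]
        congr 1
        simp only [Algebra.smul_def]
        ring
    have hγx : ∀ x, Mo.coord (γ.1 *ᵥ x) = (-(Mo.coord x).2, (Mo.coord x).1 + c • (Mo.coord x).2) := fun x => by
      rw [hγ]; rfl
    refine ⟨γ, mem_normStab Mo.phi_injective fun e => ⟨e, Matrix.ext_iff_mulVec.2 fun x => Mo.coord.injective ?_⟩,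
      Matrix.ext_iff_mulVec.2 fun x => Mo.coord.injective ?_, Matrix.ext_iff_mulVec.2 fun x => Mo.coord.injective ?_⟩
    · rw [← Matrix.mulVec_mulVec, ← Matrix.mulVec_mulVec, hγx, Mo.phi_apply, Mo.phi_apply, hγx]
      refine Prod.ext ?_ ?_ <;> simp [Algebra.smul_def] <;> ring
    · rw [← Matrix.mulVec_mulVec, ← Matrix.mulVec_mulVec, hγx, hu, hu, hγx]
      refine Prod.ext ?_ ?_ <;> simp
    · rw [← Matrix.mulVec_mulVec, Matrix.sub_mulVec, Matrix.smul_mulVec, Matrix.one_mulVec, map_sub, map_smul,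
        hγx, hγx]
      refine Prod.ext ?_ ?_ <;> simp [Algebra.smul_def] <;> ring

/-- The regular representatives. -/
theorem Model.exists_regular (hd : finrank F E = 3) {a : F} (ha : a ≠ 0) :
    ∃ (u : Sp6) (v : V6), u ∈ normStab Mo.phi ∧ (u.1 - 1) ^ 6 = 0 ∧ sf v (((u.1 - 1) ^ 5) *ᵥ v) = -a := by
  haveI : FiniteDimensional F E := Module.Finite.of_finite
  haveI : Fintype E := Fintype.ofFinite E
  let σ : E →ₐ[F] E := FiniteField.frobeniusAlgHom F E
  let σe : E ≃ₐ[F] E := AlgEquiv.ofBijective σ (AlgHom.bijective σ)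
  have hσ3 : ∀ e, σ (σ (σ e)) = e := by
    intro e
    simp only [σ, FiniteField.coe_frobeniusAlgHom, ← pow_mul]
    rw [show Fintype.card F * Fintype.card F * Fintype.card F = Fintype.card E by
      rw [Module.card_eq_pow_finrank (K := F) (V := E), hd]; ring, FiniteField.pow_card]
  obtain ⟨ε, hε⟩ := Algebra.trace_surjective F E a
  obtain ⟨b, hb⟩ := Algebra.trace_surjective F E 1
  have htr : ∀ e, algebraMap F E (Algebra.trace F E e) = e + σ e + σ (σ e) := fun e => by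
    rw [FiniteField.algebraMap_trace_eq_sum_pow, hd, Finset.sum_range_succ, Finset.sum_range_succ,
      Finset.sum_range_one, Nat.card_eq_fintype_card, pow_zero, pow_one, sq, pow_one, pow_mul]
    simp only [σ, FiniteField.coe_frobeniusAlgHom]
  obtain ⟨u, hu⟩ := Mo.exists_sp (LinearMap.prod
      (σ.toLinearMap ∘ₗ LinearMap.fst F E E + LinearMap.mulLeft F ε ∘ₗ σ.toLinearMap ∘ₗ LinearMap.snd F E E)
      (σ.toLinearMap ∘ₗ LinearMap.snd F E E)) fun p r => by
    simp only [LinearMap.prod_apply, Function.prod_apply, LinearMap.add_apply, LinearMap.comp_apply,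
      LinearMap.fst_apply, LinearMap.snd_apply, LinearMap.mulLeft_apply, AlgHom.toLinearMap_apply]
    rw [show (σ p.1 + ε * σ p.2) * σ r.2 - σ p.2 * (σ r.1 + ε * σ r.2) = σ (p.1 * r.2 - p.2 * r.1) by
      rw [map_sub, map_mul, map_mul]; ring]
    exact Algebra.trace_eq_of_algEquiv σe _
  have hux : ∀ x, Mo.coord (u.1 *ᵥ x) = (σ (Mo.coord x).1 + ε * σ (Mo.coord x).2, σ (Mo.coord x).2) :=
    fun x => by rw [hu]; rfl
  set Em := algebraMap F E a with hEm
  have hEm' : Em = ε + σ ε + σ (σ ε) := by rw [hEm, ← hε, htr]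
  have hcube : ∀ x, Mo.coord ((u.1 ^ 3 - 1) *ᵥ x) = (Em * (Mo.coord x).2, 0) := fun x => by
    rw [Matrix.sub_mulVec, Matrix.one_mulVec, map_sub, pow_succ, sq, ← Matrix.mulVec_mulVec, ← Matrix.mulVec_mulVec,
      hux, hux, hux]
    refine Prod.ext ?_ ?_
    · simp only [map_add, map_mul, hσ3, Prod.fst_sub, hEm']
      ring
    · simp [hσ3]
  have hw3 : (u.1 - 1) ^ 3 = u.1 ^ 3 - 1 := by
    have e : (u.1 - 1) ^ 3 = u.1 ^ 3 - 1 - (3 : M6) * (u.1 ^ 2 - u.1) := by noncomm_ring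
    rwa [show (3 : M6) = 0 by rw [← map_ofNat (algebraMap F M6) 3, show (3 : F) = 0 from three0, map_zero],
      zero_mul, sub_zero] at e
  refine ⟨u, Mo.coord.symm (0, b), mem_normStab Mo.phi_injective fun e => ⟨σ e, Matrix.ext_iff_mulVec.2 fun x => Mo.coord.injective ?_⟩,
    Matrix.ext_iff_mulVec.2 fun x => Mo.coord.injective ?_, ?_⟩
  · rw [← Matrix.mulVec_mulVec, ← Matrix.mulVec_mulVec, hux, Mo.phi_apply, Mo.phi_apply, hux]
    refine Prod.ext ?_ ?_ <;> simp only [Prod.smul_fst, Prod.smul_snd, smul_eq_mul, map_mul]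
    ring
  · rw [show (6 : ℕ) = 3 + 3 from rfl, pow_add, hw3, ← Matrix.mulVec_mulVec, hcube, hcube, Matrix.zero_mulVec,
      map_zero]
    simp
  · have hsq : ∀ x : V6, Mo.coord ((u.1 - 1) *ᵥ x) = (σ (Mo.coord x).1 + ε * σ (Mo.coord x).2 - (Mo.coord x).1,
        σ (Mo.coord x).2 - (Mo.coord x).2) := fun x => by
      rw [Matrix.sub_mulVec, Matrix.one_mulVec, map_sub, hux]; rfl
    have h3E : (3 : E) = 0 := by
      rw [← map_ofNat (algebraMap F E) 3, show (3 : F) = 0 from three0, map_zero]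
    have hfix : σ Em = Em := AlgHom.commutes σ a
    rw [show (5 : ℕ) = 2 + 3 from rfl, pow_add, hw3, ← Matrix.mulVec_mulVec, sq, ← Matrix.mulVec_mulVec, Mo.form,
      hsq, hsq, hcube, LinearEquiv.apply_symm_apply]
    have e1 : σ (σ (Em * b) + ε * σ 0 - Em * b) + ε * σ (σ 0 - 0) - (σ (Em * b) + ε * σ 0 - Em * b) =
        Em * algebraMap F E 1 := by
      simp only [map_zero, map_sub, map_add, map_mul, hfix, mul_zero, sub_zero, add_zero, ← hb, htr]
      linear_combination (-(Em * σ b)) * h3E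
    show Algebra.trace F E (0 * _ - b * _) = -a
    rw [e1, zero_mul, zero_sub, map_one, mul_one, map_neg, hEm, mul_comm, ← Algebra.smul_def, map_smul, hb,
      smul_eq_mul, mul_one]

end Field

end CfsgLib.Classical.UnionTwo.SpSix
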