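import Cfsg.Agent.Lib.Classical.UnionTwo.Quotient
import Cfsg.Agent.Lib.Classical.HermFrames
import Cfsg.Agent.Lib.SU.Basic
import Cfsg.Agent.Lib.SU.CenterCard

/-!
# `PSU` in dimension four: a point stabiliser and the stabiliser of an isotropic plane
-/

set_option autoImplicit false

namespace CfsgLib.Classical.UnionTwo.Unit

open Matrix Module Polynomial CfsgLib.SU

variable {F : Type*} [Field F] [Fintype F] {q : ℕ} (C : UCtx F q) {n : ℕ}

local notation "M" => Matrix (Fin n) (Fin n) F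
local notation "V" => (Fin n → F)

omit [Fintype F] in
theorem form_gu (A : ↥(Cfsg.GU n F q)) (u v : V) : C.form (A.1.1 *ᵥ u) (A.1.1 *ᵥ v) = C.form u v :=
  (CfsgLib.Classical.gu_mem_iff C).1 A.2 u v

/-- The subgroup of elements keeping a predicate on vectors. -/
def predStab (n : ℕ) (q : ℕ) (P : (Fin n → F) → Prop) : Subgroup ↥(Cfsg.SU n F q) where
  carrier := {A | ∀ x, P (A.1.1 *ᵥ x) ↔ P x}
  mul_mem' {A B} ha hb x := by rw [suMat_mulVec_mul, ha, hb]
  one_mem' x := by rw [su_one_mulVec]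
  inv_mem' {A} ha x := by rw [← ha ((A⁻¹).1.1 *ᵥ x), su_mulVec_inv]

theorem mem_predStab {P : V → Prop} {A : ↥(Cfsg.SU n F q)} (h : ∀ x, P x → P (A.1.1 *ᵥ x)) :
    A ∈ predStab n q P := by
  intro x
  refine ⟨fun hx => ?_, h x⟩
  classical
  let f : {x : V // P x} → {x : V // P x} := fun x => ⟨A.1.1 *ᵥ x.1, h x.1 x.2⟩
  have hf : Function.Injective f := fun a b hab => Subtype.ext <| by
    have := congrArg (fun t : {x : V // P x} => (A⁻¹).1.1 *ᵥ t.1) hab
    simpa only [f, su_inv_mulVec] using this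
  obtain ⟨y, hy⟩ := Finite.surjective_of_injective hf ⟨_, hx⟩
  have := congrArg (fun t : {x : V // P x} => (A⁻¹).1.1 *ᵥ t.1) hy
  simp only [f, su_inv_mulVec] at this
  exact this ▸ y.2

omit [Fintype F] in
theorem commute_aeval {a b : M} (h : Commute a b) (p : F[X]) : Commute a (aeval b p) := by
  induction p using Polynomial.induction_on with
  | C c => rw [aeval_C]; exact (Algebra.commute_algebraMap_left c a).symm
  | add p r hp hr => rw [map_add]; exact hp.add_right hr
  | monomial k c ih => rw [pow_succ, ← mul_assoc, map_mul, aeval_X]; exact ih.mul_right h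

omit [Fintype F] in
theorem form_aeval (g : GL (Fin n) F) (hg : ∀ u v, C.form (g.1 *ᵥ u) (g.1 *ᵥ v) = C.form u v)
    (p : F[X]) (x z : V) :
    C.form (aeval g.1 p *ᵥ x) z = C.form x (aeval (g⁻¹).1 (p.map (C.bar : F →+* F)) *ᵥ z) := by
  induction p using Polynomial.induction_on generalizing x z with
  | C c =>
    rw [Polynomial.map_C, aeval_C, aeval_C, Algebra.algebraMap_eq_smul_one, Algebra.algebraMap_eq_smul_one,
      Matrix.smul_mulVec, Matrix.smul_mulVec, Matrix.one_mulVec, Matrix.one_mulVec, C.form_smul_left,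
      C.form_smul_right]
    simp [C.bar_bar]
  | add p r hp hr =>
    rw [Polynomial.map_add, map_add, map_add, Matrix.add_mulVec, Matrix.add_mulVec, C.form_add_left,
      C.form_add_right, hp, hr]
  | monomial k c ih =>
    rw [pow_succ, ← mul_assoc, Polynomial.map_mul, Polynomial.map_X, map_mul, aeval_X,
      ← Matrix.mulVec_mulVec, ih]
    generalize Polynomial.map (C.bar : F →+* F) (Polynomial.C c * X ^ k) = w
    rw [map_mul, aeval_X, ← (commute_aeval (Commute.refl (g⁻¹).1) w).eq, ← Matrix.mulVec_mulVec]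
    conv_lhs => rw [← Matrix.one_mulVec (aeval (g⁻¹).1 w *ᵥ z), ← Units.val_one, ← mul_inv_cancel g,
      Units.val_mul, ← Matrix.mulVec_mulVec, hg]

include C in
/-- The kernel of an irreducible even degree polynomial in a unitary matrix is totally isotropic. -/
theorem ker_isotropic (hF : Fintype.card F = q ^ 2) (g : GL (Fin n) F)
    (hg : ∀ u v, C.form (g.1 *ᵥ u) (g.1 *ᵥ v) = C.form u v) {f : F[X]} (hf : Irreducible f)
    (he : Even f.natDegree) {x y : V} (hx : aeval g.1 f *ᵥ x = 0) (hy : aeval g.1 f *ᵥ y = 0) :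
    C.form x y = 0 := by
  classical
  have hd2 : 2 ≤ f.natDegree := by
    have := hf.natDegree_pos
    obtain ⟨k, hk⟩ := he
    omega
  have hXf : IsCoprime (X : F[X]) f := by
    refine (Irreducible.coprime_iff_not_dvd Polynomial.irreducible_X).2 fun h => ?_
    have h2 := Polynomial.natDegree_eq_of_degree_eq
      (Polynomial.degree_eq_degree_of_associated (Polynomial.irreducible_X.associated_of_dvd hf h))
    rw [natDegree_X] at h2
    omega
  obtain ⟨a, b, hab⟩ := hXf
  set fs := f.map (C.bar : F →+* F) with hfs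
  -- the adjoint vanishes nowhere
  have hnd : ¬ f ∣ fs.comp a := by
    intro hdvd
    haveI := Fact.mk hf
    let L := AdjoinRoot f
    haveI : FiniteDimensional F L := (AdjoinRoot.powerBasis hf.ne_zero).finite
    haveI : Finite L := Module.finite_of_finite F
    have hdim : finrank F L = f.natDegree := (AdjoinRoot.powerBasis hf.ne_zero).finrank.trans
      (AdjoinRoot.powerBasis_dim hf.ne_zero)
    set r : L := AdjoinRoot.root f
    have har : aeval r a * r = 1 := by
      have h := congrArg (aeval r) hab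
      simp only [map_add, map_mul, aeval_X, map_one] at h
      rwa [show aeval r f = 0 by rw [AdjoinRoot.aeval_eq, AdjoinRoot.mk_self], mul_zero, add_zero] at h
    have hr : aeval (r⁻¹) fs = 0 := by
      rw [← eq_inv_of_mul_eq_one_left har, ← aeval_comp, AdjoinRoot.aeval_eq, AdjoinRoot.mk_eq_zero]
      exact hdvd
    obtain ⟨p, hp⟩ := CharP.exists F
    haveI : CharP L p := charP_of_injective_algebraMap (algebraMap F L).injective p
    obtain ⟨k, hpp, hk⟩ := FiniteField.card F p
    haveI := Fact.mk hpp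
    rw [hF] at hk
    obtain ⟨e, -, hq⟩ := (Nat.dvd_prime_pow hpp).1 (hk ▸ dvd_pow_self q two_ne_zero)
    have hφ : ∀ s : L, iterateFrobenius L p e s = s ^ q := fun s => by rw [iterateFrobenius_def, hq]
    have hs : aeval ((r⁻¹) ^ q) f = 0 := by
      have h := congrArg (iterateFrobenius L p e) hr
      rw [map_zero, aeval_def, Polynomial.hom_eval₂, hφ, hfs, Polynomial.eval₂_map] at h
      rw [aeval_def]
      have heq : ((iterateFrobenius L p e).comp (algebraMap F L)).comp (C.bar : F →+* F) = algebraMap F L :=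
        RingHom.ext fun c => by
          show iterateFrobenius L p e (algebraMap F L (C.bar c)) = _
          rw [hφ, ← map_pow, ← C.bar_eq, C.bar_bar]
      rw [heq] at h
      exact h
    let τ : L →ₐ[F] L := AdjoinRoot.liftAlgHom f (Algebra.ofId F L) ((r⁻¹) ^ q) hs
    obtain ⟨i, hi⟩ := (FiniteField.bijective_frobeniusAlgHom_pow F L).2 τ
    have hτr : τ r = (r⁻¹) ^ q := AdjoinRoot.liftAlgHom_root _ _ _ hs
    have h2 : τ * τ = FiniteField.frobeniusAlgHom F L := by
      refine AdjoinRoot.algHom_ext ?_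
      show τ (τ r) = _
      rw [hτr, map_pow, map_inv₀, hτr, FiniteField.coe_frobeniusAlgHom]
      show _ = r ^ Fintype.card F
      simp only [hF, inv_pow, ← pow_mul, sq]
      exact inv_inv _
    have h3 : FiniteField.frobeniusAlgHom F L ^ (2 * i.1) = FiniteField.frobeniusAlgHom F L ^ 1 := by
      rw [pow_one, two_mul, pow_add, show _ ^ i.1 = τ from hi, h2]
    have h4 := (IsOfFinOrder.pow_eq_pow_iff_modEq (orderOf_pos_iff.1
      (by rw [FiniteField.orderOf_frobeniusAlgHom, hdim]; omega))).1 h3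
    rw [FiniteField.orderOf_frobeniusAlgHom] at h4
    simp only [hdim] at h4
    have h5 : 2 * i.1 ≡ 1 [MOD 2] := h4.of_dvd he.two_dvd
    rw [Nat.ModEq] at h5
    omega
  obtain ⟨c, d, hcd⟩ := (hf.coprime_iff_not_dvd).2 hnd
  set z := aeval g.1 d *ᵥ y
  have hz : aeval g.1 f *ᵥ z = 0 := by
    rw [Matrix.mulVec_mulVec, ← map_mul, mul_comm, map_mul, ← Matrix.mulVec_mulVec, hy, Matrix.mulVec_zero]
  have hcomm : ∀ w : F[X], Commute (g⁻¹).1 (aeval g.1 w) := fun w =>
    commute_aeval (Commute.units_inv_left (Commute.refl g.1)) w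
  -- the inverse as a polynomial
  have hinv : ∀ w, aeval g.1 f *ᵥ w = 0 → ∀ p : F[X], aeval (g⁻¹).1 p *ᵥ w = aeval g.1 (p.comp a) *ᵥ w := by
    intro w hw p
    have h1 : (g⁻¹).1 *ᵥ w = aeval g.1 a *ᵥ w := by
      have h := congrArg (fun P : F[X] => aeval g.1 P *ᵥ w) hab
      simp only [map_add, map_mul, aeval_X, map_one, Matrix.add_mulVec, Matrix.one_mulVec] at h
      rw [← Matrix.mulVec_mulVec w (aeval g.1 b), hw, Matrix.mulVec_zero, add_zero] at h
      conv_lhs => rw [← h]
      rw [Matrix.mulVec_mulVec, ← Matrix.mul_assoc, (hcomm a).eq, Matrix.mul_assoc, ← Units.val_mul,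
        inv_mul_cancel, Units.val_one, Matrix.mul_one]
    induction p using Polynomial.induction_on with
    | C c => rw [C_comp, aeval_C, aeval_C]
    | add p r hp hr => rw [add_comp, map_add, map_add, Matrix.add_mulVec, Matrix.add_mulVec, hp, hr]
    | monomial k c ih =>
      rw [pow_succ, ← mul_assoc, mul_comp, X_comp, mul_comm (Polynomial.C c * X ^ k), map_mul, aeval_X,
        ← Matrix.mulVec_mulVec, ih, Matrix.mulVec_mulVec, (hcomm _).eq, ← Matrix.mulVec_mulVec, h1,
        Matrix.mulVec_mulVec, ← map_mul]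
  have hy' : y = aeval (g⁻¹).1 fs *ᵥ z := by
    rw [hinv z hz, Matrix.mulVec_mulVec, ← map_mul]
    have h := congrArg (fun P : F[X] => aeval g.1 P *ᵥ y) hcd
    simp only [map_add, map_one, Matrix.add_mulVec, Matrix.one_mulVec] at h
    rw [map_mul, ← Matrix.mulVec_mulVec, hy, Matrix.mulVec_zero, zero_add, mul_comm] at h
    exact h.symm
  rw [hy', ← form_aeval C g hg f x z, hx, C.form_zero_left]

omit [Fintype F] in
/-- An irreducible factor of the minimal polynomial has a kernel. -/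
theorem exists_ker (g : M) {f : F[X]} (hf : Irreducible f) (hdvd : f ∣ minpoly F g) :
    ∃ x : V, x ≠ 0 ∧ aeval g f *ᵥ x = 0 := by
  obtain ⟨r, hr⟩ := hdvd
  have hne : minpoly F g ≠ 0 := minpoly.ne_zero (Matrix.isIntegral g)
  have hrg : aeval g r ≠ 0 := fun h => by
    have h1 := minpoly.dvd F g h
    have h2 := Polynomial.natDegree_le_of_dvd h1 (right_ne_zero_of_mul (hr ▸ hne))
    rw [hr, Polynomial.natDegree_mul hf.ne_zero (right_ne_zero_of_mul (hr ▸ hne))] at h2
    have := hf.natDegree_pos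
    omega
  obtain ⟨w, hw⟩ : ∃ w, aeval g r *ᵥ w ≠ 0 := by
    by_contra h
    push Not at h
    exact hrg (Matrix.ext_iff_mulVec.2 fun w => by rw [h, Matrix.zero_mulVec])
  refine ⟨_, hw, ?_⟩
  rw [Matrix.mulVec_mulVec, ← map_mul, ← hr, minpoly.aeval, Matrix.zero_mulVec]

omit [Fintype F] in
theorem exists_eigvec {g : M} (h : ∃ μ, g.charpoly.IsRoot μ) : ∃ (x : V) (μ : F), x ≠ 0 ∧ g *ᵥ x = μ • x := by
  obtain ⟨μ, hμ⟩ := h
  rw [Polynomial.IsRoot, Matrix.eval_charpoly] at hμ
  obtain ⟨v, hv, hgv⟩ := Matrix.exists_mulVec_eq_zero_iff.2 hμ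
  refine ⟨v, μ, hv, ?_⟩
  rw [Matrix.sub_mulVec, Matrix.scalar_apply, sub_eq_zero] at hgv
  rw [← hgv]
  funext j
  simp [Matrix.mulVec_diagonal]

include C in
/-- A unitary binary matrix has an eigenvector. -/
theorem exists_eigvec_two (hF : Fintype.card F = q ^ 2) (g : GL (Fin 2) F)
    (hg : ∀ u v, C.form (g.1 *ᵥ u) (g.1 *ᵥ v) = C.form u v) :
    ∃ (x : Fin 2 → F) (μ : F), x ≠ 0 ∧ g.1 *ᵥ x = μ • x := by
  refine exists_eigvec ?_
  by_contra hno
  push Not at hno
  have hne := (Matrix.charpoly_monic g.1).ne_zero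
  have hd : g.1.charpoly.natDegree = 2 := by rw [Matrix.charpoly_natDegree_eq_dim, Fintype.card_fin]
  have hirr : Irreducible g.1.charpoly :=
    (Polynomial.irreducible_iff_roots_eq_zero_of_degree_le_three (by omega) (by omega)).2 (by
      refine Multiset.eq_zero_of_forall_notMem fun μ hμ => hno μ ?_
      exact (Polynomial.mem_roots hne).1 hμ)
  have hz : ∀ x : Fin 2 → F, aeval g.1 g.1.charpoly *ᵥ x = 0 := fun x => by
    rw [Matrix.aeval_self_charpoly, Matrix.zero_mulVec]
  have := ker_isotropic C hF g hg hirr (by rw [hd]; exact even_two) (hz (Pi.single 0 1)) (hz (Pi.single 0 1))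
  simp [UCtx.form, Fin.sum_univ_two] at this

/-- Points: lines through a vector of norm one. -/
def HasPoint (g : M) : Prop := ∃ (x : V) (μ : F), C.form x x ≠ 0 ∧ g *ᵥ x = μ • x

/-- Invariant isotropic planes. -/
def HasPlane (g : M) : Prop :=
  ∃ x y : V, LinearIndependent F ![x, y] ∧ C.form x x = 0 ∧ C.form x y = 0 ∧ C.form y y = 0 ∧
    g *ᵥ x ∈ Submodule.span F {x, y} ∧ g *ᵥ y ∈ Submodule.span F {x, y}

omit [Fintype F] in
theorem hasPoint_conj {g : GL (Fin n) F} (A : ↥(Cfsg.GU n F q))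
    (h : HasPoint C ((A.1⁻¹ * g * A.1 : GL (Fin n) F) : M)) : HasPoint C g.1 := by
  obtain ⟨x, μ, hx, hgx⟩ := h
  refine ⟨A.1.1 *ᵥ x, μ, by rwa [form_gu C], ?_⟩
  have h1 := congrArg (A.1.1 *ᵥ ·) hgx
  simpa [Matrix.mulVec_mulVec, Matrix.mulVec_smul, ← Matrix.mul_assoc] using h1

omit [Fintype F] in
theorem hasPlane_conj {g : GL (Fin n) F} (A : ↥(Cfsg.GU n F q))
    (h : HasPlane C ((A.1⁻¹ * g * A.1 : GL (Fin n) F) : M)) : HasPlane C g.1 := by
  obtain ⟨x, y, hli, h1, h2, h3, hx, hy⟩ := h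
  refine ⟨A.1.1 *ᵥ x, A.1.1 *ᵥ y, ?_, by rwa [form_gu C], by rwa [form_gu C], by rwa [form_gu C], ?_, ?_⟩
  · have h0 := hli.map' (Matrix.toLin' A.1.1) (LinearMap.ker_eq_bot.2 fun a b hab => by
      have := congrArg ((A.1⁻¹).1 *ᵥ ·) hab
      simpa [Matrix.toLin'_apply, Matrix.mulVec_mulVec] using this)
    refine (show ![A.1.1 *ᵥ x, A.1.1 *ᵥ y] = ⇑(Matrix.toLin' A.1.1) ∘ ![x, y] from ?_) ▸ h0
    funext i
    fin_cases i <;> rfl
  all_goals
    rename' hx => hx, hy => hy
  · obtain ⟨a, b, hab⟩ := Submodule.mem_span_pair.1 hx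
    refine Submodule.mem_span_pair.2 ⟨a, b, ?_⟩
    have h4 := congrArg (A.1.1 *ᵥ ·) hab
    simpa [Matrix.mulVec_mulVec, Matrix.mulVec_add, Matrix.mulVec_smul, ← Matrix.mul_assoc] using h4
  · obtain ⟨a, b, hab⟩ := Submodule.mem_span_pair.1 hy
    refine Submodule.mem_span_pair.2 ⟨a, b, ?_⟩
    have h4 := congrArg (A.1.1 *ᵥ ·) hab
    simpa [Matrix.mulVec_mulVec, Matrix.mulVec_add, Matrix.mulVec_smul, ← Matrix.mul_assoc] using h4

section Four

variable (hF : Fintype.card F = q ^ 2) {ζ : F} (hζ : ζ * C.bar ζ = -1)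

include C hF hζ in
theorem case_base (g : GL (Fin 4) F) (hg : ∀ u v, C.form (g.1 *ᵥ u) (g.1 *ᵥ v) = C.form u v) {lam : F}
    (hgu : g.1 *ᵥ ![1, ζ, 0, 0] = lam • ![1, ζ, 0, 0]) : HasPoint C g.1 ∨ HasPlane C g.1 := by
  set u : Fin 4 → F := ![1, ζ, 0, 0] with hu
  have huu : C.form u u = 0 := by simp [UCtx.form, hu, Fin.sum_univ_four, hζ]
  have hlam : lam ≠ 0 := by
    rintro rfl
    have h := congrArg ((g⁻¹).1 *ᵥ ·) hgu
    simp only [Matrix.mulVec_mulVec, Units.inv_mul, Matrix.one_mulVec, zero_smul, Matrix.mulVec_zero] at h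
    exact one_ne_zero (congrFun h 0)
  let ι2 : (Fin 2 → F) → Fin 4 → F := fun s => ![0, 0, s 0, s 1]
  have hι : ∀ s t, C.form (ι2 s) (ι2 t) = C.form s t := fun s t => by
    simp [UCtx.form, ι2, Fin.sum_univ_four, Fin.sum_univ_two]
  have hιu : ∀ s, C.form (ι2 s) u = 0 := fun s => by simp [UCtx.form, ι2, hu, Fin.sum_univ_four]
  have huι : ∀ s, C.form u (ι2 s) = 0 := fun s => C.form_swap_zero (hιu s)
  let N : Matrix (Fin 2) (Fin 2) F := !![g.1 2 2, g.1 2 3; g.1 3 2, g.1 3 3]
  have hdec : ∀ s, g.1 *ᵥ ι2 s = (g.1 *ᵥ ι2 s) 0 • u + ι2 (N *ᵥ s) := by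
    intro s
    have h0 : C.form (g.1 *ᵥ ι2 s) u = 0 := by
      have h := hg (ι2 s) u
      rw [hgu, C.form_smul_right, hιu] at h
      exact (mul_eq_zero.1 h).resolve_left (fun h' => hlam (C.bar.injective (by rw [h', map_zero])))
    simp only [UCtx.form, hu, Fin.sum_univ_four, Matrix.cons_val_zero, Matrix.cons_val_one, Matrix.cons_val,
      map_one, map_zero, mul_one, mul_zero, add_zero] at h0
    funext j
    fin_cases j <;> simp [hu, ι2, N, Matrix.mulVec, dotProduct, Fin.sum_univ_four, Fin.sum_univ_two] at h0 ⊢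
    linear_combination -ζ * h0 + (g.1 1 2 * s 0 + g.1 1 3 * s 1) * hζ
  have hN : ∀ s t, C.form (N *ᵥ s) (N *ᵥ t) = C.form s t := by
    intro s t
    have h := hg (ι2 s) (ι2 t)
    rw [hdec s, hdec t] at h
    simpa [C.form_add_left, C.form_add_right, C.form_smul_left, C.form_smul_right, huu, huι, hιu, hι] using h
  have hNinj : Function.Injective (Matrix.mulVecLin N) := fun s t h => sub_eq_zero.1 (C.eq_zero_of_form fun z => by
    have h' : N *ᵥ (s - t) = 0 := by rw [Matrix.mulVec_sub, sub_eq_zero]; exact h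
    rw [← hN, h', C.form_zero_left])
  obtain ⟨Nu, hNu⟩ := Matrix.mulVec_injective_iff_isUnit.1 (fun a b h => hNinj h)
  obtain ⟨s, ν, hs, hNs⟩ := exists_eigvec_two C hF Nu (by rw [hNu]; exact hN)
  rw [hNu] at hNs
  have hlift : ∀ (s : Fin 2 → F) (ν : F), N *ᵥ s = ν • s → C.form s s ≠ 0 → ν ≠ lam → HasPoint C g.1 := by
    intro s ν hs hss hne
    have hd : ν - lam ≠ 0 := sub_ne_zero.2 hne
    set a := (g.1 *ᵥ ι2 s) 0
    refine ⟨ι2 s + (a / (ν - lam)) • u, ν, ?_, ?_⟩
    · simpa [C.form_add_left, C.form_add_right, C.form_smul_left, C.form_smul_right, huu, huι, hιu, hι] using hss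
    · have he : ι2 (ν • s) = ν • ι2 s := by funext j; fin_cases j <;> simp [ι2]
      rw [Matrix.mulVec_add, Matrix.mulVec_smul, hgu, hdec s, hs, he, smul_add, smul_smul, smul_smul,
        add_comm (_ • u) (ν • ι2 s), add_assoc, ← add_smul]
      congr 2
      show a + _ = _
      field_simp
      ring
  have hplane : ∀ (s : Fin 2 → F) (ν : F), s ≠ 0 → N *ᵥ s = ν • s → C.form s s = 0 → HasPlane C g.1 := by
    intro s ν hs hNs hss
    refine ⟨u, ι2 s, ?_, huu, huι s, by rwa [hι], ?_, ?_⟩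
    · refine LinearIndependent.pair_iff.2 fun a b hab => ?_
      have h0 := congrFun hab 0
      simp [hu, ι2] at h0
      refine ⟨h0, ?_⟩
      by_contra hb
      rw [h0, zero_smul, zero_add, smul_eq_zero] at hab
      rcases hab with h | h
      · exact hb h
      · exact hs (funext fun i => by fin_cases i; exacts [congrFun h 2, congrFun h 3])
    · rw [hgu]; exact Submodule.mem_span_pair.2 ⟨lam, 0, by simp⟩
    · rw [hdec s, hNs]
      exact Submodule.mem_span_pair.2 ⟨(g.1 *ᵥ ι2 s) 0, ν, congrArg₂ (· + ·) rfl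
        (by funext j; fin_cases j <;> simp [ι2])⟩
  by_cases hss : C.form s s = 0
  · exact Or.inr (hplane s ν hs hNs hss)
  by_cases hνl : ν = lam
  swap
  · exact Or.inl (hlift s ν hNs hss hνl)
  -- the orthogonal vector
  let t : Fin 2 → F := ![-C.bar (s 1), C.bar (s 0)]
  have htt : C.form t t ≠ 0 := by
    intro h
    apply hss
    simp [UCtx.form, t, Fin.sum_univ_two, C.bar_bar] at h ⊢
    linear_combination h
  have hperp : ∀ w : Fin 2 → F, C.form w s = 0 → ∃ k : F, w = k • t := by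
    intro w hw
    simp [UCtx.form, Fin.sum_univ_two] at hw
    have hs' : s 0 * C.bar (s 0) + s 1 * C.bar (s 1) ≠ 0 := by
      simpa [UCtx.form, Fin.sum_univ_two] using hss
    refine ⟨(w 1 * s 0 - w 0 * s 1) / (s 0 * C.bar (s 0) + s 1 * C.bar (s 1)), funext fun i => ?_⟩
    fin_cases i <;> simp [t] <;> field_simp
    · linear_combination s 0 * hw
    · linear_combination s 1 * hw
  have hts : C.form t s = 0 := by simp [UCtx.form, t, Fin.sum_univ_two]; ring
  obtain ⟨k, hk⟩ := hperp (N *ᵥ t) (by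
    have h := hN t s
    rw [hNs, C.form_smul_right, hts] at h
    refine (mul_eq_zero.1 h).resolve_left fun h' => ?_
    subst hνl
    exact hlam (C.bar.injective (by rw [h', map_zero])))
  by_cases hkl : k = lam
  swap
  · exact Or.inl (hlift t k hk htt hkl)
  refine Or.inr (hplane ![1, ζ] lam (fun h => one_ne_zero (congrFun h 0)) ?_ (by
    simp [UCtx.form, Fin.sum_univ_two, hζ]))
  obtain ⟨b, hb⟩ := hperp (![1, ζ] - (C.form ![1, ζ] s / C.form s s) • s) (by
    rw [C.form_sub_left, C.form_smul_left, div_mul_cancel₀ _ hss, sub_self])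
  rw [sub_eq_iff_eq_add] at hb
  rw [hb, Matrix.mulVec_add, Matrix.mulVec_smul, Matrix.mulVec_smul, hk, hNs, hνl, hkl, smul_add,
    smul_comm lam, smul_comm lam]

include C hF hζ in
theorem point_or_plane (g : GL (Fin 4) F) (hg : ∀ u v, C.form (g.1 *ᵥ u) (g.1 *ᵥ v) = C.form u v) :
    HasPoint C g.1 ∨ HasPlane C g.1 := by
  by_cases hev : ∃ μ, g.1.charpoly.IsRoot μ
  · obtain ⟨v, μ, hv, hgv⟩ := exists_eigvec hev
    by_cases hvv : C.form v v = 0
    swap
    · exact Or.inl ⟨v, μ, hvv, hgv⟩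
    obtain ⟨A, hA⟩ := CfsgLib.Classical.HermFrames.exists_move_tuple C
      (t := ![![1, ζ, 0, 0]]) (t' := ![v])
      (linearIndependent_unique_iff.2 (fun h => one_ne_zero (congrFun h 0)))
      (linearIndependent_unique_iff.2 hv)
      (fun i j => by fin_cases i; fin_cases j; simp [UCtx.form, Fin.sum_univ_four, hζ] at hvv ⊢; rw [hvv])
    have hA0 : A.1.1 *ᵥ ![1, ζ, 0, 0] = v := hA 0
    have hgA : A.1⁻¹ * g * A.1 ∈ Cfsg.GU 4 F q :=
      mul_mem (mul_mem (inv_mem A.2) ((CfsgLib.Classical.gu_mem_iff C).2 hg)) A.2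
    refine (case_base C hF hζ _ ((CfsgLib.Classical.gu_mem_iff C).1 hgA) (lam := μ) ?_).imp
      (hasPoint_conj C A) (hasPlane_conj C A)
    rw [Units.val_mul, Units.val_mul, ← Matrix.mulVec_mulVec, ← Matrix.mulVec_mulVec, hA0, hgv,
      Matrix.mulVec_smul, ← hA0, Matrix.mulVec_mulVec, Units.inv_mul, Matrix.one_mulVec]
  · push Not at hev
    have hχ := (Matrix.charpoly_monic g.1).ne_zero
    have hdeg : g.1.charpoly.natDegree = 4 := by rw [Matrix.charpoly_natDegree_eq_dim, Fintype.card_fin]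
    have hroot : ∀ p : F[X], p.natDegree = 1 → ¬ p ∣ g.1.charpoly := by
      intro p hp hpd
      obtain ⟨r, hr⟩ := Polynomial.exists_root_of_degree_eq_one
        ((Polynomial.degree_eq_iff_natDegree_eq_of_pos one_pos).2 hp)
      exact hev r (hr.dvd hpd)
    have hmp : minpoly F g.1 ∣ g.1.charpoly := minpoly.dvd _ _ (Matrix.aeval_self_charpoly _)
    obtain ⟨f, hf, hfd⟩ := WfDvdMonoid.exists_irreducible_factor
      (minpoly.not_isUnit F g.1) (minpoly.ne_zero (Matrix.isIntegral _))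
    have hfχ := hfd.trans hmp
    have hfle : f.natDegree ≤ 4 := hdeg ▸ Polynomial.natDegree_le_of_dvd hfχ hχ
    have hf1 : f.natDegree ≠ 1 := fun h => hroot f h hfχ
    have hf3 : f.natDegree ≠ 3 := fun h => by
      obtain ⟨r, hr⟩ := hfχ
      refine hroot r ?_ ⟨f, hr.trans (mul_comm _ _)⟩
      have := congrArg Polynomial.natDegree hr
      rw [hdeg, Polynomial.natDegree_mul hf.ne_zero (right_ne_zero_of_mul (hr ▸ hχ))] at this
      omega
    have hev' : Even f.natDegree := by
      have := hf.natDegree_pos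
      rcases (show f.natDegree = 2 ∨ f.natDegree = 4 by omega) with h | h <;> rw [h] <;> decide
    have hti : ∀ x y, aeval g.1 f *ᵥ x = 0 → aeval g.1 f *ᵥ y = 0 → C.form x y = 0 :=
      fun x y => ker_isotropic C hF g hg hf hev'
    obtain ⟨x, hx0, hx⟩ := exists_ker g.1 hf hfd
    have hgx : aeval g.1 f *ᵥ (g.1 *ᵥ x) = 0 := by
      rw [Matrix.mulVec_mulVec, (commute_aeval (Commute.refl g.1) f).symm.eq, ← Matrix.mulVec_mulVec, hx,
        Matrix.mulVec_zero]
    have hli : LinearIndependent F ![x, g.1 *ᵥ x] := by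
      refine LinearIndependent.pair_iff.2 fun a b hab => ?_
      by_cases hb : b = 0
      · rw [hb, zero_smul, add_zero, smul_eq_zero] at hab
        exact ⟨hab.resolve_right hx0, hb⟩
      exfalso
      refine hev (-a / b) ?_
      rw [Polynomial.IsRoot, Matrix.eval_charpoly]
      refine Matrix.exists_mulVec_eq_zero_iff.1 ⟨x, hx0, ?_⟩
      funext j
      have hj := congrFun hab j
      simp [Matrix.sub_mulVec, Matrix.mulVec_diagonal] at hj ⊢
      field_simp
      linear_combination -hj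
    -- the degree is two
    have hf2 : f.natDegree = 2 := by
      by_contra hne
      have h4 : f.natDegree = 4 := by
        have := hf.natDegree_pos
        obtain ⟨k, hk⟩ := hev'
        omega
      obtain ⟨r, hr⟩ := hfχ
      have hrd : r.natDegree = 0 := by
        have := congrArg Polynomial.natDegree hr
        rw [hdeg, Polynomial.natDegree_mul hf.ne_zero (right_ne_zero_of_mul (hr ▸ hχ))] at this
        omega
      have hz : aeval g.1 f = 0 := by
        have h := congrArg (aeval g.1) hr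
        rw [Matrix.aeval_self_charpoly, Polynomial.eq_C_of_natDegree_eq_zero hrd, map_mul, aeval_C,
          ← Algebra.commutes, ← Algebra.smul_def] at h
        exact (smul_eq_zero.1 h.symm).resolve_left fun h0 => right_ne_zero_of_mul (hr ▸ hχ)
          (by rw [Polynomial.eq_C_of_natDegree_eq_zero hrd, h0, map_zero])
      have := hti (Pi.single 0 1) (Pi.single 0 1) (by rw [hz, Matrix.zero_mulVec]) (by rw [hz, Matrix.zero_mulVec])
      simp [UCtx.form, Fin.sum_univ_four] at this
    refine Or.inr ⟨x, g.1 *ᵥ x, hli, hti _ _ hx hx, hti _ _ hx hgx, hti _ _ hgx hgx,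
      Submodule.subset_span (by simp), ?_⟩
    have hsum := hx
    rw [Polynomial.aeval_eq_sum_range, hf2, Finset.sum_range_succ, Finset.sum_range_succ, Finset.sum_range_one,
      pow_zero, pow_one, sq, Matrix.add_mulVec, Matrix.add_mulVec, Matrix.smul_mulVec, Matrix.smul_mulVec,
      Matrix.smul_mulVec, Matrix.one_mulVec, ← Matrix.mulVec_mulVec] at hsum
    have hlead : f.coeff 2 ≠ 0 := by
      rw [← hf2]; exact Polynomial.leadingCoeff_ne_zero.2 hf.ne_zero
    refine Submodule.mem_span_pair.2 ⟨-(f.coeff 2)⁻¹ * f.coeff 0, -(f.coeff 2)⁻¹ * f.coeff 1, ?_⟩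
    rw [eq_neg_of_add_eq_zero_left hsum |> fun h => (rfl : (-(f.coeff 2)⁻¹ * f.coeff 0) • x = _)]
    have h2 := congrArg ((f.coeff 2)⁻¹ • ·) (eq_neg_of_add_eq_zero_right hsum)
    simp only [inv_smul_smul₀ hlead, smul_neg, smul_add, smul_smul] at h2
    rw [h2, neg_mul, neg_mul, neg_smul, neg_smul, neg_add]

include C hF hζ in
/-- `PSU` in dimension four is covered. -/
theorem covers_psu_four : Covers (Cfsg.PSU 4 F q) := by
  classical
  let Pp : (Fin 4 → F) → Prop := fun x => x 1 = 0 ∧ x 2 = 0 ∧ x 3 = 0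
  let Pw : (Fin 4 → F) → Prop := fun x => x 1 = ζ * x 0 ∧ x 3 = ζ * x 2
  have hζ0 : ζ ≠ 0 := fun h => by simp [h] at hζ
  obtain ⟨δ, hδ0, hδ⟩ := C.exists_trace_zero
  set u : Fin 4 → F := ![1, ζ, 0, 0] with hu
  set u' : Fin 4 → F := ![0, 0, 1, ζ] with hu'
  set e : Fin 4 → F := Pi.single 0 1 with he
  have huu : C.form u u = 0 := by simp [UCtx.form, hu, Fin.sum_univ_four, hζ]
  refine covers_quot (predStab 4 q Pp) (predStab 4 q Pw) ?_ ?_ (fun A hA => ?_) (fun A hA => ?_) fun g => ?_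
  · intro h
    have hmem : C.tv u huu δ hδ ∈ predStab 4 q Pp := by rw [h]; trivial
    have := ((hmem e).2 (by simp [Pp, he])).1
    simp [C.tv_mulVec, UCtx.form, hu, he, Fin.sum_univ_four, hδ0, hζ0] at this
  · intro h
    set v : Fin 4 → F := ![1, 0, 0, ζ] with hv
    have hvv : C.form v v = 0 := by simp [UCtx.form, hv, Fin.sum_univ_four, hζ]
    have hmem : C.tv v hvv δ hδ ∈ predStab 4 q Pw := by rw [h]; trivial
    have := ((hmem u).2 (by simp [Pw, hu])).1
    simp [C.tv_mulVec, UCtx.form, hu, hv, Fin.sum_univ_four, hδ0, hζ0, mul_add] at this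
  all_goals (try
    obtain ⟨c, hc, -⟩ := C.scalar_of_mem_center (by norm_num) hA
    have hval : ∀ x : Fin 4 → F, A.1.1 *ᵥ x = c.1.1 • x := fun x => by
      have h1 := congrArg (fun g : ↥(Cfsg.GU 4 F q) => g.1.1 *ᵥ x) hc
      simp only [C.gscal_val, Matrix.smul_mulVec, Matrix.one_mulVec] at h1
      exact h1
    refine mem_predStab fun x hx => ?_
    rw [hval]
    exact ⟨by simp [hx.1, mul_left_comm], by simp [hx.2, mul_left_comm]⟩)
  have hgu : ∀ u v, C.form (g.1.1 *ᵥ u) (g.1.1 *ᵥ v) = C.form u v := C.form_su g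
  let gl : GL (Fin 4) F := Matrix.SpecialLinearGroup.toGL g.1
  have hgl : gl.1 = g.1.1 := rfl
  -- determinant one movers
  have adjust : ∀ (A : ↥(Cfsg.GU 4 F q)) (P : (Fin 4 → F) → Prop),
      (∀ c : F, c * C.bar c = 1 → ∃ B : Matrix (Fin 4) (Fin 4) F, B.det = c ∧
        (∀ u v, C.form (B *ᵥ u) (B *ᵥ v) = C.form u v) ∧ ∀ x, P x → P (B *ᵥ x)) →
      ∃ A' : ↥(Cfsg.SU 4 F q), ∀ x, P x → ∃ y, P y ∧ A'.1.1 *ᵥ x = A.1.1 *ᵥ y := by
    intro A P hP
    have hd : A.1.1.det * C.bar A.1.1.det = 1 := by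
      have h : (C.bar : F →+* F).mapMatrix A.1.1 = A.1.1.map C.bar := rfl
      have hmat : A.1.1.transpose * A.1.1.map C.bar = 1 := by
        refine Matrix.ext fun i j => ?_
        have h1 := form_gu C A (Pi.single i 1) (Pi.single j 1)
        simpa [UCtx.form, Matrix.mul_apply, Matrix.mulVec, dotProduct, Pi.single_apply, apply_ite C.bar,
          Matrix.one_apply, eq_comm] using h1
      have h2 := congrArg Matrix.det hmat
      rwa [Matrix.det_mul, Matrix.det_transpose, Matrix.det_one, ← h, ← RingHom.map_det] at h2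
    have hd0 : A.1.1.det ≠ 0 := left_ne_zero_of_mul_eq_one hd
    obtain ⟨B, hB, hBf, hBP⟩ := hP A.1.1.det⁻¹ (by
      rw [map_inv₀, ← mul_inv, hd, inv_one])
    refine ⟨C.mkSU (A.1.1 * B) (by rw [Matrix.det_mul, hB, mul_inv_cancel₀ hd0]) (fun u v => by
      rw [← Matrix.mulVec_mulVec, ← Matrix.mulVec_mulVec, form_gu C, hBf]), fun x hx => ⟨B *ᵥ x, hBP x hx, ?_⟩⟩
    rw [C.mkSU_val, Matrix.mulVec_mulVec]
  have movein : ∀ (A : ↥(Cfsg.GU 4 F q)) (A' : ↥(Cfsg.SU 4 F q)) (P : (Fin 4 → F) → Prop),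
      (∀ x, P x → ∃ y, P y ∧ A'.1.1 *ᵥ x = A.1.1 *ᵥ y) →
      (∀ y, P y → ∃ y', P y' ∧ g.1.1 *ᵥ (A.1.1 *ᵥ y) = A.1.1 *ᵥ y') →
      A'⁻¹ * g * A'⁻¹⁻¹ ∈ predStab 4 q P := by
    intro A A' P hA' hgA
    choose f hfP hf using fun x : {x // P x} => hA' x.1 x.2
    have hfinj : Function.Injective (fun x => (⟨f x, hfP x⟩ : {x // P x})) := fun a b hab => Subtype.ext <| by
      have h' : A'.1.1 *ᵥ a.1 = A'.1.1 *ᵥ b.1 := by rw [hf, hf, show f a = f b from congrArg Subtype.val hab]
      have := congrArg ((A'⁻¹).1.1 *ᵥ ·) h'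
      simpa only [su_inv_mulVec] using this
    refine mem_predStab fun x hx => ?_
    obtain ⟨y, hy, he⟩ := hgA (f ⟨x, hx⟩) (hfP _)
    obtain ⟨z, hz⟩ := Finite.surjective_of_injective hfinj ⟨y, hy⟩
    rw [inv_inv, suMat_mulVec_mul, suMat_mulVec_mul, hf ⟨x, hx⟩, he, ← show f z = y from congrArg Subtype.val hz,
      ← hf z, su_inv_mulVec]
    exact z.2
  rcases point_or_plane C hF hζ gl hgu with ⟨v, μ, hvv, hgv⟩ | ⟨v, w, hli, h1, h2, h3, hgv, hgw⟩
  · obtain ⟨c, hc⟩ := C.exists_norm (c := (C.form v v)⁻¹) (by rw [map_inv₀, C.form_self_fixed])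
    have hv0 : c • v ≠ 0 := by
      intro h
      have h' := congrArg (fun t => C.form t t) h
      simp only [C.form_smul_left, C.form_smul_right, C.form_zero_left, ← mul_assoc, hc,
        inv_mul_cancel₀ hvv] at h'
      exact one_ne_zero h'
    obtain ⟨A, hA⟩ := CfsgLib.Classical.HermFrames.exists_move_tuple C (t := ![e]) (t' := ![c • v])
      (linearIndependent_unique_iff.2 (show e ≠ 0 from fun h => by simpa [he] using congrFun h 0))
      (linearIndependent_unique_iff.2 hv0)
      (fun i j => by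
        fin_cases i; fin_cases j
        simp [C.form_smul_left, C.form_smul_right, ← mul_assoc, hc, inv_mul_cancel₀ hvv]
        simp [UCtx.form, he, Fin.sum_univ_four])
    obtain ⟨A', hA'⟩ := adjust A Pp (fun d hd => ⟨C.rmap e e (d - 1), by
      rw [C.det_rmap]; simp [UCtx.form, he, Fin.sum_univ_four],
      fun x y => by
        have hee : C.form e e = 1 := by simp [UCtx.form, he, Fin.sum_univ_four]
        simp only [C.rmap_mulVec, C.form_add_left, C.form_add_right, C.form_smul_left, C.form_smul_right,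
          hee, map_mul, map_sub, map_one, C.bar_form]
        linear_combination (C.form x e * C.form e y) * hd,
      fun x hx => by
        obtain ⟨a, b, c⟩ := hx
        simp [Pp, C.rmap_mulVec, he, a, b, c]⟩)
    refine ⟨A'⁻¹, Or.inl (movein A A' Pp hA' fun y hy => ?_)⟩
    have hye : ∀ y, Pp y → A.1.1 *ᵥ y = (y 0 * c) • v := fun y hy => by
      rw [show y = y 0 • e from funext fun j => by
        fin_cases j <;> simp [he, hy.1, hy.2.1, hy.2.2], Matrix.mulVec_smul,
        show A.1.1 *ᵥ e = c • v from hA 0, smul_smul]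
      simp [he]
    refine ⟨μ • y, ⟨by simp [hy.1], by simp [hy.2.1], by simp [hy.2.2]⟩, ?_⟩
    rw [hye y hy, Matrix.mulVec_smul, show g.1.1 *ᵥ v = μ • v from hgv, Matrix.mulVec_smul, hye y hy, smul_comm]
  · have hlu : LinearIndependent F ![u, u'] := by
      refine LinearIndependent.pair_iff.2 fun a b hab => ⟨?_, ?_⟩
      · simpa [hu, hu'] using congrFun hab 0
      · simpa [hu, hu'] using congrFun hab 2
    obtain ⟨A, hA⟩ := CfsgLib.Classical.HermFrames.exists_move_tuple C (t := ![u, u']) (t' := ![v, w]) hlu hli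
      (fun i j => by
        fin_cases i <;> fin_cases j <;>
          simp [h1, h2, h3, C.form_swap_zero h2] <;> simp [UCtx.form, hu, hu', Fin.sum_univ_four, hζ])
    obtain ⟨A', hA'⟩ := adjust A Pw (fun d hd => by
      obtain ⟨z, hz0, hzd⟩ : ∃ z : F, z ≠ 0 ∧ z = d * C.bar z := by
        by_cases h0 : 1 + d = 0
        · exact ⟨δ, hδ0, by linear_combination hδ - C.bar δ * h0⟩
        · refine ⟨1 + d, h0, ?_⟩
          rw [map_add, map_one]
          linear_combination -hd
      have hzb : C.bar z ≠ 0 := fun h => hz0 (C.bar.injective (by rw [h, map_zero]))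
      obtain ⟨k, hk⟩ := C.exists_trace (c := 1) (map_one _)
      set ww : Fin 4 → F := ![k, -ζ * (1 - k), 0, 0] with hww
      have hk' : C.bar k = 1 - k := by linear_combination hk
      have hwu : C.form ww u = 1 := by
        simp [UCtx.form, hww, hu, Fin.sum_univ_four]
        linear_combination -(1 - k) * hζ
      have hwwz : C.form ww ww = 0 := by
        simp [UCtx.form, hww, Fin.sum_univ_four, map_sub, hk']
        linear_combination ((1 - k) * k) * hζ
      have huw : C.form u ww = 1 := by rw [← C.bar_form, hwu, map_one]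
      refine ⟨C.rmap u ww (z - 1) * C.rmap ww u ((C.bar z)⁻¹ - 1), ?_, fun x y => ?_, fun x hx => ?_⟩
      · rw [Matrix.det_mul, C.det_rmap, C.det_rmap, huw, hwu]
        field_simp
        linear_combination hzd
      · rw [← Matrix.mulVec_mulVec, ← Matrix.mulVec_mulVec]
        simp only [C.rmap_mulVec, C.form_add_left, C.form_add_right, C.form_smul_left, C.form_smul_right,
          huu, hwwz, huw, hwu, map_mul, map_sub, map_one, map_zero, map_add, map_inv₀, C.bar_bar, C.bar_form,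
          mul_zero, zero_mul, add_zero, zero_add, mul_one, one_mul]
        field_simp
        ring
      · obtain ⟨a, b⟩ := hx
        have hxu : C.form x u = 0 := by
          simp [UCtx.form, hu, Fin.sum_univ_four, a]
          linear_combination x 0 * hζ
        rw [← Matrix.mulVec_mulVec, C.rmap_mulVec ww u, hxu, mul_zero, zero_smul, add_zero, C.rmap_mulVec]
        constructor <;> simp [hu, a, b] <;> ring)
    refine ⟨A'⁻¹, Or.inr (movein A A' Pw hA' fun y hy' => ?_)⟩
    have hy : ∀ z, Pw z → A.1.1 *ᵥ z ∈ Submodule.span F {v, w} := fun z hz => by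
      rw [show z = z 0 • u + z 2 • u' from funext fun j => by
        fin_cases j <;> simp [hu, hu', hz.1, hz.2, mul_comm], Matrix.mulVec_add, Matrix.mulVec_smul,
        Matrix.mulVec_smul, show A.1.1 *ᵥ u = v from hA 0, show A.1.1 *ᵥ u' = w from hA 1]
      exact Submodule.mem_span_pair.2 ⟨_, _, rfl⟩
    have hgin : g.1.1 *ᵥ (A.1.1 *ᵥ y) ∈ Submodule.span F {v, w} := by
      obtain ⟨a, b, hab⟩ := Submodule.mem_span_pair.1 (hy y hy')
      rw [← hab, Matrix.mulVec_add, Matrix.mulVec_smul, Matrix.mulVec_smul]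
      exact add_mem (Submodule.smul_mem _ _ hgv) (Submodule.smul_mem _ _ hgw)
    obtain ⟨a, b, hab⟩ := Submodule.mem_span_pair.1 hgin
    refine ⟨a • u + b • u', ⟨by simp [hu, hu', mul_comm], by simp [hu, hu', mul_comm]⟩, ?_⟩
    rw [← hab, Matrix.mulVec_add, Matrix.mulVec_smul, Matrix.mulVec_smul, show A.1.1 *ᵥ u = v from hA 0,
      show A.1.1 *ᵥ u' = w from hA 1]

end Four

end CfsgLib.Classical.UnionTwo.Unit
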