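import Cfsg.Agent.Lib.Classical.UnionTwo.UnitFour

/-!
# `PSU` in dimension three, characteristic three: a point stabiliser and a field normaliser
-/

set_option autoImplicit false

namespace CfsgLib.Classical.UnionTwo.Unit

open Matrix Module Polynomial CfsgLib.SU

variable {F : Type*} [Field F] [Fintype F] {q : ℕ} (C : UCtx F q)

local notation "M3" => Matrix (Fin 3) (Fin 3) F
local notation "V3" => (Fin 3 → F)

section Jordan

variable [CharP F 3]

omit [Fintype F] in
theorem three_zero : (3 : F) = 0 := CharP.cast_eq_zero F 3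

include C in
omit [Fintype F] in
/-- An orthonormal cyclic triple of a regular unipotent unitary element. -/
theorem exists_orthonormal_orbit {g : GL (Fin 3) F} (hg : ∀ u v, C.form (g.1 *ᵥ u) (g.1 *ᵥ v) = C.form u v)
    (h3 : (g.1 - 1) ^ 3 = 0) (h2 : (g.1 - 1) ^ 2 ≠ 0) [Finite F] :
    ∃ t : Fin 3 → V3, (∀ i j, C.form (t i) (t j) = if i = j then 1 else 0) ∧
      g.1 *ᵥ t 0 = t 1 ∧ g.1 *ᵥ t 1 = t 2 ∧ g.1 *ᵥ t 2 = t 0 := by
  obtain ⟨v, hv⟩ : ∃ v, ((g.1 - 1) ^ 2) *ᵥ v ≠ 0 := by
    by_contra h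
    push Not at h
    exact h2 (Matrix.ext_iff_mulVec.2 fun v => by rw [h, Matrix.zero_mulVec])
  have h3F : (3 : F) = 0 := three_zero
  have hg3 : ∀ x, g.1 *ᵥ (g.1 *ᵥ (g.1 *ᵥ x)) = x := by
    intro x
    have hm : g.1 * (g.1 * g.1) = 1 := by
      have e : (g.1 - 1) ^ 3 = g.1 * (g.1 * g.1) - 1 + ((3 : F) • (g.1 - g.1 * g.1)) := by
        rw [show (3 : F) • (g.1 - g.1 * g.1) = (3 : M3) * (g.1 - g.1 * g.1) by
          rw [Algebra.smul_def, map_ofNat]]
        noncomm_ring
      rw [h3, h3F, zero_smul, add_zero, eq_comm, sub_eq_zero] at e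
      exact e
    rw [Matrix.mulVec_mulVec, Matrix.mulVec_mulVec, Matrix.mul_assoc, hm, Matrix.one_mulVec]
  set v1 := g.1 *ᵥ v with hv1
  set v2 := g.1 *ᵥ v1 with hv2
  have hgv2 : g.1 *ᵥ v2 = v := hg3 v
  set r := C.form v v with hr
  set c := C.form v1 v with hc
  have hrb : C.bar r = r := C.form_self_fixed v
  have f01 : C.form v v1 = C.bar c := (C.bar_form v1 v).symm
  have f11 : C.form v1 v1 = r := hg v v
  have f22 : C.form v2 v2 = r := (hg v1 v1).trans f11
  have f21 : C.form v2 v1 = c := hg v1 v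
  have f12 : C.form v1 v2 = C.bar c := (hg v v1).trans f01
  have f20 : C.form v2 v = C.bar c := by rw [← hg v2 v, hgv2, ← hv1, f01]
  have f02 : C.form v v2 = c := by rw [← C.bar_form, f20, C.bar_bar]
  set ε := r + c + C.bar c with hε
  have hεb : C.bar ε = ε := by rw [hε, map_add, map_add, hrb, C.bar_bar]; ring
  have hε0 : ε ≠ 0 := by
    intro h0
    apply hv
    set z := ((g.1 - 1) ^ 2) *ᵥ v with hz
    have hzv : z = v2 + v1 + v := by
      rw [hz, sq, ← Matrix.mulVec_mulVec]
      simp only [Matrix.sub_mulVec, Matrix.one_mulVec, Matrix.mulVec_sub, ← hv1, ← hv2]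
      funext i
      simp only [Pi.sub_apply, Pi.add_apply]
      linear_combination (-v1 i) * h3F
    have z0 : C.form z v = 0 := by
      rw [hzv, C.form_add_left, C.form_add_left, f20, ← hc, ← hr]
      linear_combination h0
    have z1 : C.form z v1 = 0 := by
      rw [hzv, C.form_add_left, C.form_add_left, f21, f11, f01]
      linear_combination h0
    have z2 : C.form z v2 = 0 := by
      rw [hzv, C.form_add_left, C.form_add_left, f22, f12, f02]
      linear_combination h0
    -- the orbit spans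
    have hli : LinearIndependent F ![v, v1, v2] := by
      rw [Fintype.linearIndependent_iff]
      intro a ha i
      simp only [Fin.sum_univ_three, Matrix.cons_val_zero, Matrix.cons_val_one, Matrix.cons_val] at ha
      have e : ∀ w, ((g.1 - 1) ^ 3) *ᵥ w = 0 := fun w => by rw [h3, Matrix.zero_mulVec]
      have p1 := congrArg (((g.1 - 1) ^ 2) *ᵥ ·) ha
      have q1 : ((g.1 - 1) ^ 2) *ᵥ v1 = z := by
        have := e v
        rw [pow_succ, ← Matrix.mulVec_mulVec, Matrix.sub_mulVec, Matrix.one_mulVec, Matrix.mulVec_sub,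
          sub_eq_zero] at this
        exact this
      have q2 : ((g.1 - 1) ^ 2) *ᵥ v2 = z := by
        have := e v1
        rw [pow_succ, ← Matrix.mulVec_mulVec, Matrix.sub_mulVec, Matrix.one_mulVec, Matrix.mulVec_sub,
          sub_eq_zero, q1] at this
        exact this
      simp only [Matrix.mulVec_add, Matrix.mulVec_smul, q1, q2, ← hz, Matrix.mulVec_zero] at p1
      rw [← add_smul, ← add_smul, smul_eq_zero] at p1
      have s0 : a 0 + a 1 + a 2 = 0 := p1.resolve_right hv
      have p2 := congrArg ((g.1 - 1) *ᵥ ·) ha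
      simp only [Matrix.mulVec_add, Matrix.mulVec_smul, Matrix.mulVec_zero, Matrix.sub_mulVec, Matrix.one_mulVec,
        ← hv1, ← hv2, hgv2] at p2
      have e1 : a 1 + 2 * a 2 = 0 := by
        have hcomb : (a 1 + 2 * a 2) • z = 0 := by
          funext i
          have hi := congrFun p2 i
          simp only [Pi.add_apply, Pi.sub_apply, Pi.smul_apply, smul_eq_mul, Pi.zero_apply] at hi
          simp only [hzv, Pi.add_apply, Pi.smul_apply, smul_eq_mul, Pi.zero_apply]
          linear_combination hi - (v1 i - v i) * s0 + (a 1 * v1 i + a 2 * (v1 i + v2 i)) * h3F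
        exact (smul_eq_zero.1 hcomb).resolve_right hv
      -- bring back to the first coordinate
      have e2 : a 1 = a 2 := by linear_combination e1 - a 2 * h3F
      have e0 : a 0 = a 2 := by linear_combination s0 - e2 - a 2 * h3F
      rw [e2, e0, ← smul_add, ← smul_add, smul_eq_zero] at ha
      have hsum : v + v1 + v2 ≠ 0 := fun h => hv (by rw [hzv, ← h]; abel)
      have a2 := ha.resolve_right hsum
      fin_cases i <;> simp [e0, e2, a2]
    have hspan := hli.span_eq_top_of_card_eq_finrank (by simp)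
    refine C.eq_zero_of_form fun w => ?_
    obtain ⟨a, rfl⟩ := (Submodule.mem_span_range_iff_exists_fun F).1 (hspan.ge (Submodule.mem_top (x := w)))
    simp [Fin.sum_univ_three, C.form_add_right, C.form_smul_right, z0, z1, z2]
  set w := r • v + C.bar c • v1 + c • v2 with hw
  have gw : g.1 *ᵥ w = r • v1 + C.bar c • v2 + c • v := by
    simp [hw, Matrix.mulVec_add, Matrix.mulVec_smul, ← hv1, ← hv2, hgv2]
  have hww : C.form w w = ε ^ 3 := by
    simp only [hw, C.form_add_left, C.form_add_right, C.form_smul_left, C.form_smul_right, hrb, C.bar_bar,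
      ← hr, ← hc, f01, f11, f22, f21, f12, f20, f02, hε]
    linear_combination (-(r ^ 2 * c) - r ^ 2 * C.bar c - r * c ^ 2 - r * C.bar c ^ 2 - c ^ 2 * C.bar c
      - c * C.bar c ^ 2) * h3F
  have hgww : C.form (g.1 *ᵥ w) w = 0 := by
    rw [gw]
    simp only [hw, C.form_add_left, C.form_add_right, C.form_smul_left, C.form_smul_right, hrb, C.bar_bar,
      ← hr, ← hc, f01, f11, f22, f21, f12, f20, f02]
    linear_combination (r ^ 2 * c + r * C.bar c ^ 2 + c ^ 2 * C.bar c) * h3F
  obtain ⟨s, hs⟩ := C.exists_norm (c := (ε ^ 3)⁻¹) (by rw [map_inv₀, map_pow, hεb])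
  have hn0 : C.form (s • w) (s • w) = 1 := by
    rw [C.form_smul_left, C.form_smul_right, ← mul_assoc, hs, hww, inv_mul_cancel₀ (pow_ne_zero 3 hε0)]
  have hn1 : C.form (g.1 *ᵥ (s • w)) (s • w) = 0 := by
    rw [Matrix.mulVec_smul, C.form_smul_left, C.form_smul_right, hgww, mul_zero, mul_zero]
  set t0 := s • w with ht0
  set t1 := g.1 *ᵥ t0 with ht1
  set t2 := g.1 *ᵥ t1 with ht2
  have f11' : C.form t1 t1 = 1 := (hg t0 t0).trans hn0
  have f21' : C.form t2 t1 = 0 := (hg t1 t0).trans hn1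
  have f20' : C.form t2 t0 = 0 := by
    rw [← hg t2 t0, hg3 t0, ← ht1, ← C.bar_form, hn1, map_zero]
  have f22' : C.form t2 t2 = 1 := (hg t1 t1).trans f11'
  refine ⟨![t0, t1, t2], fun i j => ?_, rfl, rfl, hg3 t0⟩
  fin_cases i <;> fin_cases j <;>
    simp [hn0, hn1, f11', f21', f20', C.form_swap_zero hn1, C.form_swap_zero f21', C.form_swap_zero f20',
      f22']

include C in
/-- Regular unipotent unitary elements are conjugate. -/
theorem regular_conj {g h : GL (Fin 3) F} (hg : ∀ u v, C.form (g.1 *ᵥ u) (g.1 *ᵥ v) = C.form u v)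
    (hh : ∀ u v, C.form (h.1 *ᵥ u) (h.1 *ᵥ v) = C.form u v) (g3 : (g.1 - 1) ^ 3 = 0) (g2 : (g.1 - 1) ^ 2 ≠ 0)
    (h3 : (h.1 - 1) ^ 3 = 0) (h2 : (h.1 - 1) ^ 2 ≠ 0) :
    ∃ A : ↥(Cfsg.GU 3 F q), ∀ x, A.1.1 *ᵥ (h.1 *ᵥ x) = g.1 *ᵥ (A.1.1 *ᵥ x) := by
  obtain ⟨t, ht, t0, t1, t2⟩ := exists_orthonormal_orbit C hg g3 g2
  obtain ⟨s, hs, s0, s1, s2⟩ := exists_orthonormal_orbit C hh h3 h2
  have hli : ∀ t : Fin 3 → V3, (∀ i j, C.form (t i) (t j) = if i = j then 1 else 0) → LinearIndependent F t := by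
    intro t ht
    rw [Fintype.linearIndependent_iff]
    intro a ha i
    have := congrArg (fun w => C.form w (t i)) ha
    simpa [C.form_sum_left, C.form_smul_left, ht, C.form_zero_left] using this
  obtain ⟨A, hA⟩ := CfsgLib.Classical.HermFrames.exists_move_tuple C (hli s hs) (hli t ht)
    (fun i j => by rw [hs, ht])
  refine ⟨A, fun x => ?_⟩
  obtain ⟨a, rfl⟩ := (Submodule.mem_span_range_iff_exists_fun F).1
    (((hli s hs).span_eq_top_of_card_eq_finrank (by simp)).ge (Submodule.mem_top (x := x)))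
  simp only [Fin.sum_univ_three, Matrix.mulVec_add, Matrix.mulVec_smul, s0, s1, s2, hA, t0, t1, t2]

end Jordan

section Eigen

variable [CharP F 3]

include C in
/-- Without anisotropic eigenvectors, an element with an eigenvalue is regular unipotent. -/
theorem regular_of_eigen (hF : Fintype.card F = q ^ 2) {g : GL (Fin 3) F} (hdet : g.1.det = 1)
    (hg : ∀ u v, C.form (g.1 *ᵥ u) (g.1 *ᵥ v) = C.form u v)
    (hno : ¬ HasPoint C g.1) {v : V3} {lam : F} (hv : v ≠ 0) (hgv : g.1 *ᵥ v = lam • v) :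
    (g.1 - 1) ^ 3 = 0 ∧ (g.1 - 1) ^ 2 ≠ 0 := by
  obtain ⟨ζ, hζ⟩ := C.exists_norm (c := (-1 : F)) (by rw [map_neg, map_one])
  obtain ⟨k, hk⟩ := C.exists_trace (c := (1 : F)) (map_one _)
  have hvv : C.form v v = 0 := by
    by_contra h
    exact hno ⟨v, lam, h, hgv⟩
  -- move the vector to a standard one
  set u : V3 := ![1, ζ, 0] with hu
  have huu : C.form u u = 0 := by simp [UCtx.form, hu, Fin.sum_univ_three, hζ]
  obtain ⟨A, hA⟩ := CfsgLib.Classical.HermFrames.exists_move_tuple C (t := ![u]) (t' := ![v])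
    (linearIndependent_unique_iff.2 (show u ≠ 0 from fun h => by simpa [hu] using congrFun h 0))
    (linearIndependent_unique_iff.2 hv) (fun i j => by fin_cases i; fin_cases j; simpa using huu.trans hvv.symm)
  set G : GL (Fin 3) F := A.1⁻¹ * g * A.1 with hG
  have hGf : ∀ a b, C.form (G.1 *ᵥ a) (G.1 *ᵥ b) = C.form a b :=
    (CfsgLib.Classical.gu_mem_iff C).1
      (mul_mem (mul_mem (inv_mem A.2) ((CfsgLib.Classical.gu_mem_iff C).2 hg)) A.2)
  have hGu : G.1 *ᵥ u = lam • u := by
    rw [hG, Units.val_mul, Units.val_mul, ← Matrix.mulVec_mulVec, ← Matrix.mulVec_mulVec,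
      show A.1.1 *ᵥ u = v from hA 0, hgv, Matrix.mulVec_smul, ← show A.1.1 *ᵥ u = v from hA 0,
      Matrix.mulVec_mulVec, Units.inv_mul, Matrix.one_mulVec]
  have hnoG : ¬ HasPoint C G.1 := fun h => hno (hasPoint_conj C A h)
  have hlam : lam ≠ 0 := by
    rintro rfl
    have h := congrArg ((G⁻¹).1 *ᵥ ·) hGu
    simp only [Matrix.mulVec_mulVec, Units.inv_mul, Matrix.one_mulVec, zero_smul, Matrix.mulVec_zero] at h
    exact one_ne_zero (congrFun h 0)
  set e : V3 := Pi.single 2 1 with he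
  set w : V3 := ![k, -ζ * (1 - k), 0] with hw
  have hee : C.form e e = 1 := by simp [UCtx.form, he, Fin.sum_univ_three]
  have heu : C.form e u = 0 := by simp [UCtx.form, he, hu, Fin.sum_univ_three]
  have hwe : C.form w e = 0 := by simp [UCtx.form, he, hw, Fin.sum_univ_three]
  have hwu : C.form w u = 1 := by
    simp [UCtx.form, hw, hu, Fin.sum_univ_three]
    linear_combination -(1 - k) * hζ
  have hperp : ∀ y, C.form y u = 0 → y = y 0 • u + y 2 • e := by
    intro y hy
    simp [UCtx.form, hu, Fin.sum_univ_three] at hy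
    funext j
    fin_cases j <;> simp [hu, he]
    linear_combination -ζ * hy + y 1 * hζ
  set a := (G.1 *ᵥ e) 0
  set ν := (G.1 *ᵥ e) 2
  have hGe : G.1 *ᵥ e = a • u + ν • e := hperp _ (by
    have h := hGf e u
    rw [hGu, C.form_smul_right, heu] at h
    exact (mul_eq_zero.1 h).resolve_left fun h' => hlam (C.bar.injective (by rw [h', map_zero])))
  have hνn : ν * C.bar ν = 1 := by
    have h := hGf e e
    rw [hGe] at h
    simpa [C.form_add_left, C.form_add_right, C.form_smul_left, C.form_smul_right, huu, heu,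
      C.form_swap_zero heu, hee] using h
  have hνl : ν = lam := by
    by_contra hne
    have hd : ν - lam ≠ 0 := sub_ne_zero.2 hne
    refine hnoG ⟨e + (a / (ν - lam)) • u, ν, ?_, ?_⟩
    · simp [C.form_add_left, C.form_add_right, C.form_smul_left, C.form_smul_right, huu, heu,
        C.form_swap_zero heu, hee]
    · funext j
      rw [Matrix.mulVec_add, Matrix.mulVec_smul, hGu, hGe]
      simp only [Pi.add_apply, Pi.smul_apply, smul_eq_mul]
      field_simp
      ring
  rw [hνl] at hGe hνn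
  set N : M3 := G.1 - lam • 1 with hN
  have hNm : ∀ x, N *ᵥ x = G.1 *ᵥ x - lam • x := fun x => by
    rw [hN, Matrix.sub_mulVec, Matrix.smul_mulVec, Matrix.one_mulVec]
  have hNu : N *ᵥ u = 0 := by rw [hNm, hGu, sub_self]
  have hNe : N *ᵥ e = a • u := by rw [hNm, hGe, add_sub_cancel_right]
  have hNperp : ∀ x, C.form (N *ᵥ x) u = 0 := by
    intro x
    have h := hGf x u
    rw [hGu, C.form_smul_right] at h
    rw [hNm, C.form_sub_left, C.form_smul_left]
    linear_combination lam * h - C.form (G.1 *ᵥ x) u * hνn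
  have hN3 : N ^ 3 = 0 := Matrix.ext_iff_mulVec.2 fun x => by
    rw [pow_succ, sq, ← Matrix.mulVec_mulVec, hperp _ (hNperp x), ← Matrix.mulVec_mulVec, Matrix.mulVec_add,
      Matrix.mulVec_smul, Matrix.mulVec_smul, hNu, hNe, smul_zero, zero_add, Matrix.mulVec_smul,
      Matrix.mulVec_smul, hNu, smul_zero, smul_zero, Matrix.zero_mulVec]
  -- the eigenvalue is one
  have hG3 : G.1 ^ 3 = lam ^ 3 • (1 : M3) := by
    have h3F : (3 : F) = 0 := three_zero
    have e3 : N ^ 3 = G.1 ^ 3 - lam ^ 3 • (1 : M3) + (3 : F) • (lam ^ 2 • G.1 - lam • (G.1 * G.1)) := by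
      rw [hN, pow_succ, sq, pow_succ (G.1), sq]
      simp only [sub_mul, mul_sub, smul_mul_assoc, mul_smul_comm, one_mul, mul_one, smul_sub, smul_smul]
      module
    rw [hN3, h3F, zero_smul, add_zero, eq_comm, sub_eq_zero] at e3
    exact e3
  have hGdet : G.1.det = 1 := by
    rw [hG, Units.val_mul, Units.val_mul, Matrix.det_mul, Matrix.det_mul, hdet, mul_one, ← Matrix.det_mul,
      Units.inv_mul, Matrix.det_one]
  have hl1 : lam = 1 := by
    have h := congrArg Matrix.det hG3
    rw [Matrix.det_pow, hGdet, one_pow, Matrix.det_smul, Matrix.det_one, mul_one, Fintype.card_fin] at h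
    have inj := frobenius_inj F 3
    have h1 : lam ^ 3 = 1 := inj (by rw [frobenius_def, frobenius_def, ← h, one_pow])
    exact inj (by rw [frobenius_def, frobenius_def, h1, one_pow])
  subst hl1
  have hN1 : N = G.1 - 1 := by rw [hN, one_smul]
  have hN2 : N ^ 2 ≠ 0 := by
    intro h
    have ha : a ≠ 0 := fun ha0 => hnoG ⟨e, 1, by rw [hee]; exact one_ne_zero, by
      rw [hGe, ha0, zero_smul, zero_add]⟩
    set b := N *ᵥ w
    have hb := hperp b (hNperp w)
    have hc : b 2 = 0 := by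
      have h' := congrArg (· *ᵥ w) h
      simp only [Matrix.zero_mulVec, sq, ← Matrix.mulVec_mulVec] at h'
      rw [show N *ᵥ w = b from rfl, hb, Matrix.mulVec_add, Matrix.mulVec_smul, Matrix.mulVec_smul, hNu, hNe,
        smul_zero, zero_add, smul_smul, smul_eq_zero] at h'
      exact (mul_eq_zero.1 (h'.resolve_right fun hu0 => one_ne_zero (congrFun hu0 0))).resolve_right ha
    rw [hc, zero_smul, add_zero] at hb
    have hGw : G.1 *ᵥ w = b 0 • u + w := by
      rw [← hb, show b = G.1 *ᵥ w - (1 : F) • w from hNm w, one_smul, sub_add_cancel]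
    have h' := hGf w e
    rw [hGw, hGe] at h'
    simp [C.form_add_left, C.form_add_right, C.form_smul_left, C.form_smul_right, huu, C.form_swap_zero heu,
      hwu, hwe] at h'
    exact ha h'
  have hback : ∀ m : ℕ, (g.1 - 1) ^ m = A.1.1 * (G.1 - 1) ^ m * (A.1⁻¹).1 := by
    have h1 : g.1 - 1 = A.1.1 * (G.1 - 1) * (A.1⁻¹).1 := by
      rw [hG, Units.val_mul, Units.val_mul, mul_sub, sub_mul, mul_one, Units.mul_inv]
      simp only [← mul_assoc, Units.mul_inv, one_mul]
      rw [mul_assoc, Units.mul_inv, mul_one]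
    intro m
    induction m with
    | zero => simp
    | succ m ih =>
      rw [pow_succ, pow_succ, ih, h1]
      simp only [mul_assoc]
      rw [← mul_assoc (A.1⁻¹).1 A.1.1, Units.inv_mul, one_mul]
  rw [hN1] at hN2 hN3
  refine ⟨by rw [hback, hN3, mul_zero, zero_mul], fun h => hN2 ?_⟩
  rw [hback] at h
  have := congrArg (fun X => (A.1⁻¹).1 * X * A.1.1) h
  simpa [← mul_assoc] using this

end Eigen

section Model

variable [CharP F 3]

/-- Elements moving a family of matrices into itself. -/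
def normStab {ι : Type*} (φ : ι → M3) : Subgroup ↥(Cfsg.SU 3 F q) where
  carrier := {A | (∀ e, ∃ e', A.1.1 * φ e = φ e' * A.1.1) ∧ ∀ e, ∃ e', (A⁻¹).1.1 * φ e = φ e' * (A⁻¹).1.1}
  mul_mem' {A B} ha hb := by
    refine ⟨fun e => ?_, fun e => ?_⟩
    · obtain ⟨e', he'⟩ := hb.1 e
      obtain ⟨e'', he''⟩ := ha.1 e'
      refine ⟨e'', ?_⟩
      show A.1.1 * B.1.1 * φ e = φ e'' * (A.1.1 * B.1.1)
      rw [mul_assoc, he', ← mul_assoc, he'', mul_assoc]
    · obtain ⟨e', he'⟩ := ha.2 e
      obtain ⟨e'', he''⟩ := hb.2 e'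
      refine ⟨e'', ?_⟩
      rw [_root_.mul_inv_rev]
      show (B⁻¹).1.1 * (A⁻¹).1.1 * φ e = φ e'' * ((B⁻¹).1.1 * (A⁻¹).1.1)
      rw [mul_assoc, he', ← mul_assoc, he'', mul_assoc]
  one_mem' := ⟨fun e => ⟨e, by
      show (1 : M3) * φ e = φ e * 1
      rw [one_mul, mul_one]⟩, fun e => ⟨e, by
      rw [inv_one]
      show (1 : M3) * φ e = φ e * 1
      rw [one_mul, mul_one]⟩⟩
  inv_mem' {A} ha := ⟨ha.2, by rw [inv_inv]; exact ha.1⟩

omit [Fintype F] [CharP F 3] in
theorem mem_normStab {ι : Type*} [Finite ι] {φ : ι → M3} (hφ : Function.Injective φ) {A : ↥(Cfsg.SU 3 F q)}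
    (h : ∀ e, ∃ e', A.1.1 * φ e = φ e' * A.1.1) : A ∈ normStab φ := by
  refine ⟨h, fun e => ?_⟩
  choose f hf using h
  have hA : (A⁻¹).1.1 * A.1.1 = 1 := show ((A⁻¹ * A : ↥(Cfsg.SU 3 F q))).1.1 = 1 by rw [inv_mul_cancel]; rfl
  have hA' : A.1.1 * (A⁻¹).1.1 = 1 := show ((A * A⁻¹ : ↥(Cfsg.SU 3 F q))).1.1 = 1 by rw [mul_inv_cancel]; rfl
  have hinj : Function.Injective f := fun a b hab => hφ (by
    have : A.1.1 * φ a = A.1.1 * φ b := by rw [hf, hf, hab]
    have := congrArg ((A⁻¹).1.1 * ·) this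
    simpa only [← mul_assoc, hA, one_mul] using this)
  obtain ⟨e', rfl⟩ := Finite.surjective_of_injective hinj e
  refine ⟨e', ?_⟩
  calc (A⁻¹).1.1 * φ (f e') = (A⁻¹).1.1 * (φ (f e') * A.1.1) * (A⁻¹).1.1 := by
        rw [mul_assoc, mul_assoc, hA', mul_one]
    _ = φ e' * (A⁻¹).1.1 := by rw [← hf, ← mul_assoc, hA, one_mul]

variable {E : Type*} [Field E] [Finite E] [Algebra F E]

/-- A self adjoint embedded cubic field. -/
structure SelfAdj (τ : RingAut E) (φ : E →ₐ[F] M3) : Prop where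
  adj : ∀ e x y, C.form (φ e *ᵥ x) y = C.form x (φ (τ e) *ᵥ y)

include C in
omit [Fintype F] [CharP F 3] in
/-- A cyclic vector with the trace form. -/
theorem exists_trace_vector [Finite F] (hd : finrank F E = 3) {Q : ℕ} (C' : UCtx E Q)
    (htr : ∀ e, Algebra.trace F E (C'.bar e) = C.bar (Algebra.trace F E e))
    {φ : E →ₐ[F] M3} (hφ : SelfAdj C C'.bar φ) :
    ∃ v : V3, Function.Bijective (fun e => φ e *ᵥ v) ∧
      ∀ e e', C.form (φ e *ᵥ v) (φ e' *ᵥ v) = Algebra.trace F E (e * C'.bar e') := by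
  classical
  haveI : FiniteDimensional F E := Module.Finite.of_finite
  set v : V3 := Pi.single 0 1
  have hv0 : v ≠ 0 := fun h => by simpa [v] using congrFun h 0
  let ev : V3 → E →ₗ[F] V3 := fun w =>
    { toFun := fun e => φ e *ᵥ w
      map_add' := fun a b => by rw [map_add, Matrix.add_mulVec]
      map_smul' := fun c a => by rw [map_smul, Matrix.smul_mulVec, RingHom.id_apply] }
  have hbij : ∀ w, w ≠ 0 → Function.Bijective (ev w) := by
    intro w hw
    have hinj : Function.Injective (ev w) := (injective_iff_map_eq_zero _).2 fun e he => by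
      by_contra he0
      apply hw
      have := congrArg (φ e⁻¹ *ᵥ ·) (show φ e *ᵥ w = 0 from he)
      simpa [Matrix.mulVec_mulVec, ← map_mul, inv_mul_cancel₀ he0] using this
    exact ⟨hinj, (LinearMap.injective_iff_surjective_of_finrank_eq_finrank (by rw [hd]; simp)).1 hinj⟩
  let L : E →ₗ[F] F :=
    { toFun := fun e => C.form (φ e *ᵥ v) v
      map_add' := fun a b => by rw [map_add, Matrix.add_mulVec, C.form_add_left]
      map_smul' := fun c a => by rw [map_smul, Matrix.smul_mulVec, C.form_smul_left]; rfl }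
  have hnd := traceForm_nondegenerate F E
  set c := ((Algebra.traceForm F E).toDual hnd).symm L with hc
  have hL : ∀ e, C.form (φ e *ᵥ v) v = Algebra.trace F E (c * e) := by
    intro e
    have h := congrArg (fun T : Module.Dual F E => T e) (LinearEquiv.apply_symm_apply ((Algebra.traceForm F E).toDual hnd) L)
    simp only [LinearMap.BilinForm.toDual_def, Algebra.traceForm_apply] at h
    exact h.symm
  have hc0 : c ≠ 0 := by
    intro h0
    obtain ⟨y, hy⟩ := C.exists_form_eq_one hv0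
    obtain ⟨e, rfl⟩ := (hbij v hv0).2 y
    rw [show ev v e = φ e *ᵥ v from rfl, hL, h0, zero_mul, map_zero] at hy
    exact zero_ne_one hy
  have hcb : C'.bar c = c := by
    rw [← sub_eq_zero]
    refine hnd.1 _ fun e => ?_
    rw [Algebra.traceForm_apply, sub_mul, map_sub, sub_eq_zero, ← hL]
    have h1 : C.form (φ e *ᵥ v) v = C.bar (C.form (φ (C'.bar e) *ᵥ v) v) := by rw [C.bar_form, ← hφ.adj]
    rw [h1, hL, ← htr, map_mul C'.bar, C'.bar_bar]
  obtain ⟨w, hw⟩ := C'.exists_norm (c := c⁻¹) (by rw [map_inv₀, hcb])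
  have hw0 : w ≠ 0 := fun h => by rw [h, zero_mul, eq_comm, inv_eq_zero] at hw; exact hc0 hw
  refine ⟨φ w *ᵥ v, hbij _ (fun h => ?_), fun e e' => ?_⟩
  · exact hw0 ((hbij v hv0).1 (show ev v w = ev v 0 by rw [map_zero]; exact h))
  · rw [Matrix.mulVec_mulVec, Matrix.mulVec_mulVec, ← map_mul, ← map_mul,
      show φ (e' * w) = φ (C'.bar (C'.bar (e' * w))) by rw [C'.bar_bar], ← hφ.adj, Matrix.mulVec_mulVec,
      ← map_mul, hL, map_mul C'.bar]
    congr 1
    have : c * (w * C'.bar w) = 1 := by rw [hw, mul_inv_cancel₀ hc0]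
    linear_combination (e * C'.bar e') * this

end Model

/-- `PSU` in dimension three is covered in characteristic three. -/
theorem covers_psu_three {F : Type} [Field F] [Fintype F] [CharP F 3] {q : ℕ} (hF : Fintype.card F = q ^ 2) :
    Covers (Cfsg.PSU 3 F q) := by
  classical
  obtain ⟨C⟩ := CfsgLib.Classical.uctx_exists hF
  haveI : Fact (Nat.Prime 3) := ⟨Nat.prime_three⟩
  let E := FiniteField.Extension F 3 3
  haveI : Fintype E := Fintype.ofFinite E
  have hd : finrank F E = 3 := FiniteField.finrank_extension F 3 3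
  haveI : FiniteDimensional F E := Module.Finite.of_finite
  have hE : Fintype.card E = (q ^ 3) ^ 2 := by
    rw [Module.card_eq_pow_finrank (K := F) (V := E), hd, hF, ← pow_mul, ← pow_mul]
  obtain ⟨C'⟩ := CfsgLib.Classical.uctx_exists hE
  have hbar : ∀ c : F, C'.bar (algebraMap F E c) = algebraMap F E (C.bar c) := by
    intro c
    rw [C'.bar_eq, ← map_pow, C.bar_eq]
    congr 1
    rw [show q ^ 3 = q ^ 2 * q by ring, pow_mul, ← hF, FiniteField.pow_card]
  have htr : ∀ e, Algebra.trace F E (C'.bar e) = C.bar (Algebra.trace F E e) := by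
    intro e
    apply (algebraMap F E).injective
    rw [← hbar, FiniteField.algebraMap_trace_eq_sum_pow, FiniteField.algebraMap_trace_eq_sum_pow, map_sum]
    exact Finset.sum_congr rfl fun i _ => (map_pow C'.bar _ _).symm
  -- the model
  let B : E →ₛₗ[(C.bar : F →+* F)] E →ₗ[F] F := LinearMap.mk₂'ₛₗ (C.bar : F →+* F) (RingHom.id F)
    (fun x y => Algebra.trace F E (y * C'.bar x))
    (fun a b c => by rw [map_add, mul_add, map_add])
    (fun r a b => by
      rw [Algebra.smul_def, map_mul C'.bar, hbar, mul_left_comm, ← Algebra.smul_def, map_smul]; rfl)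
    (fun a b c => by rw [add_mul, map_add])
    (fun r a b => by rw [smul_mul_assoc, map_smul]; rfl)
  have hBa : ∀ x y, B x y = Algebra.trace F E (y * C'.bar x) := fun x y => rfl
  have hBs : B.IsSymm := ⟨fun x y => by
    show C.bar (B x y) = B y x
    rw [hBa, hBa, ← htr, map_mul C'.bar, C'.bar_bar, mul_comm]⟩
  have hnd := traceForm_nondegenerate F E
  have hBn : B.Nondegenerate := by
    refine ⟨fun x hx => ?_, fun y hy => ?_⟩
    · refine C'.bar.injective ?_
      rw [map_zero]
      refine hnd.1 _ fun y => ?_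
      rw [Algebra.traceForm_apply, mul_comm]
      exact hx y
    · refine hnd.1 _ fun x => ?_
      have := hy (C'.bar x)
      rw [hBa, C'.bar_bar] at this
      exact this
  obtain ⟨b, hb⟩ := CfsgLib.Classical.HermFrames.exists_orth (CfsgLib.Classical.HermFrames.bar_ne_id C)
    C.bar_bar hBs hBn 3 (by rw [hd])
  have hbli := CfsgLib.Classical.HermFrames.linearIndependent_of_orth hb
  let bb : Basis (Fin 3) F E := basisOfLinearIndependentOfCardEqFinrank hbli (by rw [hd]; simp)
  let Θ : (Fin 3 → F) ≃ₗ[F] E := bb.equivFun.symm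
  have hbbv : ∀ i, bb i = b i := fun i => by simp [bb]
  have hΘ : ∀ x y, C.form x y = Algebra.trace F E (Θ x * C'.bar (Θ y)) := by
    intro x y
    rw [← hBa]
    simp only [Θ, Basis.equivFun_symm_apply, hbbv, map_sum, LinearMap.sum_apply, LinearMap.map_smulₛₗ,
      LinearMap.smul_apply, map_smul, hb, UCtx.form]
    simp [Finset.sum_ite_eq', Finset.mul_sum, mul_comm]
  let φ : E →ₐ[F] Matrix (Fin 3) (Fin 3) F :=
    (LinearMap.toMatrixAlgEquiv'.toAlgHom.comp (Θ.symm.conjAlgEquiv F).toAlgHom).comp (Algebra.lmul F E)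
  have hφ : ∀ e x, Θ (φ e *ᵥ x) = e * Θ x := by
    intro e x
    show Θ (LinearMap.toMatrix' ((Θ.symm : E →ₗ[F] (Fin 3 → F)) ∘ₗ LinearMap.mulLeft F e ∘ₗ
      (Θ : (Fin 3 → F) →ₗ[F] E)) *ᵥ x) = _
    rw [LinearMap.toMatrix'_mulVec]
    simp
  have hsa : SelfAdj C C'.bar φ := ⟨fun e x y => by
    rw [hΘ, hΘ, hφ, hφ, map_mul C'.bar, C'.bar_bar]; congr 1; ring⟩
  have hφinj : Function.Injective φ := φ.toRingHom.injective
  -- the Frobenius isometry
  let σ : E →ₐ[F] E := FiniteField.frobeniusAlgHom F E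
  have hσb : Function.Bijective σ := AlgHom.bijective σ
  let σe : E ≃ₐ[F] E := AlgEquiv.ofBijective σ hσb
  have hσ3 : ∀ e, σ (σ (σ e)) = e := by
    intro e
    simp only [σ, FiniteField.coe_frobeniusAlgHom, ← pow_mul]
    rw [show Fintype.card F * Fintype.card F * Fintype.card F = Fintype.card E by rw [hE, hF]; ring,
      FiniteField.pow_card]
  let Sm : Matrix (Fin 3) (Fin 3) F :=
    LinearMap.toMatrix' ((Θ.symm : E →ₗ[F] (Fin 3 → F)) ∘ₗ σ.toLinearMap ∘ₗ (Θ : (Fin 3 → F) →ₗ[F] E))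
  have hS : ∀ x, Θ (Sm *ᵥ x) = σ (Θ x) := fun x => by simp [Sm, LinearMap.toMatrix'_mulVec]
  have hSf : ∀ x y, C.form (Sm *ᵥ x) (Sm *ᵥ y) = C.form x y := by
    intro x y
    rw [hΘ, hΘ, hS, hS]
    have h1 : C'.bar (σ (Θ y)) = σ (C'.bar (Θ y)) := by
      simp only [σ, FiniteField.coe_frobeniusAlgHom, map_pow]
    rw [h1, ← map_mul]
    exact (Algebra.trace_eq_of_algEquiv σe _)
  have hSd : Sm.det = 1 := by
    have h : Sm ^ 3 = 1 := Matrix.ext_iff_mulVec.2 fun x => Θ.injective (by
      rw [pow_succ, sq, ← Matrix.mulVec_mulVec, ← Matrix.mulVec_mulVec, hS, hS, hS, hσ3, Matrix.one_mulVec])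
    have h' := congrArg Matrix.det h
    rw [Matrix.det_pow, Matrix.det_one] at h'
    exact frobenius_inj F 3 (by rw [frobenius_def, frobenius_def, h', one_pow])
  let S : ↥(Cfsg.SU 3 F q) := C.mkSU Sm hSd hSf
  have hSmem : S ∈ normStab (q := q) φ := mem_normStab hφinj fun e => ⟨σ e, Matrix.ext_iff_mulVec.2 fun x =>
    Θ.injective (by
      show Θ ((Sm * φ e) *ᵥ x) = Θ ((φ (σ e) * Sm) *ᵥ x)
      rw [← Matrix.mulVec_mulVec, ← Matrix.mulVec_mulVec, hS, hφ, hφ, hS, map_mul])⟩
  have hS3 : (Sm - 1) ^ 3 = 0 ∧ (Sm - 1) ^ 2 ≠ 0 := by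
    have hSub : ∀ x, Θ ((Sm - 1) *ᵥ x) = σ (Θ x) - Θ x := fun x => by
      rw [Matrix.sub_mulVec, Matrix.one_mulVec, map_sub, hS]
    have h3E : (3 : E) = 0 := by
      rw [← map_ofNat (algebraMap F E) 3, show (3 : F) = 0 from three_zero, map_zero]
    refine ⟨Matrix.ext_iff_mulVec.2 fun x => Θ.injective ?_, fun h => ?_⟩
    · rw [pow_succ, sq, ← Matrix.mulVec_mulVec, ← Matrix.mulVec_mulVec, hSub, hSub, hSub, Matrix.zero_mulVec,
        map_zero]
      simp only [map_sub, hσ3]
      linear_combination (σ (Θ x) - σ (σ (Θ x))) * h3E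
    · obtain ⟨e, he⟩ := Algebra.trace_surjective F E 1
      have h' := congrArg (fun X => Θ (X *ᵥ Θ.symm e)) h
      simp only [sq, ← Matrix.mulVec_mulVec, hSub, Matrix.zero_mulVec, map_zero, LinearEquiv.apply_symm_apply,
        map_sub] at h'
      have hs := FiniteField.algebraMap_trace_eq_sum_pow F E e
      rw [he, map_one, hd, Finset.sum_range_succ, Finset.sum_range_succ, Finset.sum_range_one,
        Nat.card_eq_fintype_card, pow_zero, pow_one, sq, pow_one, pow_mul] at hs
      simp only [σ, FiniteField.coe_frobeniusAlgHom] at h'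
      refine one_ne_zero (α := E) ?_
      rw [hs]
      linear_combination h' + (e ^ Fintype.card F) * h3E
  -- stabilisers
  let Pp : (Fin 3 → F) → Prop := fun x => x 1 = 0 ∧ x 2 = 0
  obtain ⟨δ, hδ0, hδ⟩ := C.exists_trace_zero
  obtain ⟨ζ, hζ⟩ := C.exists_norm (c := (-1 : F)) (by rw [map_neg, map_one])
  set u : Fin 3 → F := ![1, ζ, 0] with hu
  set e0 : Fin 3 → F := Pi.single 0 1 with he0
  have huu : C.form u u = 0 := by simp [UCtx.form, hu, Fin.sum_univ_three, hζ]
  have hζ0 : ζ ≠ 0 := fun h => by simp [h] at hζ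
  refine covers_quot (predStab 3 q Pp) (normStab φ) ?_ ?_ (fun A hA => ?_) (fun A hA => ?_) fun g => ?_
  · intro h
    have hmem : C.tv u huu δ hδ ∈ predStab 3 q Pp := by rw [h]; trivial
    have := ((hmem e0).2 (by simp [Pp, he0])).1
    simp [C.tv_mulVec, UCtx.form, hu, he0, Fin.sum_univ_three, hδ0, hζ0] at this
  · intro h
    set T := C.tv u huu δ hδ
    have hmem : T ∈ normStab (q := q) φ := by rw [h]; trivial
    have hcomm : ∀ e, C.form (φ e *ᵥ u) u = 0 := by
      intro e
      obtain ⟨e', he'⟩ := hmem.1 e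
      obtain ⟨x, hx0, hxu, hxe⟩ := C.exists_orth_two (n := 3) le_rfl u (φ (C'.bar e) *ᵥ u)
      rw [← hsa.adj] at hxe
      have hx : φ e *ᵥ x = φ e' *ᵥ x := by
        have := congrArg (· *ᵥ x) he'
        simpa [← Matrix.mulVec_mulVec, T, C.tv_mulVec, hxu, hxe] using this
      have hee : e = e' := by
        by_contra hne
        have := congrArg (φ (e - e')⁻¹ *ᵥ ·) (show φ (e - e') *ᵥ x = 0 by
          rw [map_sub, Matrix.sub_mulVec, hx, sub_self])
        rw [Matrix.mulVec_mulVec, ← map_mul, inv_mul_cancel₀ (sub_ne_zero.2 hne), map_one, Matrix.one_mulVec,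
          Matrix.mulVec_zero] at this
        exact hx0 this
      subst hee
      have := congrArg (· *ᵥ u) he'
      simp only [← Matrix.mulVec_mulVec, T, C.tv_mulVec, huu, mul_zero, zero_smul, add_zero] at this
      rw [add_eq_left, smul_eq_zero, mul_eq_zero] at this
      exact (this.resolve_right fun h0 => by simpa [hu] using congrFun h0 0).resolve_left hδ0
    obtain ⟨v0, hv0, -⟩ := exists_trace_vector C hd C' htr hsa
    have hu0 : u ≠ 0 := fun h0 => by simpa [hu] using congrFun h0 0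
    obtain ⟨y, hy⟩ := C.exists_form_eq_one hu0
    obtain ⟨e1, he1⟩ : ∃ e, φ e *ᵥ u = y := by
      obtain ⟨a, ha⟩ := hv0.2 u
      obtain ⟨b, hb⟩ := hv0.2 y
      have ha0 : a ≠ 0 := fun h0 => hu0 (by rw [← ha]; simp [h0])
      refine ⟨b / a, ?_⟩
      rw [← ha, ← hb]
      show φ (b / a) *ᵥ (φ a *ᵥ v0) = _
      rw [Matrix.mulVec_mulVec, ← map_mul, div_mul_cancel₀ _ ha0]
    rw [← he1, hcomm] at hy
    exact zero_ne_one hy
  · obtain ⟨c, hc, -⟩ := C.scalar_of_mem_center (by norm_num) hA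
    refine mem_predStab fun x hx => ?_
    have h1 := congrArg (fun g : ↥(Cfsg.GU 3 F q) => g.1.1 *ᵥ x) hc
    simp only [C.gscal_val, Matrix.smul_mulVec, Matrix.one_mulVec] at h1
    rw [show A.1.1 *ᵥ x = c.1.1 • x from h1]
    exact ⟨by simp [hx.1], by simp [hx.2]⟩
  · obtain ⟨c, hc, -⟩ := C.scalar_of_mem_center (by norm_num) hA
    refine mem_normStab hφinj fun e => ⟨e, ?_⟩
    have h1 := congrArg (fun g : ↥(Cfsg.GU 3 F q) => g.1.1) hc
    simp only [C.gscal_val] at h1
    rw [show A.1.1 = c.1.1 • (1 : Matrix (Fin 3) (Fin 3) F) from h1]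
    simp
  -- scaling into the special group
  have scale : ∀ A : ↥(Cfsg.GU 3 F q), ∃ (A' : ↥(Cfsg.SU 3 F q)) (c : F), c ≠ 0 ∧ A'.1.1 = c • A.1.1 := by
    intro A
    have hd0 : A.1.1.det ≠ 0 := ((Matrix.isUnit_iff_isUnit_det _).1 A.1.isUnit).ne_zero
    obtain ⟨c, hc⟩ := (PerfectRing.bijective_frobenius (R := F) (p := 3)).2 A.1.1.det⁻¹
    replace hc : c ^ 3 = A.1.1.det⁻¹ := hc
    have hc0 : c ≠ 0 := fun h => inv_ne_zero hd0 (by rw [← hc, h]; simp)
    have hmat : A.1.1.transpose * A.1.1.map C.bar = 1 := by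
      refine Matrix.ext fun i j => ?_
      have h1 := form_gu C A (Pi.single i 1) (Pi.single j 1)
      simpa [UCtx.form, Matrix.mul_apply, Matrix.mulVec, dotProduct, Pi.single_apply, apply_ite C.bar,
        Matrix.one_apply, eq_comm] using h1
    have hdn : A.1.1.det * C.bar A.1.1.det = 1 := by
      have h2 := congrArg Matrix.det hmat
      rw [Matrix.det_mul, Matrix.det_transpose, Matrix.det_one] at h2
      rwa [show A.1.1.map C.bar = (C.bar : F →+* F).mapMatrix A.1.1 from rfl, ← RingHom.map_det] at h2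
    have hcn : c * C.bar c = 1 := frobenius_inj F 3 (by
      rw [frobenius_def, frobenius_def, mul_pow, ← map_pow, hc, map_inv₀, ← mul_inv, hdn, inv_one, one_pow])
    refine ⟨C.mkSU (c • A.1.1) (by rw [Matrix.det_smul, Fintype.card_fin, hc, inv_mul_cancel₀ hd0])
      (fun a b => by
        rw [Matrix.smul_mulVec, Matrix.smul_mulVec, C.form_smul_left, C.form_smul_right, form_gu C,
          ← mul_assoc, hcn, one_mul]), c, hc0, rfl⟩
  have hgu := C.form_su g
  let gl : GL (Fin 3) F := Matrix.SpecialLinearGroup.toGL g.1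
  by_cases hpt : HasPoint C gl.1
  · obtain ⟨v, μ, hvv, hgv⟩ := hpt
    obtain ⟨c, hc⟩ := C.exists_norm (c := (C.form v v)⁻¹) (by rw [map_inv₀, C.form_self_fixed])
    have hcv : C.form (c • v) (c • v) = 1 := by
      rw [C.form_smul_left, C.form_smul_right, ← mul_assoc, hc, inv_mul_cancel₀ hvv]
    have hv0 : c • v ≠ 0 := by
      intro h
      rw [h, C.form_zero_left] at hcv
      exact zero_ne_one hcv
    obtain ⟨A, hA⟩ := CfsgLib.Classical.HermFrames.exists_move_tuple C (t := ![e0]) (t' := ![c • v])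
      (linearIndependent_unique_iff.2 (show e0 ≠ 0 from fun h => by simpa [he0] using congrFun h 0))
      (linearIndependent_unique_iff.2 hv0)
      (fun i j => by fin_cases i; fin_cases j; simpa [UCtx.form, he0, Fin.sum_univ_three] using hcv.symm)
    obtain ⟨A', d, hd', hA'⟩ := scale A
    refine ⟨A'⁻¹, Or.inl (mem_predStab fun x hx => ?_)⟩
    have hxe : x = x 0 • e0 := funext fun j => by fin_cases j <;> simp [he0, hx.1, hx.2]
    have hA'e : A'.1.1 *ᵥ e0 = (d * c) • v := by
      rw [hA', Matrix.smul_mulVec, show A.1.1 *ᵥ e0 = c • v from hA 0, smul_smul]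
    have : (A'⁻¹ * g * A'⁻¹⁻¹).1.1 *ᵥ x = (x 0 * μ) • e0 := by
      rw [inv_inv, suMat_mulVec_mul, suMat_mulVec_mul, hxe, Matrix.mulVec_smul, hA'e, smul_smul,
        Matrix.mulVec_smul, show g.1.1 *ᵥ v = μ • v from hgv, smul_smul,
        show x 0 * (d * c) * μ = (x 0 * μ) * (d * c) by ring, ← smul_smul, ← hA'e, ← Matrix.mulVec_smul,
        su_inv_mulVec]
      simp [he0]
    rw [this]
    exact ⟨by simp [he0], by simp [he0]⟩
  · -- carry an element into the normaliser
    have carry : ∀ (A : ↥(Cfsg.GU 3 F q)) (X : ↥(Cfsg.SU 3 F q)) (_ : X ∈ normStab (q := q) φ),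
        (∀ x, g.1.1 *ᵥ (A.1.1 *ᵥ x) = A.1.1 *ᵥ (X.1.1 *ᵥ x)) →
        ∃ y : ↥(Cfsg.SU 3 F q), y * g * y⁻¹ ∈ normStab (q := q) φ := by
      intro A X hX h
      obtain ⟨A', c, hc0, hA'⟩ := scale A
      refine ⟨A'⁻¹, ?_⟩
      rwa [show A'⁻¹ * g * A'⁻¹⁻¹ = X from su_ext fun x => by
        rw [inv_inv, suMat_mulVec_mul, suMat_mulVec_mul, hA', Matrix.smul_mulVec, Matrix.mulVec_smul, h,
          ← Matrix.smul_mulVec, ← hA', su_inv_mulVec]]
    by_cases hev : ∃ μ, gl.1.charpoly.IsRoot μ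
    · obtain ⟨v, μ, hv, hgv⟩ := exists_eigvec hev
      obtain ⟨g3, g2⟩ := regular_of_eigen C hF (g := gl) g.1.2 hgu hpt hv hgv
      obtain ⟨A, hA⟩ := regular_conj C (g := gl) (h := Matrix.SpecialLinearGroup.toGL S.1) hgu hSf g3 g2
        hS3.1 hS3.2
      obtain ⟨y, hy⟩ := carry A S hSmem fun x => (hA x).symm
      exact ⟨y, Or.inr hy⟩
    · push Not at hev
      set χ := gl.1.charpoly with hχdef
      have hmon : χ.Monic := Matrix.charpoly_monic _
      have hdeg : χ.natDegree = 3 := by rw [hχdef, Matrix.charpoly_natDegree_eq_dim, Fintype.card_fin]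
      have hirr : Irreducible χ :=
        (Polynomial.irreducible_iff_roots_eq_zero_of_degree_le_three (by omega) (by omega)).2 (by
          refine Multiset.eq_zero_of_forall_notMem fun μ hμ => hev μ ?_
          exact (Polynomial.mem_roots hmon.ne_zero).1 hμ)
      haveI := Fact.mk hirr
      haveI : FiniteDimensional F (AdjoinRoot χ) := (AdjoinRoot.powerBasis hirr.ne_zero).finite
      haveI : Finite (AdjoinRoot χ) := Module.finite_of_finite F
      have hdA : finrank F (AdjoinRoot χ) = 3 :=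
        ((AdjoinRoot.powerBasis hirr.ne_zero).finrank.trans (AdjoinRoot.powerBasis_dim hirr.ne_zero)).trans hdeg
      obtain ⟨j⟩ := FiniteField.nonempty_algHom_of_finrank_dvd (F := F) (K := E) (L := AdjoinRoot χ)
        (by rw [hd, hdA])
      have jbij : Function.Bijective j :=
        ⟨j.toRingHom.injective, (LinearMap.injective_iff_surjective_of_finrank_eq_finrank (f := j.toLinearMap)
          (by rw [hd, hdA])).1 j.toRingHom.injective⟩
      let toM : AdjoinRoot χ →ₐ[F] Matrix (Fin 3) (Fin 3) F :=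
        Ideal.Quotient.liftₐ (Ideal.span {χ}) (Polynomial.aeval gl.1) fun a ha => by
          obtain ⟨b, rfl⟩ := Ideal.mem_span_singleton'.1 ha
          rw [map_mul, hχdef, Matrix.aeval_self_charpoly, mul_zero]
      let ψ : E →ₐ[F] Matrix (Fin 3) (Fin 3) F := toM.comp j
      have hψinj : Function.Injective ψ := ψ.toRingHom.injective
      obtain ⟨γ, hγ⟩ := jbij.2 (AdjoinRoot.root χ)
      have hψγ : ψ γ = gl.1 := by
        show toM (j γ) = _
        rw [hγ]
        show Polynomial.aeval gl.1 X = _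
        rw [Polynomial.aeval_X]
      have hγ0 : γ ≠ 0 := fun h0 => by
        rw [h0, map_zero] at hψγ
        exact (Matrix.GeneralLinearGroup.det gl).ne_zero
          (show gl.1.det = 0 by rw [← hψγ, Matrix.det_zero])
      have hψγ' : ψ γ⁻¹ = (gl⁻¹).1 := by
        calc ψ γ⁻¹ = ψ γ⁻¹ * (gl.1 * (gl⁻¹).1) := by rw [Units.mul_inv, mul_one]
          _ = _ := by rw [← mul_assoc, ← hψγ, ← map_mul, inv_mul_cancel₀ hγ0, map_one, one_mul]
      -- the adjoint
      have hpoly : ∀ e : E, ∃ e', ∀ x y, C.form (ψ e *ᵥ x) y = C.form x (ψ e' *ᵥ y) := by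
        intro e
        obtain ⟨P, hP⟩ := AdjoinRoot.mk_surjective (j e)
        refine ⟨aeval γ⁻¹ (P.map (C.bar : F →+* F)), fun x y => ?_⟩
        rw [← Polynomial.aeval_algHom_apply, hψγ', ← form_aeval C gl hgu]
        congr 2
        show toM (j e) = _
        rw [← hP]
        rfl
      choose θ hθ using hpoly
      have uniq : ∀ e e', (∀ x y, C.form (ψ e *ᵥ x) y = C.form x (ψ e' *ᵥ y)) → θ e = e' := by
        intro e e' h
        refine hψinj (Matrix.ext_iff_mulVec.2 fun y => sub_eq_zero.1 (C.eq_zero_of_form' fun x => ?_))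
        rw [C.form_sub_right, ← hθ, h, sub_self]
      have hθadd : ∀ a b, θ (a + b) = θ a + θ b := fun a b => uniq _ _ fun x y => by
        rw [map_add, map_add, Matrix.add_mulVec, Matrix.add_mulVec, C.form_add_left, C.form_add_right, hθ, hθ]
      have hθmul : ∀ a b, θ (a * b) = θ a * θ b := fun a b => uniq _ _ fun x y => by
        rw [map_mul, mul_comm (θ a), map_mul, ← Matrix.mulVec_mulVec, ← Matrix.mulVec_mulVec, hθ, hθ]
      have hθc : ∀ c, θ (algebraMap F E c) = algebraMap F E (C.bar c) := fun c => uniq _ _ fun x y => by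
        rw [AlgHom.commutes, AlgHom.commutes, Algebra.algebraMap_eq_smul_one, Algebra.algebraMap_eq_smul_one,
          Matrix.smul_mulVec, Matrix.smul_mulVec, Matrix.one_mulVec, Matrix.one_mulVec, C.form_smul_left,
          C.form_smul_right, C.bar_bar]
      have hθθ : ∀ e, θ (θ e) = e := fun e => uniq _ _ fun x y => by
        rw [← C.bar_form, ← hθ, C.bar_form]
      let Θ' : E →+* E :=
        { toFun := θ
          map_one' := by simpa using hθc 1
          map_mul' := hθmul
          map_zero' := by simpa using hθc 0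
          map_add' := hθadd }
      let κ : E →ₐ[F] E :=
        { (C'.bar : E →+* E).comp Θ' with
          commutes' := fun c => by
            show C'.bar (θ (algebraMap F E c)) = _
            rw [hθc, hbar, C.bar_bar] }
      have hκ : κ * κ = 1 := AlgHom.ext fun e => by
        show C'.bar (θ (C'.bar (θ e))) = e
        have hcomm : θ (C'.bar (θ e)) = C'.bar (θ (θ e)) := by
          rw [C'.bar_eq, C'.bar_eq]
          exact map_pow Θ' _ _
        rw [hcomm, hθθ, C'.bar_bar]
      have hκ1 : κ = 1 := by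
        obtain ⟨i, hi⟩ := (FiniteField.bijective_frobeniusAlgHom_pow F E).2 κ
        have h3 : FiniteField.frobeniusAlgHom F E ^ (2 * i.1) = FiniteField.frobeniusAlgHom F E ^ 0 := by
          rw [pow_zero, two_mul, pow_add, show _ ^ i.1 = κ from hi, hκ]
        have h4 := (IsOfFinOrder.pow_eq_pow_iff_modEq (orderOf_pos_iff.1
          (by rw [FiniteField.orderOf_frobeniusAlgHom, hd]; norm_num))).1 h3
        rw [FiniteField.orderOf_frobeniusAlgHom] at h4
        simp only [hd, Nat.ModEq] at h4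
        have hi3 : i.1 < 3 := lt_of_lt_of_eq i.2 hd
        rw [← show _ ^ i.1 = κ from hi, show i.1 = 0 by omega, pow_zero]
      have hθbar : ∀ e, θ e = C'.bar e := fun e => by
        have h := congrArg (fun k : E →ₐ[F] E => C'.bar (k e)) hκ1
        simpa [κ, Θ', C'.bar_bar] using h
      have hψsa : SelfAdj C C'.bar ψ := ⟨fun e x y => by rw [← hθbar]; exact hθ e x y⟩
      obtain ⟨v0, hv0, hv0f⟩ := exists_trace_vector C hd C' htr hψsa
      -- the isometry from the model
      let T : (Fin 3 → F) →ₗ[F] (Fin 3 → F) :=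
        { toFun := fun x => ψ (Θ x) *ᵥ v0
          map_add' := fun a b => by rw [map_add, map_add, Matrix.add_mulVec]
          map_smul' := fun c a => by rw [map_smul, map_smul, Matrix.smul_mulVec, RingHom.id_apply] }
      have hT : Function.Bijective T := hv0.comp Θ.bijective
      let Tm : GL (Fin 3) F := Matrix.GeneralLinearGroup.toLin.symm
        (LinearMap.GeneralLinearGroup.ofLinearEquiv (LinearEquiv.ofBijective T hT))
      have hTm : ∀ x, Tm.1 *ᵥ x = T x := fun x => by
        have h := (Matrix.GeneralLinearGroup.toLin (n := Fin 3) (R := F)).apply_symm_apply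
          (LinearMap.GeneralLinearGroup.ofLinearEquiv (LinearEquiv.ofBijective T hT))
        exact congrArg (fun L : LinearMap.GeneralLinearGroup F (Fin 3 → F) => L.val x) h
      let A : ↥(Cfsg.GU 3 F q) := ⟨Tm, (CfsgLib.Classical.gu_mem_iff C).2 fun x y => by
        rw [hTm, hTm]
        show C.form (ψ (Θ x) *ᵥ v0) (ψ (Θ y) *ᵥ v0) = _
        rw [hv0f, hΘ]⟩
      -- the element is multiplication by the generator in the model
      have hkey : ∀ x, gl.1 *ᵥ (A.1.1 *ᵥ x) = A.1.1 *ᵥ (φ γ *ᵥ x) := fun x => by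
        show gl.1 *ᵥ (Tm.1 *ᵥ x) = Tm.1 *ᵥ _
        rw [hTm, hTm]
        show _ *ᵥ (ψ (Θ x) *ᵥ v0) = ψ (Θ (φ γ *ᵥ x)) *ᵥ v0
        rw [hφ, map_mul, hψγ, Matrix.mulVec_mulVec]
      have hdetγ : (φ γ).det = 1 := by
        have h : A.1.1 * φ γ = gl.1 * A.1.1 := Matrix.ext_iff_mulVec.2 fun x => by
          rw [← Matrix.mulVec_mulVec, ← Matrix.mulVec_mulVec, hkey]
        have h' := congrArg Matrix.det h
        rw [Matrix.det_mul, Matrix.det_mul, show gl.1.det = 1 from g.1.2, one_mul,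
          mul_eq_left₀ ((Matrix.isUnit_iff_isUnit_det _).1 A.1.isUnit).ne_zero] at h'
        exact h'
      let X : ↥(Cfsg.SU 3 F q) := C.mkSU (φ γ) hdetγ fun a b => by
        have h := hgu (A.1.1 *ᵥ a) (A.1.1 *ᵥ b)
        rw [show g.1.1 *ᵥ (A.1.1 *ᵥ a) = _ from hkey a, show g.1.1 *ᵥ (A.1.1 *ᵥ b) = _ from hkey b,
          form_gu C, form_gu C] at h
        exact h
      have hX : X ∈ normStab (q := q) φ := mem_normStab hφinj fun e => ⟨e, by
        show φ γ * φ e = φ e * φ γ
        rw [← map_mul, ← map_mul, mul_comm]⟩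
      obtain ⟨y, hy⟩ := carry A X hX hkey
      exact ⟨y, Or.inr hy⟩

end CfsgLib.Classical.UnionTwo.Unit
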